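import Mathlib.GroupTheory.Index
import Mathlib.Algebra.BigOperators.Group.Finset.Basic
import Mathlib.SetTheory.Cardinal.NatCard
import Mathlib.Tactic
import Mathlib.GroupTheory.SpecificGroups.Cyclic
import Mathlib.GroupTheory.PGroup
import Cfsg.Agent.SylowL.NoComp
import Cfsg.Agent.SignalizersComponents.Components
import Cfsg.Agent.SignalizersComponents.CompBasic
import Cfsg.Agent.S0542
import Cfsg.Agent.Mrg.Omega.BTwo.QuadGrp
import Cfsg.Agent.Omega.Lie.CompB
import Cfsg.Agent.Lib.GenFitting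
import Cfsg.Agent.Mrg.Omega.BTwo.Conj
import Cfsg.Agent.OddHalf.Known

-- merged: Cfsg.Agent.Omega.Lie.LemmaT
section

/-!
# (T1) of bb OMEGA #12098: `A` normalises every component

`H` a group, `A` an elementary abelian 2-subgroup normalised by `S`, `T` a finite nontrivial group normalising `A`,
every `1 ≠ t ∈ T` acts fixed point freely on `A`.  `K` is a subgroup such that for all `g` either `g` normalises
`K` or `[K, K^g] = 1` (a component), without central involutions, and with an involution in `S ∩ K`.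
Then `A` normalises `K`.
-/

set_option autoImplicit false

namespace Cfsg.Agent.Omega.Lie.LemmaT

variable {H : Type*} [Group H]

/-- The abstract setting of TEXT LIE-1, (T1) and (T2). -/
structure Set0 (S A T : Subgroup H) : Prop where
  /-- `A` is elementary abelian -/
  sq : ∀ a ∈ A, a * a = 1
  /-- `A` is normal in `S` -/
  SA : ∀ s ∈ S, ∀ a ∈ A, s * a * s⁻¹ ∈ A
  /-- `T` normalises `A` -/
  TA : ∀ t ∈ T, ∀ a ∈ A, t * a * t⁻¹ ∈ A
  /-- the elements of `T` act fixed point freely on `A` -/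
  free : ∀ t ∈ T, t ≠ 1 → ∀ a ∈ A, t * a * t⁻¹ = a → a = 1

/-- `K` is a component-like subgroup: two conjugates are equal or commute; no central involutions. -/
structure Comp (K : Subgroup H) : Prop where
  conj : ∀ g : H, (∀ y, y ∈ K ↔ g * y * g⁻¹ ∈ K) ∨ ∀ x ∈ K, ∀ y ∈ K, x * (g * y * g⁻¹) = g * y * g⁻¹ * x
  cen : ∀ x ∈ K, x * x = 1 → (∀ y ∈ K, x * y = y * x) → x = 1

namespace Set0

variable {S A T K : Subgroup H}

theorem inv (h : Set0 S A T) {a : H} (ha : a ∈ A) : a⁻¹ = a := inv_eq_of_mul_eq_one_left (h.sq a ha)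

theorem comm (h : Set0 S A T) {a b : H} (ha : a ∈ A) (hb : b ∈ A) : a * b = b * a := by
  have h1 := h.inv (A.mul_mem ha hb)
  rw [mul_inv_rev, h.inv ha, h.inv hb] at h1
  exact h1.symm

/-- an element of `T - 1` does not normalise a subgroup of index two of `A` -/
theorem not_index_two [Finite A] (h : Set0 S A T) {t : H} (ht : t ∈ T) (ht1 : t ≠ 1) {B : Subgroup H}
    {a : H} (ha : a ∈ A) (haB : a ∉ B) (hB : ∀ x ∈ A, x ∈ B ∨ a * x ∈ B)
    (htB : ∀ x ∈ A, x ∈ B ↔ t * x * t⁻¹ ∈ B) : False := by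
  have h0 : ∀ x ∈ A, x * (t * x * t⁻¹) ∈ B := by
    intro x hx
    by_cases hxB : x ∈ B
    · exact B.mul_mem hxB ((htB x hx).1 hxB)
    · have h1 : t * x * t⁻¹ ∉ B := fun h' => hxB ((htB x hx).2 h')
      have h2 := (hB x hx).resolve_left hxB
      have h3 := (hB _ (h.TA t ht x hx)).resolve_left h1
      have h4 : x * (t * x * t⁻¹) = (a * x) * (a * (t * x * t⁻¹)) := by
        rw [h.comm ha hx]
        calc x * (t * x * t⁻¹) = x * (a * a) * (t * x * t⁻¹) := by rw [h.sq a ha, mul_one]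
          _ = _ := by group
      rw [h4]
      exact B.mul_mem h2 h3
  let f : A → A := fun x => ⟨x * (t * x * t⁻¹), A.mul_mem x.2 (h.TA t ht x x.2)⟩
  have hf : Function.Injective f := by
    intro x y hxy
    have h1 : (x : H) * (t * x * t⁻¹) = y * (t * y * t⁻¹) := congrArg Subtype.val hxy
    have h2 : t * ((y : H) * x) * t⁻¹ = y * x := by
      have e1 : (y : H) * x * (t * x * t⁻¹) = t * y * t⁻¹ := by
        calc (y : H) * x * (t * x * t⁻¹) = y * (x * (t * x * t⁻¹)) := by group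
          _ = (y * y) * (t * y * t⁻¹) := by rw [h1]; group
          _ = _ := by rw [h.sq _ y.2, one_mul]
      calc t * ((y : H) * x) * t⁻¹ = (t * y * t⁻¹) * (t * x * t⁻¹) := by group
        _ = y * x * (t * x * t⁻¹) * (t * x * t⁻¹) := by rw [e1]
        _ = y * x * (t * (x * x) * t⁻¹) := by group
        _ = y * x := by rw [h.sq _ x.2]; group
    have h3 := h.free t ht ht1 _ (A.mul_mem y.2 x.2) h2
    apply Subtype.ext
    calc (x : H) = (y * y) * x := by rw [h.sq _ y.2, one_mul]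
      _ = y * (y * x) := by group
      _ = y := by rw [h3, mul_one]
  obtain ⟨x, hx⟩ := (Finite.injective_iff_surjective.1 hf) ⟨a, ha⟩
  have h5 : (x : H) * (t * x * t⁻¹) = a := congrArg Subtype.val hx
  exact haB (h5 ▸ h0 x x.2)

/-- **(T1)** `A` normalises every component. -/
theorem normalises [Finite A] [Finite T] (h : Set0 S A T) (hT : ∃ t ∈ T, t ≠ 1) (hK : Comp K)
    {x : H} (hxK : x ∈ K) (hxS : x ∈ S) (hx1 : x ≠ 1) (hx2 : x * x = 1) {a : H} (ha : a ∈ A) :
    ∀ y, y ∈ K ↔ a * y * a⁻¹ ∈ K := by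
  classical
  let N : H → Prop := fun g => ∀ y, y ∈ K ↔ g * y * g⁻¹ ∈ K
  have hN1 : N 1 := by intro y; simp
  have hNmul : ∀ g g', N g → N g' → N (g * g') := by
    intro g g' hg hg' y
    rw [hg' y, hg (g' * y * g'⁻¹)]
    have : g * (g' * y * g'⁻¹) * g⁻¹ = g * g' * y * (g * g')⁻¹ := by group
    rw [this]
  have hNinv : ∀ g, N g → N g⁻¹ := by
    intro g hg y
    rw [hg (g⁻¹ * y * g⁻¹⁻¹)]
    have : g * (g⁻¹ * y * g⁻¹⁻¹) * g⁻¹ = y := by group
    rw [this]
  have hcom : ∀ g, ¬ N g → ∀ x ∈ K, ∀ y ∈ K, x * (g * y * g⁻¹) = g * y * g⁻¹ * x := fun g hg =>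
    (hK.conj g).resolve_left hg
  by_contra haN
  have haN' : ¬ N a := haN
  -- the element `u`
  set u := x * (a * x * a⁻¹) with hu
  have hxi : x⁻¹ = x := inv_eq_of_mul_eq_one_left hx2
  have huA : u ∈ A := by
    have h1 : u = (x * a * x⁻¹) * a⁻¹ := by rw [hu, hxi]; group
    rw [h1]
    exact A.mul_mem (h.SA x hxS a ha) (A.inv_mem ha)
  -- if all elements of `K` commute with `u` we are done
  have hend : (∀ y ∈ K, y * u = u * y) → False := by
    intro hy
    apply hx1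
    apply hK.cen x hxK hx2
    intro y hyK
    have h1 := hcom a haN' y hyK x hxK
    have h2 := hy y hyK
    have h3 : x = u * (a * x * a⁻¹)⁻¹ := by rw [hu]; group
    have h4 : y * (a * x * a⁻¹)⁻¹ = (a * x * a⁻¹)⁻¹ * y := by
      rw [eq_inv_mul_iff_mul_eq, ← mul_assoc, ← h1, mul_assoc, mul_inv_cancel, mul_one]
    rw [h3, mul_assoc, ← h4, ← mul_assoc, ← h2, mul_assoc]
  -- `N ∩ A` has index two
  have hidx : ∀ a' ∈ A, N a' ∨ N (a * a') := by
    intro a' ha'
    by_contra hcon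
    push Not at hcon
    obtain ⟨h1, h2⟩ := hcon
    apply hend
    intro y hy
    have e : u = (a' * x * a'⁻¹) * (a * a' * x * (a * a')⁻¹) := by
      have e1 : a' * u * a'⁻¹ = u := by rw [h.comm ha' huA]; group
      rw [← e1, hu, h.comm ha ha']; group
    rw [e, ← mul_assoc, hcom a' h1 y hy x hxK, mul_assoc, hcom _ h2 y hy x hxK, ← mul_assoc]
  -- elements of `T - 1` move the pair
  have hTN : ∀ t ∈ T, t ≠ 1 → ∀ a' ∈ A, ¬ N (a' * t) := by
    intro t ht ht1 a' ha' hn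
    let B : Subgroup H :=
      { carrier := {g | N g}
        one_mem' := hN1
        mul_mem' := fun {g g'} hg hg' => hNmul g g' hg hg'
        inv_mem' := fun {g} hg => hNinv g hg }
    refine h.not_index_two ht ht1 (B := B) ha haN' (fun x hx => hidx x hx) ?_
    intro x hx
    have key : t * x * t⁻¹ = (a' * t) * x * (a' * t)⁻¹ := by
      have h1 := h.TA t ht x hx
      calc t * x * t⁻¹ = a' * (t * x * t⁻¹) * a'⁻¹ := by rw [h.comm ha' h1]; group
        _ = _ := by group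
    constructor
    · intro hxB
      rw [key]
      exact B.mul_mem (B.mul_mem hn hxB) (B.inv_mem hn)
    · intro hxB
      rw [key] at hxB
      have := B.mul_mem (B.mul_mem (B.inv_mem (x := a' * t) hn) hxB) hn
      have e : (a' * t)⁻¹ * (a' * t * x * (a' * t)⁻¹) * (a' * t) = x := by group
      rwa [e] at this
  -- the product
  let _ : CommGroup A := { (inferInstance : Group A) with
    mul_comm := fun x y => Subtype.ext (h.comm x.2 y.2) }
  have _ : Fintype T := Fintype.ofFinite T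
  let c : T → A → A := fun t v => ⟨t * v * (t : H)⁻¹, h.TA t t.2 v v.2⟩
  let U : T → A := fun t => c t ⟨u, huA⟩
  let w : A := ∏ t : T, U t
  have hcmul : ∀ t (v v' : A), c t (v * v') = c t v * c t v' := by
    intro t v v'
    apply Subtype.ext
    show (t : H) * (v * v') * (t : H)⁻¹ = (t * v * (t : H)⁻¹) * (t * v' * (t : H)⁻¹)
    group
  have hfix : ∀ s : T, c s w = w := by
    intro s
    let cs : A →* A := MonoidHom.mk' (c s) (hcmul s)
    have h1 : c s w = ∏ t : T, c s (U t) := map_prod cs U Finset.univ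
    have h2 : ∀ t : T, c s (U t) = U (s * t) := by
      intro t
      apply Subtype.ext
      show (s : H) * (t * u * (t : H)⁻¹) * (s : H)⁻¹ = (s * t : H) * u * ((s * t : H))⁻¹
      group
    rw [h1]
    simp_rw [h2]
    exact Fintype.prod_equiv (Equiv.mulLeft s) _ _ (fun t => rfl)
  have hw1 : w = 1 := by
    obtain ⟨t, ht, ht1⟩ := hT
    have := congrArg Subtype.val (hfix ⟨t, ht⟩)
    exact Subtype.ext (h.free t ht ht1 w w.2 this)
  -- elements of `K` commute with the other factors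
  have hother : ∀ y ∈ K, ∀ t : T, t ≠ 1 → y * (U t : H) = U t * y := by
    intro y hy t ht1
    have ht1' : (t : H) ≠ 1 := fun h' => ht1 (Subtype.ext h')
    have h1 : ¬ N (t : H) := by
      have := hTN t t.2 ht1' 1 A.one_mem
      rwa [one_mul] at this
    have h2 : ¬ N ((t : H) * a) := by
      have h3 := hTN t t.2 ht1' (t * a * (t : H)⁻¹) (h.TA t t.2 a ha)
      have e : (t : H) * a * (t : H)⁻¹ * t = t * a := by group
      rwa [e] at h3
    have e : (U t : H) = (t * x * (t : H)⁻¹) * ((t * a) * x * ((t : H) * a)⁻¹) := by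
      show (t : H) * u * (t : H)⁻¹ = _
      rw [hu]; group
    rw [e, ← mul_assoc, hcom _ h1 y hy x hxK, mul_assoc, hcom _ h2 y hy x hxK, ← mul_assoc]
  apply hend
  intro y hy
  have h1 : w = U 1 * ∏ t ∈ Finset.univ.erase (1 : T), U t :=
    (Finset.mul_prod_erase _ _ (Finset.mem_univ _)).symm
  have h2 : (U 1 : H) = u := by
    show ((1 : T) : H) * u * ((1 : T) : H)⁻¹ = u
    rw [Subgroup.coe_one]; group
  let Cy : Subgroup A := (Subgroup.centralizer ({y} : Set H)).comap A.subtype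
  have h3 : (∏ t ∈ Finset.univ.erase (1 : T), U t) ∈ Cy := by
    refine Subgroup.prod_mem _ ?_
    intro t ht
    rw [Subgroup.mem_comap, Subgroup.mem_centralizer_singleton_iff]
    exact (hother y hy t (Finset.ne_of_mem_erase ht)).symm
  rw [Subgroup.mem_comap, Subgroup.mem_centralizer_singleton_iff] at h3
  set p := ∏ t ∈ Finset.univ.erase (1 : T), U t with hp
  have h4 : u * (p : H) = 1 := by
    have := congrArg Subtype.val (h1.symm.trans hw1)
    rw [← h2]; exact this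
  have h5 : u = (p : H)⁻¹ := eq_inv_of_mul_eq_one_left h4
  rw [h5]
  have h6 : (p : H) * y = y * p := h3
  rw [eq_inv_mul_iff_mul_eq, ← mul_assoc, h6, mul_assoc, mul_inv_cancel, mul_one]

end Set0

end Cfsg.Agent.Omega.Lie.LemmaT

end

-- merged: Cfsg.Agent.Omega.Lie.CompPerm
section

/-!
# The torus normalises every component (bb OMEGA #11575 (ii))

`T` is commutative and acts regularly on `A - 1`, `A` elementary abelian of order at least `8`.  `K` is a subgroup such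
that `K^t = K` or `[K, K^t] = 1` for `t ∈ T`, and `x ∈ K - Z(K)` with `x⁻¹ x^t ∈ A` for all `t ∈ T`.
Then `T` normalises `K`.
-/

set_option autoImplicit false

namespace Cfsg.Agent.Omega.Lie.CompPerm

variable {G : Type*} [Group G]

/-- Order of a group acting regularly on `A - 1`. -/
theorem card_regular [Finite G] {A T : Subgroup G} (hTA : ∀ t ∈ T, ∀ a ∈ A, t * a * t⁻¹ ∈ A)
    (htrans : ∀ a ∈ A, a ≠ 1 → ∀ b ∈ A, b ≠ 1 → ∃ t ∈ T, t * a * t⁻¹ = b)
    (hreg : ∀ a ∈ A, a ≠ 1 → ∀ t ∈ T, t * a * t⁻¹ = a → t = 1) {a : G} (ha : a ∈ A) (ha1 : a ≠ 1) :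
    Nat.card T + 1 = Nat.card A := by
  classical
  have h1 : Nat.card T = Nat.card {b : A // b ≠ 1} := by
    refine Nat.card_congr (Equiv.ofBijective (fun t : T => ⟨⟨t * a * (t : G)⁻¹, hTA t t.2 a ha⟩, ?_⟩) ⟨?_, ?_⟩)
    · intro h
      have h' : (t : G) * a * (t : G)⁻¹ = 1 := congrArg Subtype.val h
      exact ha1 (by simpa using h')
    · intro s t hst
      have h' : (s : G) * a * (s : G)⁻¹ = t * a * (t : G)⁻¹ := congrArg (fun z => ((z : {b : A // b ≠ 1}) : A).1) hst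
      have h2 : (t : G)⁻¹ * s = 1 := by
        refine hreg a ha ha1 _ (T.mul_mem (T.inv_mem t.2) s.2) ?_
        calc (t : G)⁻¹ * s * a * ((t : G)⁻¹ * s)⁻¹ = (t : G)⁻¹ * (s * a * (s : G)⁻¹) * t := by group
          _ = (t : G)⁻¹ * (t * a * (t : G)⁻¹) * t := by rw [h']
          _ = a := by group
      exact Subtype.ext (by rw [inv_mul_eq_one] at h2; exact h2.symm)
    · rintro ⟨⟨b, hb⟩, hb1⟩
      obtain ⟨t, ht, e⟩ := htrans a ha ha1 b hb (fun h => hb1 (Subtype.ext h))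
      exact ⟨⟨t, ht⟩, Subtype.ext (Subtype.ext e)⟩
  rw [h1]
  have h2 : Nat.card A = Nat.card {b : A // b = 1} + Nat.card {b : A // b ≠ 1} := by
    rw [← Nat.card_sum]
    exact (Nat.card_congr (Equiv.sumCompl (fun b : A => b = 1))).symm
  rw [h2]
  have h3 : Nat.card {b : A // b = 1} = 1 := by
    rw [Nat.card_eq_one_iff_unique]
    exact ⟨⟨fun x y => Subtype.ext (x.2.trans y.2.symm)⟩, ⟨⟨1, rfl⟩⟩⟩
  omega

/-- `2^n + 2 = 3 * 2^b` forces `n ≤ 2`. -/
theorem arith {n b : ℕ} (hn : 3 ≤ n) (h : 2 ^ n + 2 = 3 * 2 ^ b) : False := by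
  obtain ⟨k, rfl⟩ := Nat.exists_eq_add_of_le hn
  rcases b with _ | _ | b
  · norm_num [pow_add] at h
    omega
  · norm_num [pow_add] at h
    have : 0 < 2 ^ k := by positivity
    omega
  · rw [pow_add, pow_succ, pow_succ] at h
    omega

variable {A T K : Subgroup G} {x : G}

/-- **`T` normalises `K`.** -/
theorem normalizes [Finite G] (hTc : ∀ s ∈ T, ∀ t ∈ T, s * t = t * s) (hA2 : ∀ a ∈ A, a * a = 1)
    (hTA : ∀ t ∈ T, ∀ a ∈ A, t * a * t⁻¹ ∈ A)
    (htrans : ∀ a ∈ A, a ≠ 1 → ∀ b ∈ A, b ≠ 1 → ∃ t ∈ T, t * a * t⁻¹ = b)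
    (hreg : ∀ a ∈ A, a ≠ 1 → ∀ t ∈ T, t * a * t⁻¹ = a → t = 1) (hq : 8 ≤ Nat.card A)
    (hK : ∀ t ∈ T, (∀ y, t * y * t⁻¹ ∈ K ↔ y ∈ K) ∨ ∀ y ∈ K, ∀ z ∈ K, y * (t * z * t⁻¹) = t * z * t⁻¹ * y)
    (hxK : x ∈ K) (hxz : ∃ y ∈ K, x * y ≠ y * x) (hxA : ∀ t ∈ T, x⁻¹ * (t * x * t⁻¹) ∈ A) :
    ∀ t ∈ T, ∀ y, t * y * t⁻¹ ∈ K ↔ y ∈ K := by
  classical
  by_contra hcon
  push Not at hcon
  obtain ⟨s, hs, y0, hy0⟩ := hcon
  -- the stabiliser
  let T1 : Subgroup G := {
    carrier := {t | t ∈ T ∧ ∀ y, t * y * t⁻¹ ∈ K ↔ y ∈ K}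
    one_mem' := ⟨T.one_mem, fun y => by simp⟩
    mul_mem' := by
      rintro u v ⟨hu, hu'⟩ ⟨hv, hv'⟩
      refine ⟨T.mul_mem hu hv, fun y => ?_⟩
      have e : u * v * y * (u * v)⁻¹ = u * (v * y * v⁻¹) * u⁻¹ := by group
      rw [e, hu', hv']
    inv_mem' := by
      rintro u ⟨hu, hu'⟩
      refine ⟨T.inv_mem hu, fun y => ?_⟩
      rw [← hu' (u⁻¹ * y * u⁻¹⁻¹)]
      have e : u * (u⁻¹ * y * u⁻¹⁻¹) * u⁻¹ = y := by group
      rw [e] }
  have hT1 : ∀ t, t ∈ T1 ↔ t ∈ T ∧ ∀ y, t * y * t⁻¹ ∈ K ↔ y ∈ K := fun t => Iff.rfl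
  have hT1T : T1 ≤ T := fun t ht => ht.1
  have hs1 : s ∉ T1 := fun h => by
    rcases hy0 with ⟨h1, h2⟩ | ⟨h1, h2⟩
    · exact h2 ((h.2 y0).1 h1)
    · exact h1 ((h.2 y0).2 h2)
  -- the elements of `T` outside `T1` move `K` to a commuting conjugate
  have hcomm : ∀ t ∈ T, t ∉ T1 → ∀ y ∈ K, ∀ z ∈ K, y * (t * z * t⁻¹) = t * z * t⁻¹ * y := by
    intro t ht ht1
    rcases hK t ht with h | h
    · exact absurd ⟨ht, h⟩ ht1
    · exact h
  -- the conjugate of `x` by `t` moves `K^u` iff `t⁻¹ u ∈ T1`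
  have hmove : ∀ t ∈ T, ∀ u ∈ T, t⁻¹ * u ∈ T1 → ∃ y ∈ K, t * x * t⁻¹ * (u * y * u⁻¹) ≠ u * y * u⁻¹ * (t * x * t⁻¹) := by
    intro t ht u hu h
    obtain ⟨y, hy, hxy⟩ := hxz
    have h1 := (T1.inv_mem h).2 y
    refine ⟨u⁻¹ * t * y * (u⁻¹ * t)⁻¹, ?_, ?_⟩
    · have e : u⁻¹ * t * y * (u⁻¹ * t)⁻¹ = (t⁻¹ * u)⁻¹ * y * (t⁻¹ * u)⁻¹⁻¹ := by group
      rw [e, h1]
      exact hy
    · intro h2
      apply hxy
      have e1 : u * (u⁻¹ * t * y * (u⁻¹ * t)⁻¹) * u⁻¹ = t * y * t⁻¹ := by group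
      rw [e1] at h2
      calc x * y = t⁻¹ * (t * x * t⁻¹ * (t * y * t⁻¹)) * t := by group
        _ = t⁻¹ * (t * y * t⁻¹ * (t * x * t⁻¹)) * t := by rw [h2]
        _ = y * x := by group
  have hfix : ∀ t ∈ T, ∀ u ∈ T, t⁻¹ * u ∉ T1 → ∀ y ∈ K,
      t * x * t⁻¹ * (u * y * u⁻¹) = u * y * u⁻¹ * (t * x * t⁻¹) := by
    intro t ht u hu h y hy
    have h1 := hcomm _ (T.mul_mem (T.inv_mem ht) hu) h x hxK y hy
    calc t * x * t⁻¹ * (u * y * u⁻¹) = t * (x * (t⁻¹ * u * y * (t⁻¹ * u)⁻¹)) * t⁻¹ := by group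
      _ = t * (t⁻¹ * u * y * (t⁻¹ * u)⁻¹ * x) * t⁻¹ := by rw [h1]
      _ = _ := by group
  have hfix' : ∀ t ∈ T, ∀ u ∈ T, t⁻¹ * u ∉ T1 → ∀ y ∈ K,
      t * x⁻¹ * t⁻¹ * (u * y * u⁻¹) = u * y * u⁻¹ * (t * x⁻¹ * t⁻¹) := by
    intro t ht u hu h y hy
    have h1 : Commute (t * x * t⁻¹) (u * y * u⁻¹) := hfix t ht u hu h y hy
    have h2 := h1.inv_left
    have e : (t * x * t⁻¹)⁻¹ = t * x⁻¹ * t⁻¹ := by group
    rw [e] at h2
    exact h2
  -- the conjugates of `a`
  have hconj : ∀ w, w * (x⁻¹ * (s * x * s⁻¹)) * w⁻¹ = w * x⁻¹ * w⁻¹ * (w * s * x * (w * s)⁻¹) := by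
    intro w; group
  set a : G := x⁻¹ * (s * x * s⁻¹) with ha
  have haA : a ∈ A := hxA s hs
  -- outside the two cosets the conjugate `a^w` centralises `K^u`
  have hDa : ∀ w ∈ T, ∀ u ∈ T, w⁻¹ * u ∉ T1 → (w * s)⁻¹ * u ∉ T1 → ∀ y ∈ K,
      w * a * w⁻¹ * (u * y * u⁻¹) = u * y * u⁻¹ * (w * a * w⁻¹) := by
    intro w hw u hu h1 h2 y hy
    rw [hconj]
    have c1 : Commute (w * x⁻¹ * w⁻¹) (u * y * u⁻¹) := hfix' w hw u hu h1 y hy
    have c2 : Commute (w * s * x * (w * s)⁻¹) (u * y * u⁻¹) := hfix _ (T.mul_mem hw hs) u hu h2 y hy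
    exact (c1.mul_left c2)
  -- `T / T1` has no involution
  have hcard := card_regular hTA htrans hreg haA
  have ha1 : a ≠ 1 := by
    intro h
    obtain ⟨y, hy, hne⟩ := hmove 1 T.one_mem 1 T.one_mem (by simp)
    apply hne
    have h1 : x = s * x * s⁻¹ := by
      rw [ha] at h
      exact inv_mul_eq_one.1 h
    have h2 := hfix s hs 1 T.one_mem (by
      rw [mul_one]
      exact fun h => hs1 (by simpa using T1.inv_mem h)) y hy
    rw [← h1] at h2
    simpa using h2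
  have hcard' := hcard ha1
  have hodd : Odd (Nat.card T) := by
    have h2 : IsPGroup 2 A := by
      intro ⟨g, hg⟩
      exact ⟨1, Subtype.ext (by simpa [pow_succ] using hA2 g hg)⟩
    obtain ⟨n, hn⟩ := (IsPGroup.iff_card (p := 2)).1 h2
    have h3 : n ≠ 0 := by
      rintro rfl
      rw [hn] at hq
      norm_num at hq
    obtain ⟨m, rfl⟩ := Nat.exists_eq_succ_of_ne_zero h3
    rw [hn, pow_succ] at hcard'
    exact ⟨2 ^ m - 1, by have : 0 < 2 ^ m := by positivity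
                         omega⟩
  have hsq : ∀ u ∈ T, u * u ∈ T1 → u ∈ T1 := by
    intro u hu huu
    have h1 : orderOf u ∣ Nat.card T := Subgroup.orderOf_dvd_natCard T hu
    have h2 : Odd (orderOf u) := Odd.of_dvd_nat hodd h1
    obtain ⟨k, hk⟩ := h2
    have h3 : u = (u * u) ^ (k + 1) := by
      have h4 : u ^ (2 * k + 1) = 1 := by rw [← hk]; exact pow_orderOf_eq_one u
      calc u = u ^ (2 * k + 1) * u := by rw [h4, one_mul]
        _ = (u * u) ^ (k + 1) := by rw [← pow_two, ← pow_mul, ← pow_succ]; congr 1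
    rw [h3]
    exact T1.pow_mem huu _
  -- (1) every element of `T` lies in one of the three cosets
  have hthree : ∀ u ∈ T, u ∈ T1 ∨ s⁻¹ * u ∈ T1 ∨ s * u ∈ T1 := by
    intro u hu
    by_contra hc
    push Not at hc
    obtain ⟨c1, c2, c3⟩ := hc
    have hne : u * a * u⁻¹ ≠ a := fun h => c1 (by rw [hreg a haA ha1 u hu h]; exact T1.one_mem)
    have hmem : a * (u * a * u⁻¹) ∈ A := A.mul_mem haA (hTA u hu a haA)
    have hne1 : a * (u * a * u⁻¹) ≠ 1 := by
      intro h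
      apply hne
      have h1 := hA2 a haA
      exact mul_left_cancel (h.trans h1.symm)
    obtain ⟨w, hw, hwa⟩ := htrans a haA ha1 _ hmem hne1
    -- the conjugates `1, s, u` are moved
    have hkey : ∀ v ∈ T, (∃ y ∈ K, a * (u * a * u⁻¹) * (v * y * v⁻¹) ≠ v * y * v⁻¹ * (a * (u * a * u⁻¹))) →
        w⁻¹ * v ∈ T1 ∨ (w * s)⁻¹ * v ∈ T1 := by
      rintro v hv ⟨y, hy, hne⟩
      by_contra hc
      push Not at hc
      rw [← hwa] at hne
      exact hne (hDa w hw v hv hc.1 hc.2 y hy)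
    have hwT := T.inv_mem hw
    have m1 : ∃ y ∈ K, a * (u * a * u⁻¹) * (1 * y * 1⁻¹) ≠ 1 * y * 1⁻¹ * (a * (u * a * u⁻¹)) := by
      obtain ⟨y, hy, hne⟩ := hmove 1 T.one_mem 1 T.one_mem (by simp)
      refine ⟨y, hy, fun h => hne ?_⟩
      have d1 : Commute (u * a * u⁻¹) (1 * y * 1⁻¹) := by
        refine hDa u hu 1 T.one_mem ?_ ?_ y hy
        · rw [mul_one]; exact fun h => c1 (by simpa using T1.inv_mem h)
        · rw [mul_one, hTc u hu s hs]; exact fun h => c3 (by simpa using T1.inv_mem h)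
      have d2 : Commute (s * x * s⁻¹) (1 * y * 1⁻¹) := hfix s hs 1 T.one_mem (by
        rw [mul_one]
        exact fun h => hs1 (by simpa using T1.inv_mem h)) y hy
      have d3 : Commute (a * (u * a * u⁻¹)) (1 * y * 1⁻¹) := h
      have d4 : Commute a (1 * y * 1⁻¹) := by
        have := d3.mul_left d1.inv_left
        simpa [mul_assoc] using this
      have d5 : Commute x⁻¹ (1 * y * 1⁻¹) := by
        have := d4.mul_left d2.inv_left
        simpa [ha, mul_assoc] using this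
      have d6 := d5.inv_left
      rw [inv_inv] at d6
      simpa using d6.eq
    have m2 : ∃ y ∈ K, a * (u * a * u⁻¹) * (s * y * s⁻¹) ≠ s * y * s⁻¹ * (a * (u * a * u⁻¹)) := by
      obtain ⟨y, hy, hne⟩ := hmove s hs s hs (by simp)
      refine ⟨y, hy, fun h => hne ?_⟩
      have d1 : Commute (u * a * u⁻¹) (s * y * s⁻¹) := by
        refine hDa u hu s hs ?_ ?_ y hy
        · exact fun h => c2 (by simpa using T1.inv_mem h)
        · intro h
          have e : (u * s)⁻¹ * s = u⁻¹ := by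
            rw [hTc u hu s hs]; group
          rw [e] at h
          exact c1 (by simpa using T1.inv_mem h)
      have d2 : Commute (1 * x⁻¹ * 1⁻¹) (s * y * s⁻¹) := hfix' 1 T.one_mem s hs (by simpa using hs1) y hy
      have d3 : Commute (a * (u * a * u⁻¹)) (s * y * s⁻¹) := h
      have d4 : Commute a (s * y * s⁻¹) := by
        have := d3.mul_left d1.inv_left
        simpa [mul_assoc] using this
      have d5 : Commute (s * x * s⁻¹) (s * y * s⁻¹) := by
        have d2' : Commute x (s * y * s⁻¹) := by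
          have := d2.inv_left
          simpa using this
        have := d2'.mul_left d4
        simpa [ha, mul_assoc] using this
      exact d5.eq
    have m3 : ∃ y ∈ K, a * (u * a * u⁻¹) * (u * y * u⁻¹) ≠ u * y * u⁻¹ * (a * (u * a * u⁻¹)) := by
      obtain ⟨y, hy, hne⟩ := hmove u hu u hu (by simp)
      refine ⟨y, hy, fun h => hne ?_⟩
      have d1 : Commute a (u * y * u⁻¹) := by
        have := hDa 1 T.one_mem u hu (by simpa using c1) (by simpa using c2) y hy
        rw [one_mul, inv_one, mul_one] at this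
        exact this
      have d3 : Commute (a * (u * a * u⁻¹)) (u * y * u⁻¹) := h
      have d4 : Commute (u * a * u⁻¹) (u * y * u⁻¹) := by
        have := d1.inv_left.mul_left d3
        simpa [mul_assoc] using this
      have d2 : Commute (u * s * x * (u * s)⁻¹) (u * y * u⁻¹) := by
        refine hfix _ (T.mul_mem hu hs) u hu ?_ y hy
        intro h
        have e : (u * s)⁻¹ * u = s⁻¹ := by group
        rw [e] at h
        exact hs1 (by simpa using T1.inv_mem h)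
      rw [hconj] at d4
      have d5 : Commute (u * x⁻¹ * u⁻¹) (u * y * u⁻¹) := by
        have := d4.mul_left d2.inv_left
        simpa [mul_assoc] using this
      have d6 := d5.inv_left
      have e : (u * x⁻¹ * u⁻¹)⁻¹ = u * x * u⁻¹ := by group
      rw [e] at d6
      exact d6.eq
    have k1 := hkey 1 T.one_mem m1
    have k2 := hkey s hs m2
    have k3 := hkey u hu m3
    -- differences
    have dif : ∀ {g v v' : G}, g⁻¹ * v ∈ T1 → g⁻¹ * v' ∈ T1 → v⁻¹ * v' ∈ T1 := by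
      intro g v v' h h'
      have := T1.mul_mem (T1.inv_mem h) h'
      have e : (g⁻¹ * v)⁻¹ * (g⁻¹ * v') = v⁻¹ * v' := by group
      rwa [e] at this
    have n1 : (1 : G)⁻¹ * s ∉ T1 := by simpa using hs1
    have n2 : (1 : G)⁻¹ * u ∉ T1 := by simpa using c1
    have n3 : s⁻¹ * u ∉ T1 := c2
    rcases k1 with k1 | k1 <;> rcases k2 with k2 | k2 <;> rcases k3 with k3 | k3
    · exact n1 (dif k1 k2)
    · exact n1 (dif k1 k2)
    · exact n2 (dif k1 k3)
    · exact n3 (dif k2 k3)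
    · exact n3 (dif k2 k3)
    · exact n2 (dif k1 k3)
    · exact n1 (dif k1 k2)
    · exact n1 (dif k1 k2)
  -- (2) the subgroup `{a^u : u ∈ T1} ∪ {1}`
  have hw1 : ∀ u ∈ T1, u ≠ 1 → ∃ w ∈ T1, w * a * w⁻¹ = a * (u * a * u⁻¹) := by
    intro u hu hu1
    have huT := hT1T hu
    have hne : u * a * u⁻¹ ≠ a := fun h => hu1 (hreg a haA ha1 u huT h)
    have hmem : a * (u * a * u⁻¹) ∈ A := A.mul_mem haA (hTA u huT a haA)
    have hne1 : a * (u * a * u⁻¹) ≠ 1 := by
      intro h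
      apply hne
      have h1 := hA2 a haA
      exact mul_left_cancel (h.trans h1.symm)
    obtain ⟨w, hw, hwa⟩ := htrans a haA ha1 _ hmem hne1
    refine ⟨w, ?_, hwa⟩
    -- `s⁻¹` is not moved by the product
    by_contra hwn
    -- `w` lies in `s T1` or `s⁻¹ T1`
    have hss : s * s ∉ T1 := fun h => hs1 (hsq s hs h)
    have hv : ∃ v ∈ T, v ∉ T1 ∧ s⁻¹ * v ∉ T1 ∧
        ∃ y ∈ K, w * a * w⁻¹ * (v * y * v⁻¹) ≠ v * y * v⁻¹ * (w * a * w⁻¹) := by
      rcases hthree w hw with h | h | h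
      · exact absurd h hwn
      · -- `w ∈ s T1` : take `v = s s`
        refine ⟨s * s, T.mul_mem hs hs, hss, ?_, ?_⟩
        · simpa using hs1
        · obtain ⟨y, hy, hne⟩ := hmove (w * s) (T.mul_mem hw hs) (s * s) (T.mul_mem hs hs) (by
            have e : (w * s)⁻¹ * (s * s) = (s⁻¹ * w)⁻¹ := by
              rw [hTc w hw s hs]; group
            rw [e]
            exact T1.inv_mem h)
          refine ⟨y, hy, fun hh => hne ?_⟩
          rw [hconj] at hh
          have d1 : Commute (w * x⁻¹ * w⁻¹) (s * s * y * (s * s)⁻¹) := by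
            refine hfix' w hw _ (T.mul_mem hs hs) ?_ y hy
            intro h'
            have := T1.mul_mem h h'
            have e : s⁻¹ * w * (w⁻¹ * (s * s)) = s := by group
            rw [e] at this
            exact hs1 this
          have d2 : Commute (w * x⁻¹ * w⁻¹ * (w * s * x * (w * s)⁻¹)) (s * s * y * (s * s)⁻¹) := hh
          have := d1.inv_left.mul_left d2
          have d3 : Commute (w * s * x * (w * s)⁻¹) (s * s * y * (s * s)⁻¹) := by
            simpa [mul_assoc] using this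
          exact d3.eq
      · -- `w ∈ s⁻¹ T1` : take `v = w`
        have hsw : s⁻¹ * w ∉ T1 := by
          intro h'
          have h1 := T1.mul_mem h (T1.inv_mem h')
          have e : s * w * (s⁻¹ * w)⁻¹ = s * s := by group
          rw [e] at h1
          exact hss h1
        refine ⟨w, hw, hwn, hsw, ?_⟩
        obtain ⟨y, hy, hne⟩ := hmove w hw w hw (by simp)
        refine ⟨y, hy, fun hh => hne ?_⟩
        rw [hconj] at hh
        have d1 : Commute (w * s * x * (w * s)⁻¹) (w * y * w⁻¹) := by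
          refine hfix _ (T.mul_mem hw hs) w hw ?_ y hy
          intro h'
          have e : (w * s)⁻¹ * w = s⁻¹ := by group
          rw [e] at h'
          exact hs1 (by simpa using T1.inv_mem h')
        have d2 : Commute (w * x⁻¹ * w⁻¹ * (w * s * x * (w * s)⁻¹)) (w * y * w⁻¹) := hh
        have d3 : Commute (w * x⁻¹ * w⁻¹) (w * y * w⁻¹) := by
          have := d2.mul_left d1.inv_left
          simpa [mul_assoc] using this
        have d6 := d3.inv_left
        have e : (w * x⁻¹ * w⁻¹)⁻¹ = w * x * w⁻¹ := by group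
        rw [e] at d6
        exact d6.eq
    obtain ⟨v, hv, hv1, hv2, y, hy, hne⟩ := hv
    apply hne
    rw [hwa]
    have d1 : Commute a (v * y * v⁻¹) := by
      have := hDa 1 T.one_mem v hv (by simpa using hv1) (by simpa using hv2) y hy
      rw [one_mul, inv_one, mul_one] at this
      exact this
    have d2 : Commute (u * a * u⁻¹) (v * y * v⁻¹) := by
      refine hDa u huT v hv ?_ ?_ y hy
      · intro h
        have := T1.mul_mem hu h
        have e : u * (u⁻¹ * v) = v := by group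
        rw [e] at this
        exact hv1 this
      · intro h
        have := T1.mul_mem hu h
        have e : u * ((u * s)⁻¹ * v) = s⁻¹ * v := by
          rw [hTc u huT s hs]
          rw [mul_inv_rev, hTc u⁻¹ (T.inv_mem huT) s⁻¹ (T.inv_mem hs)]
          have c : u * s⁻¹ = s⁻¹ * u := hTc u huT s⁻¹ (T.inv_mem hs)
          rw [← mul_assoc, ← mul_assoc, c]
          group
        rw [e] at this
        exact hv2 this
    exact (d1.mul_left d2).eq
  let B : Subgroup G := {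
    carrier := {b | b = 1 ∨ ∃ u ∈ T1, b = u * a * u⁻¹}
    one_mem' := Or.inl rfl
    mul_mem' := by
      rintro b c (rfl | ⟨u, hu, rfl⟩) (rfl | ⟨v, hv, rfl⟩)
      · exact Or.inl (one_mul 1)
      · exact Or.inr ⟨v, hv, one_mul _⟩
      · exact Or.inr ⟨u, hu, mul_one _⟩
      · by_cases huv : u⁻¹ * v = 1
        · left
          have e : u = v := inv_mul_eq_one.1 huv
          subst e
          have := hA2 _ (hTA u (hT1T hu) a haA)
          exact this
        · right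
          obtain ⟨w, hw, hwa⟩ := hw1 _ (T1.mul_mem (T1.inv_mem hu) hv) huv
          refine ⟨u * w, T1.mul_mem hu hw, ?_⟩
          calc u * a * u⁻¹ * (v * a * v⁻¹) = u * (a * (u⁻¹ * v * a * (u⁻¹ * v)⁻¹)) * u⁻¹ := by group
            _ = u * (w * a * w⁻¹) * u⁻¹ := by rw [hwa]
            _ = _ := by group
    inv_mem' := by
      rintro b (rfl | ⟨u, hu, rfl⟩)
      · exact Or.inl inv_one
      · right
        refine ⟨u, hu, ?_⟩
        have := hA2 _ (hTA u (hT1T hu) a haA)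
        exact inv_eq_of_mul_eq_one_left this }
  have hBA : B ≤ A := by
    rintro b (rfl | ⟨u, hu, rfl⟩)
    · exact A.one_mem
    · exact hTA u (hT1T hu) a haA
  have hBc : Nat.card T1 + 1 = Nat.card B := by
    refine card_regular (A := B) (T := T1) ?_ ?_ ?_ (a := a) (Or.inr ⟨1, T1.one_mem, by group⟩) ha1
    · rintro t ht b (rfl | ⟨u, hu, rfl⟩)
      · exact Or.inl (by group)
      · exact Or.inr ⟨t * u, T1.mul_mem ht hu, by group⟩
    · rintro b (rfl | ⟨u, hu, rfl⟩) hb1 c (rfl | ⟨v, hv, rfl⟩) hc1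
      · exact absurd rfl hb1
      · exact absurd rfl hb1
      · exact absurd rfl hc1
      · exact ⟨v * u⁻¹, T1.mul_mem hv (T1.inv_mem hu), by group⟩
    · intro b hb hb1 t ht
      exact hreg b (hBA hb) hb1 t (hT1T ht)
  -- the index of `T1` is `3`
  have hidx : Nat.card T = 3 * Nat.card T1 := by
    let f : Fin 3 × T1 → T := fun p =>
      if p.1 = 0 then ⟨p.2, hT1T p.2.2⟩
      else if p.1 = 1 then ⟨s * p.2, T.mul_mem hs (hT1T p.2.2)⟩
      else ⟨s⁻¹ * p.2, T.mul_mem (T.inv_mem hs) (hT1T p.2.2)⟩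
    have hss : s * s ∉ T1 := fun h => hs1 (hsq s hs h)
    have hf : Function.Bijective f := by
      constructor
      · rintro ⟨i, ⟨u, hu⟩⟩ ⟨j, ⟨v, hv⟩⟩ h
        have h' : ((f (i, ⟨u, hu⟩) : T) : G) = (f (j, ⟨v, hv⟩) : T) := congrArg Subtype.val h
        fin_cases i <;> fin_cases j <;> simp [f] at h' ⊢
        · exact h'
        · exact hs1 (by
            have e : s = u * v⁻¹ := by rw [h']; group
            rw [e]; exact T1.mul_mem hu (T1.inv_mem hv))
        · exact hs1 (by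
            have e : s = v * u⁻¹ := by rw [h']; group
            rw [e]; exact T1.mul_mem hv (T1.inv_mem hu))
        · exact hs1 (by
            have e : s = v * u⁻¹ := by rw [← h']; group
            rw [e]; exact T1.mul_mem hv (T1.inv_mem hu))
        · exact h'
        · exact hss (by
            have e : s * s = v * u⁻¹ := by
              have : v = s * (s * u) := by rw [h']; group
              rw [this]; group
            rw [e]; exact T1.mul_mem hv (T1.inv_mem hu))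
        · exact hs1 (by
            have e : s = u * v⁻¹ := by rw [← h']; group
            rw [e]; exact T1.mul_mem hu (T1.inv_mem hv))
        · exact hss (by
            have e : s * s = u * v⁻¹ := by
              have : u = s * (s * v) := by rw [← h']; group
              rw [this]; group
            rw [e]; exact T1.mul_mem hu (T1.inv_mem hv))
        · exact h'
      · rintro ⟨u, hu⟩
        rcases hthree u hu with h | h | h
        · exact ⟨(0, ⟨u, h⟩), by simp [f]⟩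
        · exact ⟨(1, ⟨s⁻¹ * u, h⟩), Subtype.ext (by simp [f])⟩
        · exact ⟨(2, ⟨s * u, h⟩), Subtype.ext (by simp [f])⟩
    have := Nat.card_congr (Equiv.ofBijective f hf)
    rw [Nat.card_prod, Nat.card_eq_fintype_card (α := Fin 3), Fintype.card_fin] at this
    exact this.symm
  -- powers of two
  have h2A : IsPGroup 2 A := by
    intro ⟨g, hg⟩
    exact ⟨1, Subtype.ext (by simpa [pow_succ] using hA2 g hg)⟩
  have h2B : IsPGroup 2 B := by
    intro ⟨g, hg⟩
    exact ⟨1, Subtype.ext (by simpa [pow_succ] using hA2 g (hBA hg))⟩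
  obtain ⟨n, hn⟩ := (IsPGroup.iff_card (p := 2)).1 h2A
  obtain ⟨b, hb⟩ := (IsPGroup.iff_card (p := 2)).1 h2B
  have hn3 : 3 ≤ n := by
    by_contra hlt
    have : n ≤ 2 := by omega
    have h4 : 2 ^ n ≤ 2 ^ 2 := Nat.pow_le_pow_right (by norm_num) this
    rw [hn] at hq
    omega
  refine arith (n := n) (b := b) hn3 ?_
  omega

/-- **`T ≤ N(K)`.** -/
theorem le_normalizer [Finite G] (hTc : ∀ s ∈ T, ∀ t ∈ T, s * t = t * s) (hA2 : ∀ a ∈ A, a * a = 1)
    (hTA : ∀ t ∈ T, ∀ a ∈ A, t * a * t⁻¹ ∈ A)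
    (htrans : ∀ a ∈ A, a ≠ 1 → ∀ b ∈ A, b ≠ 1 → ∃ t ∈ T, t * a * t⁻¹ = b)
    (hreg : ∀ a ∈ A, a ≠ 1 → ∀ t ∈ T, t * a * t⁻¹ = a → t = 1) (hq : 8 ≤ Nat.card A)
    (hK : ∀ t ∈ T, (∀ y, t * y * t⁻¹ ∈ K ↔ y ∈ K) ∨ ∀ y ∈ K, ∀ z ∈ K, y * (t * z * t⁻¹) = t * z * t⁻¹ * y)
    (hxK : x ∈ K) (hxz : ∃ y ∈ K, x * y ≠ y * x) (hxA : ∀ t ∈ T, x⁻¹ * (t * x * t⁻¹) ∈ A) :
    T ≤ Subgroup.normalizer (K : Set G) := fun t ht =>
  Subgroup.mem_normalizer_iff.2 fun y => (normalizes hTc hA2 hTA htrans hreg hq hK hxK hxz hxA t ht y).symm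

end Cfsg.Agent.Omega.Lie.CompPerm

end

-- merged: Cfsg.Agent.Omega.Lie.CompT
section

/-!
# The torus and the components (bb OMEGA #12098, (T2) combinatorics)

`T` is commutative and acts on the elementary abelian group `A` by scalars of `F_q`, `q = |T| + 1 >= 4`: it is regular
on each `line` (`a^s a^t = 1` or is a conjugate of `a`).  `K` is a subgroup such that `K^t = K` or `[K, K^t] = 1`, and
`P <= K`, not central, with `[P, T] <= A`.  Then `T` normalises `K`, or `|T| = 3` and `T` is regular on the three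
conjugates of `K`, and `P` is elementary abelian.
-/

set_option autoImplicit false

namespace Cfsg.Agent.Omega.Lie.CompT

open Cfsg.Agent.Omega.Lie.CompPerm

variable {G : Type*} [Group G]

/-- `2^n + 2 = 3 * 2^b` with `n >= 2` forces `n = 2`. -/
theorem arith_two {n b : ℕ} (hn : 2 ≤ n) (h : 2 ^ n + 2 = 3 * 2 ^ b) : n = 2 ∧ b = 1 := by
  have h2 : n = 2 := by
    by_contra hne
    exact arith (by omega) h
  subst h2
  refine ⟨rfl, ?_⟩
  rcases b with _ | _ | b
  · norm_num at h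
  · rfl
  · rw [pow_succ, pow_succ] at h
    have : 0 < 2 ^ b := by positivity
    omega

variable {A T K : Subgroup G} {x : G}

/-- **One regular orbit: `T` has order `3` and is regular on the conjugates of `K`.** -/
theorem card_three [Finite G] (hTc : ∀ s ∈ T, ∀ t ∈ T, s * t = t * s) (hA2 : ∀ a ∈ A, a * a = 1)
    (hTA : ∀ t ∈ T, ∀ a ∈ A, t * a * t⁻¹ ∈ A)
    (htrans : ∀ a ∈ A, a ≠ 1 → ∀ b ∈ A, b ≠ 1 → ∃ t ∈ T, t * a * t⁻¹ = b)
    (hreg : ∀ a ∈ A, a ≠ 1 → ∀ t ∈ T, t * a * t⁻¹ = a → t = 1) (hq : 4 ≤ Nat.card A)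
    (hK : ∀ t ∈ T, (∀ y, t * y * t⁻¹ ∈ K ↔ y ∈ K) ∨ ∀ y ∈ K, ∀ z ∈ K, y * (t * z * t⁻¹) = t * z * t⁻¹ * y)
    (hxK : x ∈ K) (hxz : ∃ y ∈ K, x * y ≠ y * x) {s : G} (hs : s ∈ T)
    (hsK : ¬ ∀ y, s * y * s⁻¹ ∈ K ↔ y ∈ K) (hxA : x⁻¹ * (s * x * s⁻¹) ∈ A) :
    Nat.card T = 3 ∧ ∀ t ∈ T, (∀ y, t * y * t⁻¹ ∈ K ↔ y ∈ K) → t = 1 := by
  classical
  -- the stabiliser
  let T1 : Subgroup G := {
    carrier := {t | t ∈ T ∧ ∀ y, t * y * t⁻¹ ∈ K ↔ y ∈ K}
    one_mem' := ⟨T.one_mem, fun y => by simp⟩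
    mul_mem' := by
      rintro u v ⟨hu, hu'⟩ ⟨hv, hv'⟩
      refine ⟨T.mul_mem hu hv, fun y => ?_⟩
      have e : u * v * y * (u * v)⁻¹ = u * (v * y * v⁻¹) * u⁻¹ := by group
      rw [e, hu', hv']
    inv_mem' := by
      rintro u ⟨hu, hu'⟩
      refine ⟨T.inv_mem hu, fun y => ?_⟩
      rw [← hu' (u⁻¹ * y * u⁻¹⁻¹)]
      have e : u * (u⁻¹ * y * u⁻¹⁻¹) * u⁻¹ = y := by group
      rw [e] }
  have hT1 : ∀ t, t ∈ T1 ↔ t ∈ T ∧ ∀ y, t * y * t⁻¹ ∈ K ↔ y ∈ K := fun t => Iff.rfl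
  have hT1T : T1 ≤ T := fun t ht => ht.1
  have hs1 : s ∉ T1 := fun h => hsK h.2
  -- the elements of `T` outside `T1` move `K` to a commuting conjugate
  have hcomm : ∀ t ∈ T, t ∉ T1 → ∀ y ∈ K, ∀ z ∈ K, y * (t * z * t⁻¹) = t * z * t⁻¹ * y := by
    intro t ht ht1
    rcases hK t ht with h | h
    · exact absurd ⟨ht, h⟩ ht1
    · exact h
  -- the conjugate of `x` by `t` moves `K^u` iff `t⁻¹ u ∈ T1`
  have hmove : ∀ t ∈ T, ∀ u ∈ T, t⁻¹ * u ∈ T1 → ∃ y ∈ K, t * x * t⁻¹ * (u * y * u⁻¹) ≠ u * y * u⁻¹ * (t * x * t⁻¹) := by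
    intro t ht u hu h
    obtain ⟨y, hy, hxy⟩ := hxz
    have h1 := (T1.inv_mem h).2 y
    refine ⟨u⁻¹ * t * y * (u⁻¹ * t)⁻¹, ?_, ?_⟩
    · have e : u⁻¹ * t * y * (u⁻¹ * t)⁻¹ = (t⁻¹ * u)⁻¹ * y * (t⁻¹ * u)⁻¹⁻¹ := by group
      rw [e, h1]
      exact hy
    · intro h2
      apply hxy
      have e1 : u * (u⁻¹ * t * y * (u⁻¹ * t)⁻¹) * u⁻¹ = t * y * t⁻¹ := by group
      rw [e1] at h2
      calc x * y = t⁻¹ * (t * x * t⁻¹ * (t * y * t⁻¹)) * t := by group
        _ = t⁻¹ * (t * y * t⁻¹ * (t * x * t⁻¹)) * t := by rw [h2]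
        _ = y * x := by group
  have hfix : ∀ t ∈ T, ∀ u ∈ T, t⁻¹ * u ∉ T1 → ∀ y ∈ K,
      t * x * t⁻¹ * (u * y * u⁻¹) = u * y * u⁻¹ * (t * x * t⁻¹) := by
    intro t ht u hu h y hy
    have h1 := hcomm _ (T.mul_mem (T.inv_mem ht) hu) h x hxK y hy
    calc t * x * t⁻¹ * (u * y * u⁻¹) = t * (x * (t⁻¹ * u * y * (t⁻¹ * u)⁻¹)) * t⁻¹ := by group
      _ = t * (t⁻¹ * u * y * (t⁻¹ * u)⁻¹ * x) * t⁻¹ := by rw [h1]
      _ = _ := by group
  have hfix' : ∀ t ∈ T, ∀ u ∈ T, t⁻¹ * u ∉ T1 → ∀ y ∈ K,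
      t * x⁻¹ * t⁻¹ * (u * y * u⁻¹) = u * y * u⁻¹ * (t * x⁻¹ * t⁻¹) := by
    intro t ht u hu h y hy
    have h1 : Commute (t * x * t⁻¹) (u * y * u⁻¹) := hfix t ht u hu h y hy
    have h2 := h1.inv_left
    have e : (t * x * t⁻¹)⁻¹ = t * x⁻¹ * t⁻¹ := by group
    rw [e] at h2
    exact h2
  -- the conjugates of `a`
  have hconj : ∀ w, w * (x⁻¹ * (s * x * s⁻¹)) * w⁻¹ = w * x⁻¹ * w⁻¹ * (w * s * x * (w * s)⁻¹) := by
    intro w; group
  set a : G := x⁻¹ * (s * x * s⁻¹) with ha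
  have haA : a ∈ A := hxA
  -- outside the two cosets the conjugate `a^w` centralises `K^u`
  have hDa : ∀ w ∈ T, ∀ u ∈ T, w⁻¹ * u ∉ T1 → (w * s)⁻¹ * u ∉ T1 → ∀ y ∈ K,
      w * a * w⁻¹ * (u * y * u⁻¹) = u * y * u⁻¹ * (w * a * w⁻¹) := by
    intro w hw u hu h1 h2 y hy
    rw [hconj]
    have c1 : Commute (w * x⁻¹ * w⁻¹) (u * y * u⁻¹) := hfix' w hw u hu h1 y hy
    have c2 : Commute (w * s * x * (w * s)⁻¹) (u * y * u⁻¹) := hfix _ (T.mul_mem hw hs) u hu h2 y hy
    exact (c1.mul_left c2)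
  -- `T / T1` has no involution
  have hcard := card_regular hTA htrans hreg haA
  have ha1 : a ≠ 1 := by
    intro h
    obtain ⟨y, hy, hne⟩ := hmove 1 T.one_mem 1 T.one_mem (by simp)
    apply hne
    have h1 : x = s * x * s⁻¹ := by
      rw [ha] at h
      exact inv_mul_eq_one.1 h
    have h2 := hfix s hs 1 T.one_mem (by
      rw [mul_one]
      exact fun h => hs1 (by simpa using T1.inv_mem h)) y hy
    rw [← h1] at h2
    simpa using h2
  have hcard' := hcard ha1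
  have hodd : Odd (Nat.card T) := by
    have h2 : IsPGroup 2 A := by
      intro ⟨g, hg⟩
      exact ⟨1, Subtype.ext (by simpa [pow_succ] using hA2 g hg)⟩
    obtain ⟨n, hn⟩ := (IsPGroup.iff_card (p := 2)).1 h2
    have h3 : n ≠ 0 := by
      rintro rfl
      rw [hn] at hq
      norm_num at hq
    obtain ⟨m, rfl⟩ := Nat.exists_eq_succ_of_ne_zero h3
    rw [hn, pow_succ] at hcard'
    exact ⟨2 ^ m - 1, by have : 0 < 2 ^ m := by positivity
                         omega⟩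
  have hsq : ∀ u ∈ T, u * u ∈ T1 → u ∈ T1 := by
    intro u hu huu
    have h1 : orderOf u ∣ Nat.card T := Subgroup.orderOf_dvd_natCard T hu
    have h2 : Odd (orderOf u) := Odd.of_dvd_nat hodd h1
    obtain ⟨k, hk⟩ := h2
    have h3 : u = (u * u) ^ (k + 1) := by
      have h4 : u ^ (2 * k + 1) = 1 := by rw [← hk]; exact pow_orderOf_eq_one u
      calc u = u ^ (2 * k + 1) * u := by rw [h4, one_mul]
        _ = (u * u) ^ (k + 1) := by rw [← pow_two, ← pow_mul, ← pow_succ]; congr 1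
    rw [h3]
    exact T1.pow_mem huu _
  -- (1) every element of `T` lies in one of the three cosets
  have hthree : ∀ u ∈ T, u ∈ T1 ∨ s⁻¹ * u ∈ T1 ∨ s * u ∈ T1 := by
    intro u hu
    by_contra hc
    push Not at hc
    obtain ⟨c1, c2, c3⟩ := hc
    have hne : u * a * u⁻¹ ≠ a := fun h => c1 (by rw [hreg a haA ha1 u hu h]; exact T1.one_mem)
    have hmem : a * (u * a * u⁻¹) ∈ A := A.mul_mem haA (hTA u hu a haA)
    have hne1 : a * (u * a * u⁻¹) ≠ 1 := by
      intro h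
      apply hne
      have h1 := hA2 a haA
      exact mul_left_cancel (h.trans h1.symm)
    obtain ⟨w, hw, hwa⟩ := htrans a haA ha1 _ hmem hne1
    -- the conjugates `1, s, u` are moved
    have hkey : ∀ v ∈ T, (∃ y ∈ K, a * (u * a * u⁻¹) * (v * y * v⁻¹) ≠ v * y * v⁻¹ * (a * (u * a * u⁻¹))) →
        w⁻¹ * v ∈ T1 ∨ (w * s)⁻¹ * v ∈ T1 := by
      rintro v hv ⟨y, hy, hne⟩
      by_contra hc
      push Not at hc
      rw [← hwa] at hne
      exact hne (hDa w hw v hv hc.1 hc.2 y hy)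
    have hwT := T.inv_mem hw
    have m1 : ∃ y ∈ K, a * (u * a * u⁻¹) * (1 * y * 1⁻¹) ≠ 1 * y * 1⁻¹ * (a * (u * a * u⁻¹)) := by
      obtain ⟨y, hy, hne⟩ := hmove 1 T.one_mem 1 T.one_mem (by simp)
      refine ⟨y, hy, fun h => hne ?_⟩
      have d1 : Commute (u * a * u⁻¹) (1 * y * 1⁻¹) := by
        refine hDa u hu 1 T.one_mem ?_ ?_ y hy
        · rw [mul_one]; exact fun h => c1 (by simpa using T1.inv_mem h)
        · rw [mul_one, hTc u hu s hs]; exact fun h => c3 (by simpa using T1.inv_mem h)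
      have d2 : Commute (s * x * s⁻¹) (1 * y * 1⁻¹) := hfix s hs 1 T.one_mem (by
        rw [mul_one]
        exact fun h => hs1 (by simpa using T1.inv_mem h)) y hy
      have d3 : Commute (a * (u * a * u⁻¹)) (1 * y * 1⁻¹) := h
      have d4 : Commute a (1 * y * 1⁻¹) := by
        have := d3.mul_left d1.inv_left
        simpa [mul_assoc] using this
      have d5 : Commute x⁻¹ (1 * y * 1⁻¹) := by
        have := d4.mul_left d2.inv_left
        simpa [ha, mul_assoc] using this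
      have d6 := d5.inv_left
      rw [inv_inv] at d6
      simpa using d6.eq
    have m2 : ∃ y ∈ K, a * (u * a * u⁻¹) * (s * y * s⁻¹) ≠ s * y * s⁻¹ * (a * (u * a * u⁻¹)) := by
      obtain ⟨y, hy, hne⟩ := hmove s hs s hs (by simp)
      refine ⟨y, hy, fun h => hne ?_⟩
      have d1 : Commute (u * a * u⁻¹) (s * y * s⁻¹) := by
        refine hDa u hu s hs ?_ ?_ y hy
        · exact fun h => c2 (by simpa using T1.inv_mem h)
        · intro h
          have e : (u * s)⁻¹ * s = u⁻¹ := by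
            rw [hTc u hu s hs]; group
          rw [e] at h
          exact c1 (by simpa using T1.inv_mem h)
      have d2 : Commute (1 * x⁻¹ * 1⁻¹) (s * y * s⁻¹) := hfix' 1 T.one_mem s hs (by simpa using hs1) y hy
      have d3 : Commute (a * (u * a * u⁻¹)) (s * y * s⁻¹) := h
      have d4 : Commute a (s * y * s⁻¹) := by
        have := d3.mul_left d1.inv_left
        simpa [mul_assoc] using this
      have d5 : Commute (s * x * s⁻¹) (s * y * s⁻¹) := by
        have d2' : Commute x (s * y * s⁻¹) := by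
          have := d2.inv_left
          simpa using this
        have := d2'.mul_left d4
        simpa [ha, mul_assoc] using this
      exact d5.eq
    have m3 : ∃ y ∈ K, a * (u * a * u⁻¹) * (u * y * u⁻¹) ≠ u * y * u⁻¹ * (a * (u * a * u⁻¹)) := by
      obtain ⟨y, hy, hne⟩ := hmove u hu u hu (by simp)
      refine ⟨y, hy, fun h => hne ?_⟩
      have d1 : Commute a (u * y * u⁻¹) := by
        have := hDa 1 T.one_mem u hu (by simpa using c1) (by simpa using c2) y hy
        rw [one_mul, inv_one, mul_one] at this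
        exact this
      have d3 : Commute (a * (u * a * u⁻¹)) (u * y * u⁻¹) := h
      have d4 : Commute (u * a * u⁻¹) (u * y * u⁻¹) := by
        have := d1.inv_left.mul_left d3
        simpa [mul_assoc] using this
      have d2 : Commute (u * s * x * (u * s)⁻¹) (u * y * u⁻¹) := by
        refine hfix _ (T.mul_mem hu hs) u hu ?_ y hy
        intro h
        have e : (u * s)⁻¹ * u = s⁻¹ := by group
        rw [e] at h
        exact hs1 (by simpa using T1.inv_mem h)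
      rw [hconj] at d4
      have d5 : Commute (u * x⁻¹ * u⁻¹) (u * y * u⁻¹) := by
        have := d4.mul_left d2.inv_left
        simpa [mul_assoc] using this
      have d6 := d5.inv_left
      have e : (u * x⁻¹ * u⁻¹)⁻¹ = u * x * u⁻¹ := by group
      rw [e] at d6
      exact d6.eq
    have k1 := hkey 1 T.one_mem m1
    have k2 := hkey s hs m2
    have k3 := hkey u hu m3
    -- differences
    have dif : ∀ {g v v' : G}, g⁻¹ * v ∈ T1 → g⁻¹ * v' ∈ T1 → v⁻¹ * v' ∈ T1 := by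
      intro g v v' h h'
      have := T1.mul_mem (T1.inv_mem h) h'
      have e : (g⁻¹ * v)⁻¹ * (g⁻¹ * v') = v⁻¹ * v' := by group
      rwa [e] at this
    have n1 : (1 : G)⁻¹ * s ∉ T1 := by simpa using hs1
    have n2 : (1 : G)⁻¹ * u ∉ T1 := by simpa using c1
    have n3 : s⁻¹ * u ∉ T1 := c2
    rcases k1 with k1 | k1 <;> rcases k2 with k2 | k2 <;> rcases k3 with k3 | k3
    · exact n1 (dif k1 k2)
    · exact n1 (dif k1 k2)
    · exact n2 (dif k1 k3)
    · exact n3 (dif k2 k3)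
    · exact n3 (dif k2 k3)
    · exact n2 (dif k1 k3)
    · exact n1 (dif k1 k2)
    · exact n1 (dif k1 k2)
  -- (2) the subgroup `{a^u : u ∈ T1} ∪ {1}`
  have hw1 : ∀ u ∈ T1, u ≠ 1 → ∃ w ∈ T1, w * a * w⁻¹ = a * (u * a * u⁻¹) := by
    intro u hu hu1
    have huT := hT1T hu
    have hne : u * a * u⁻¹ ≠ a := fun h => hu1 (hreg a haA ha1 u huT h)
    have hmem : a * (u * a * u⁻¹) ∈ A := A.mul_mem haA (hTA u huT a haA)
    have hne1 : a * (u * a * u⁻¹) ≠ 1 := by
      intro h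
      apply hne
      have h1 := hA2 a haA
      exact mul_left_cancel (h.trans h1.symm)
    obtain ⟨w, hw, hwa⟩ := htrans a haA ha1 _ hmem hne1
    refine ⟨w, ?_, hwa⟩
    -- `s⁻¹` is not moved by the product
    by_contra hwn
    -- `w` lies in `s T1` or `s⁻¹ T1`
    have hss : s * s ∉ T1 := fun h => hs1 (hsq s hs h)
    have hv : ∃ v ∈ T, v ∉ T1 ∧ s⁻¹ * v ∉ T1 ∧
        ∃ y ∈ K, w * a * w⁻¹ * (v * y * v⁻¹) ≠ v * y * v⁻¹ * (w * a * w⁻¹) := by
      rcases hthree w hw with h | h | h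
      · exact absurd h hwn
      · -- `w ∈ s T1` : take `v = s s`
        refine ⟨s * s, T.mul_mem hs hs, hss, ?_, ?_⟩
        · simpa using hs1
        · obtain ⟨y, hy, hne⟩ := hmove (w * s) (T.mul_mem hw hs) (s * s) (T.mul_mem hs hs) (by
            have e : (w * s)⁻¹ * (s * s) = (s⁻¹ * w)⁻¹ := by
              rw [hTc w hw s hs]; group
            rw [e]
            exact T1.inv_mem h)
          refine ⟨y, hy, fun hh => hne ?_⟩
          rw [hconj] at hh
          have d1 : Commute (w * x⁻¹ * w⁻¹) (s * s * y * (s * s)⁻¹) := by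
            refine hfix' w hw _ (T.mul_mem hs hs) ?_ y hy
            intro h'
            have := T1.mul_mem h h'
            have e : s⁻¹ * w * (w⁻¹ * (s * s)) = s := by group
            rw [e] at this
            exact hs1 this
          have d2 : Commute (w * x⁻¹ * w⁻¹ * (w * s * x * (w * s)⁻¹)) (s * s * y * (s * s)⁻¹) := hh
          have := d1.inv_left.mul_left d2
          have d3 : Commute (w * s * x * (w * s)⁻¹) (s * s * y * (s * s)⁻¹) := by
            simpa [mul_assoc] using this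
          exact d3.eq
      · -- `w ∈ s⁻¹ T1` : take `v = w`
        have hsw : s⁻¹ * w ∉ T1 := by
          intro h'
          have h1 := T1.mul_mem h (T1.inv_mem h')
          have e : s * w * (s⁻¹ * w)⁻¹ = s * s := by group
          rw [e] at h1
          exact hss h1
        refine ⟨w, hw, hwn, hsw, ?_⟩
        obtain ⟨y, hy, hne⟩ := hmove w hw w hw (by simp)
        refine ⟨y, hy, fun hh => hne ?_⟩
        rw [hconj] at hh
        have d1 : Commute (w * s * x * (w * s)⁻¹) (w * y * w⁻¹) := by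
          refine hfix _ (T.mul_mem hw hs) w hw ?_ y hy
          intro h'
          have e : (w * s)⁻¹ * w = s⁻¹ := by group
          rw [e] at h'
          exact hs1 (by simpa using T1.inv_mem h')
        have d2 : Commute (w * x⁻¹ * w⁻¹ * (w * s * x * (w * s)⁻¹)) (w * y * w⁻¹) := hh
        have d3 : Commute (w * x⁻¹ * w⁻¹) (w * y * w⁻¹) := by
          have := d2.mul_left d1.inv_left
          simpa [mul_assoc] using this
        have d6 := d3.inv_left
        have e : (w * x⁻¹ * w⁻¹)⁻¹ = w * x * w⁻¹ := by group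
        rw [e] at d6
        exact d6.eq
    obtain ⟨v, hv, hv1, hv2, y, hy, hne⟩ := hv
    apply hne
    rw [hwa]
    have d1 : Commute a (v * y * v⁻¹) := by
      have := hDa 1 T.one_mem v hv (by simpa using hv1) (by simpa using hv2) y hy
      rw [one_mul, inv_one, mul_one] at this
      exact this
    have d2 : Commute (u * a * u⁻¹) (v * y * v⁻¹) := by
      refine hDa u huT v hv ?_ ?_ y hy
      · intro h
        have := T1.mul_mem hu h
        have e : u * (u⁻¹ * v) = v := by group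
        rw [e] at this
        exact hv1 this
      · intro h
        have := T1.mul_mem hu h
        have e : u * ((u * s)⁻¹ * v) = s⁻¹ * v := by
          rw [hTc u huT s hs]
          rw [mul_inv_rev, hTc u⁻¹ (T.inv_mem huT) s⁻¹ (T.inv_mem hs)]
          have c : u * s⁻¹ = s⁻¹ * u := hTc u huT s⁻¹ (T.inv_mem hs)
          rw [← mul_assoc, ← mul_assoc, c]
          group
        rw [e] at this
        exact hv2 this
    exact (d1.mul_left d2).eq
  let B : Subgroup G := {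
    carrier := {b | b = 1 ∨ ∃ u ∈ T1, b = u * a * u⁻¹}
    one_mem' := Or.inl rfl
    mul_mem' := by
      rintro b c (rfl | ⟨u, hu, rfl⟩) (rfl | ⟨v, hv, rfl⟩)
      · exact Or.inl (one_mul 1)
      · exact Or.inr ⟨v, hv, one_mul _⟩
      · exact Or.inr ⟨u, hu, mul_one _⟩
      · by_cases huv : u⁻¹ * v = 1
        · left
          have e : u = v := inv_mul_eq_one.1 huv
          subst e
          have := hA2 _ (hTA u (hT1T hu) a haA)
          exact this
        · right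
          obtain ⟨w, hw, hwa⟩ := hw1 _ (T1.mul_mem (T1.inv_mem hu) hv) huv
          refine ⟨u * w, T1.mul_mem hu hw, ?_⟩
          calc u * a * u⁻¹ * (v * a * v⁻¹) = u * (a * (u⁻¹ * v * a * (u⁻¹ * v)⁻¹)) * u⁻¹ := by group
            _ = u * (w * a * w⁻¹) * u⁻¹ := by rw [hwa]
            _ = _ := by group
    inv_mem' := by
      rintro b (rfl | ⟨u, hu, rfl⟩)
      · exact Or.inl inv_one
      · right
        refine ⟨u, hu, ?_⟩
        have := hA2 _ (hTA u (hT1T hu) a haA)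
        exact inv_eq_of_mul_eq_one_left this }
  have hBA : B ≤ A := by
    rintro b (rfl | ⟨u, hu, rfl⟩)
    · exact A.one_mem
    · exact hTA u (hT1T hu) a haA
  have hBc : Nat.card T1 + 1 = Nat.card B := by
    refine card_regular (A := B) (T := T1) ?_ ?_ ?_ (a := a) (Or.inr ⟨1, T1.one_mem, by group⟩) ha1
    · rintro t ht b (rfl | ⟨u, hu, rfl⟩)
      · exact Or.inl (by group)
      · exact Or.inr ⟨t * u, T1.mul_mem ht hu, by group⟩
    · rintro b (rfl | ⟨u, hu, rfl⟩) hb1 c (rfl | ⟨v, hv, rfl⟩) hc1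
      · exact absurd rfl hb1
      · exact absurd rfl hb1
      · exact absurd rfl hc1
      · exact ⟨v * u⁻¹, T1.mul_mem hv (T1.inv_mem hu), by group⟩
    · intro b hb hb1 t ht
      exact hreg b (hBA hb) hb1 t (hT1T ht)
  -- the index of `T1` is `3`
  have hidx : Nat.card T = 3 * Nat.card T1 := by
    let f : Fin 3 × T1 → T := fun p =>
      if p.1 = 0 then ⟨p.2, hT1T p.2.2⟩
      else if p.1 = 1 then ⟨s * p.2, T.mul_mem hs (hT1T p.2.2)⟩
      else ⟨s⁻¹ * p.2, T.mul_mem (T.inv_mem hs) (hT1T p.2.2)⟩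
    have hss : s * s ∉ T1 := fun h => hs1 (hsq s hs h)
    have hf : Function.Bijective f := by
      constructor
      · rintro ⟨i, ⟨u, hu⟩⟩ ⟨j, ⟨v, hv⟩⟩ h
        have h' : ((f (i, ⟨u, hu⟩) : T) : G) = (f (j, ⟨v, hv⟩) : T) := congrArg Subtype.val h
        fin_cases i <;> fin_cases j <;> simp [f] at h' ⊢
        · exact h'
        · exact hs1 (by
            have e : s = u * v⁻¹ := by rw [h']; group
            rw [e]; exact T1.mul_mem hu (T1.inv_mem hv))
        · exact hs1 (by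
            have e : s = v * u⁻¹ := by rw [h']; group
            rw [e]; exact T1.mul_mem hv (T1.inv_mem hu))
        · exact hs1 (by
            have e : s = v * u⁻¹ := by rw [← h']; group
            rw [e]; exact T1.mul_mem hv (T1.inv_mem hu))
        · exact h'
        · exact hss (by
            have e : s * s = v * u⁻¹ := by
              have : v = s * (s * u) := by rw [h']; group
              rw [this]; group
            rw [e]; exact T1.mul_mem hv (T1.inv_mem hu))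
        · exact hs1 (by
            have e : s = u * v⁻¹ := by rw [← h']; group
            rw [e]; exact T1.mul_mem hu (T1.inv_mem hv))
        · exact hss (by
            have e : s * s = u * v⁻¹ := by
              have : u = s * (s * v) := by rw [← h']; group
              rw [this]; group
            rw [e]; exact T1.mul_mem hu (T1.inv_mem hv))
        · exact h'
      · rintro ⟨u, hu⟩
        rcases hthree u hu with h | h | h
        · exact ⟨(0, ⟨u, h⟩), by simp [f]⟩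
        · exact ⟨(1, ⟨s⁻¹ * u, h⟩), Subtype.ext (by simp [f])⟩
        · exact ⟨(2, ⟨s * u, h⟩), Subtype.ext (by simp [f])⟩
    have := Nat.card_congr (Equiv.ofBijective f hf)
    rw [Nat.card_prod, Nat.card_eq_fintype_card (α := Fin 3), Fintype.card_fin] at this
    exact this.symm
  -- powers of two
  have h2A : IsPGroup 2 A := by
    intro ⟨g, hg⟩
    exact ⟨1, Subtype.ext (by simpa [pow_succ] using hA2 g hg)⟩
  have h2B : IsPGroup 2 B := by
    intro ⟨g, hg⟩
    exact ⟨1, Subtype.ext (by simpa [pow_succ] using hA2 g (hBA hg))⟩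
  obtain ⟨n, hn⟩ := (IsPGroup.iff_card (p := 2)).1 h2A
  obtain ⟨b, hb⟩ := (IsPGroup.iff_card (p := 2)).1 h2B
  have hn2 : 2 ≤ n := by
    by_contra hlt
    have : n ≤ 1 := by omega
    have h4 : 2 ^ n ≤ 2 ^ 1 := Nat.pow_le_pow_right (by norm_num) this
    rw [hn] at hq
    omega
  obtain ⟨h5, h6⟩ := arith_two (n := n) (b := b) hn2 (by omega)
  subst h5
  subst h6
  have hT1 : Nat.card T1 = 1 := by omega
  refine ⟨by omega, fun t ht h => ?_⟩
  have h7 : T1 = ⊥ := Subgroup.card_eq_one.1 hT1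
  have h8 : t ∈ T1 := ⟨ht, h⟩
  rw [h7] at h8
  exact Subgroup.mem_bot.1 h8



/-! ### Lines -/

/-- The scalar action of `T` on `A`: `T` is regular on every `line` `{a^t} ∪ {1}`, and lines are closed under products. -/
structure Scal (A T : Subgroup G) : Prop where
  comm : ∀ s ∈ T, ∀ t ∈ T, s * t = t * s
  sq : ∀ a ∈ A, a * a = 1
  norm : ∀ t ∈ T, ∀ a ∈ A, t * a * t⁻¹ ∈ A
  reg : ∀ a ∈ A, a ≠ 1 → ∀ t ∈ T, t * a * t⁻¹ = a → t = 1
  line : ∀ a ∈ A, ∀ t ∈ T, a * (t * a * t⁻¹) = 1 ∨ ∃ u ∈ T, a * (t * a * t⁻¹) = u * a * u⁻¹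

/-- The line of `a`. -/
def Scal.L (h : Scal A T) {a : G} (ha : a ∈ A) : Subgroup G where
  carrier := {b | b = 1 ∨ ∃ u ∈ T, b = u * a * u⁻¹}
  one_mem' := Or.inl rfl
  mul_mem' := by
    rintro b c (rfl | ⟨u, hu, rfl⟩) (rfl | ⟨v, hv, rfl⟩)
    · exact Or.inl (one_mul 1)
    · exact Or.inr ⟨v, hv, one_mul _⟩
    · exact Or.inr ⟨u, hu, mul_one _⟩
    · have e : u * a * u⁻¹ * (v * a * v⁻¹) = u * (a * (u⁻¹ * v * a * (u⁻¹ * v)⁻¹)) * u⁻¹ := by group
      rcases h.line a ha _ (T.mul_mem (T.inv_mem hu) hv) with h1 | ⟨w, hw, h1⟩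
      · left
        rw [e, h1]
        group
      · right
        refine ⟨u * w, T.mul_mem hu hw, ?_⟩
        rw [e, h1]
        group
  inv_mem' := by
    rintro b (rfl | ⟨u, hu, rfl⟩)
    · exact Or.inl inv_one
    · right
      refine ⟨u, hu, ?_⟩
      exact inv_eq_of_mul_eq_one_left (h.sq _ (h.norm u hu a ha))

theorem Scal.mem_L (h : Scal A T) {a : G} (ha : a ∈ A) {b : G} :
    b ∈ h.L ha ↔ b = 1 ∨ ∃ u ∈ T, b = u * a * u⁻¹ := Iff.rfl

theorem Scal.L_le (h : Scal A T) {a : G} (ha : a ∈ A) : h.L ha ≤ A := by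
  rintro b (rfl | ⟨u, hu, rfl⟩)
  · exact A.one_mem
  · exact h.norm u hu a ha

theorem Scal.self_mem_L (h : Scal A T) {a : G} (ha : a ∈ A) : a ∈ h.L ha := Or.inr ⟨1, T.one_mem, by group⟩

theorem Scal.norm_L (h : Scal A T) {a : G} (ha : a ∈ A) : ∀ t ∈ T, ∀ b ∈ h.L ha, t * b * t⁻¹ ∈ h.L ha := by
  rintro t ht b (rfl | ⟨u, hu, rfl⟩)
  · exact Or.inl (by group)
  · exact Or.inr ⟨t * u, T.mul_mem ht hu, by group⟩

theorem Scal.trans_L (h : Scal A T) {a : G} (ha : a ∈ A) :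
    ∀ b ∈ h.L ha, b ≠ 1 → ∀ c ∈ h.L ha, c ≠ 1 → ∃ t ∈ T, t * b * t⁻¹ = c := by
  rintro b (rfl | ⟨u, hu, rfl⟩) hb1 c (rfl | ⟨v, hv, rfl⟩) hc1
  · exact absurd rfl hb1
  · exact absurd rfl hb1
  · exact absurd rfl hc1
  · exact ⟨v * u⁻¹, T.mul_mem hv (T.inv_mem hu), by group⟩

theorem Scal.card_L [Finite G] (h : Scal A T) {a : G} (ha : a ∈ A) (ha1 : a ≠ 1) :
    Nat.card T + 1 = Nat.card (h.L ha) :=
  card_regular (h.norm_L ha) (h.trans_L ha) (fun b hb hb1 t ht => h.reg b (h.L_le ha hb) hb1 t ht)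
    (h.self_mem_L ha) ha1

/-- A different conjugate of `K` centralises `K`. -/
def Comp (K T : Subgroup G) : Prop :=
  ∀ t ∈ T, (∀ y, t * y * t⁻¹ ∈ K ↔ y ∈ K) ∨ ∀ y ∈ K, ∀ z ∈ K, y * (t * z * t⁻¹) = t * z * t⁻¹ * y

/-- `x⁻¹ x^s = 1` and `[K, K^s] = 1` only for central `x`. -/
theorem ne_one {s : G} (hc : ∀ y ∈ K, ∀ z ∈ K, y * (s * z * s⁻¹) = s * z * s⁻¹ * y) (hxK : x ∈ K)
    (hxz : ∃ y ∈ K, x * y ≠ y * x) : x⁻¹ * (s * x * s⁻¹) ≠ 1 := by
  intro h
  obtain ⟨y, hy, hne⟩ := hxz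
  have h1 : x = s * x * s⁻¹ := inv_mul_eq_one.1 h
  have h2 := hc y hy x hxK
  rw [← h1] at h2
  exact hne h2.symm

/-- **(T2), combinatorics.**  `T` normalises `K`, or `|T| = 3` and `T` is regular on the conjugates of `K`. -/
theorem torus [Finite G] (h : Scal A T) (hT : 3 ≤ Nat.card T) (hK : Comp K T) (hxK : x ∈ K)
    (hxz : ∃ y ∈ K, x * y ≠ y * x) (hxA : ∀ t ∈ T, x⁻¹ * (t * x * t⁻¹) ∈ A) :
    (∀ t ∈ T, ∀ y, t * y * t⁻¹ ∈ K ↔ y ∈ K) ∨
      Nat.card T = 3 ∧ ∀ t ∈ T, (∀ y, t * y * t⁻¹ ∈ K ↔ y ∈ K) → t = 1 := by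
  by_cases hcon : ∀ t ∈ T, ∀ y, t * y * t⁻¹ ∈ K ↔ y ∈ K
  · exact Or.inl hcon
  · right
    simp only [not_forall] at hcon
    obtain ⟨s, hs, hsK⟩ := hcon
    have hsK' : ¬ ∀ y, s * y * s⁻¹ ∈ K ↔ y ∈ K := by
      simpa only [not_forall] using hsK
    have hsc : ∀ y ∈ K, ∀ z ∈ K, y * (s * z * s⁻¹) = s * z * s⁻¹ * y := by
      rcases hK s hs with h1 | h1
      · exact absurd h1 hsK'
      · exact h1
    have ha := hxA s hs
    have ha1 := ne_one hsc hxK hxz
    have hc := h.card_L ha ha1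
    exact card_three (A := h.L ha) h.comm (fun b hb => h.sq b (h.L_le ha hb)) (h.norm_L ha) (h.trans_L ha)
      (fun b hb hb1 t ht => h.reg b (h.L_le ha hb) hb1 t ht) (by omega) hK hxK hxz hs hsK'
      (h.self_mem_L ha)

/-- `P` is elementary abelian if some `s ∈ T` moves `K`. -/
theorem elementary {P : Subgroup G} (hA2 : ∀ a ∈ A, a * a = 1) {s : G}
    (hc : ∀ y ∈ K, ∀ z ∈ K, y * (s * z * s⁻¹) = s * z * s⁻¹ * y) (hPK : P ≤ K)
    (hPz : ∀ x ∈ P, (∀ y ∈ K, x * y = y * x) → x = 1) (hPA : ∀ x ∈ P, x⁻¹ * (s * x * s⁻¹) ∈ A) :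
    (∀ x ∈ P, x * x = 1) ∧ ∀ x ∈ P, ∀ y ∈ P, x * y = y * x := by
  have hcen : ∀ z ∈ K, (∃ w ∈ K, z = s * w * s⁻¹) → ∀ y ∈ K, z * y = y * z := by
    rintro z hz ⟨w, hw, rfl⟩ y hy
    exact (hc y hy w hw).symm
  have hsq : ∀ x ∈ P, x * x = 1 := by
    intro x hx
    have h1 := hA2 _ (hPA x hx)
    have c1 : Commute x (s * x * s⁻¹) := hc x (hPK hx) x (hPK hx)
    have h2 : x⁻¹ * x⁻¹ * ((s * x * s⁻¹) * (s * x * s⁻¹)) = 1 := by
      have c2 : Commute x⁻¹ (s * x * s⁻¹) := c1.inv_left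
      calc x⁻¹ * x⁻¹ * ((s * x * s⁻¹) * (s * x * s⁻¹)) = x⁻¹ * (x⁻¹ * (s * x * s⁻¹)) * (s * x * s⁻¹) := by
            simp only [mul_assoc]
        _ = x⁻¹ * ((s * x * s⁻¹) * x⁻¹) * (s * x * s⁻¹) := by rw [c2.eq]
        _ = x⁻¹ * (s * x * s⁻¹) * (x⁻¹ * (s * x * s⁻¹)) := by simp only [mul_assoc]
        _ = 1 := h1
    have h3 : x * x = s * (x * x) * s⁻¹ := by
      have e : s * (x * x) * s⁻¹ = (s * x * s⁻¹) * (s * x * s⁻¹) := by group
      rw [e]
      calc x * x = (x⁻¹ * x⁻¹)⁻¹ := by rw [mul_inv_rev, inv_inv]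
        _ = _ := inv_eq_of_mul_eq_one_right h2
    exact hPz _ (P.mul_mem hx hx) (hcen _ (hPK (P.mul_mem hx hx)) ⟨x * x, hPK (P.mul_mem hx hx), h3⟩)
  refine ⟨hsq, fun x hx y hy => ?_⟩
  have hx1 : x⁻¹ = x := inv_eq_of_mul_eq_one_left (hsq x hx)
  have hy1 : y⁻¹ = y := inv_eq_of_mul_eq_one_left (hsq y hy)
  have hxy := hsq _ (P.mul_mem hx hy)
  calc x * y = (x * y)⁻¹ := (inv_eq_of_mul_eq_one_left hxy).symm
    _ = y⁻¹ * x⁻¹ := mul_inv_rev _ _
    _ = y * x := by rw [hx1, hy1]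


/-! ### The three components -/

/-- The exceptional output of (T2): `|T| = 3`, the conjugates of `K` under `T` commute, `P` is elementary abelian, and
`A` contains all `x^s x^t`. -/
structure Three (A T K P : Subgroup G) : Prop where
  card : Nat.card T = 3
  reg : ∀ t ∈ T, (∀ y, t * y * t⁻¹ ∈ K ↔ y ∈ K) → t = 1
  com : ∀ s ∈ T, ∀ t ∈ T, s ≠ t → ∀ y ∈ K, ∀ z ∈ K, s * y * s⁻¹ * (t * z * t⁻¹) = t * z * t⁻¹ * (s * y * s⁻¹)
  sq : ∀ x ∈ P, x * x = 1
  ab : ∀ x ∈ P, ∀ y ∈ P, x * y = y * x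
  mem : ∀ x ∈ P, ∀ s ∈ T, ∀ t ∈ T, s * x * s⁻¹ * (t * x * t⁻¹) ∈ A

/-- A generator of a group of order three. -/
theorem Three.gen {P : Subgroup G} (h : Three A T K P) :
    ∃ t ∈ T, t ≠ 1 ∧ t * t * t = 1 ∧ t * t ≠ 1 ∧ t * t ≠ t ∧ ∀ s ∈ T, s = 1 ∨ s = t ∨ s = t * t := by
  have hf : Fact (Nat.Prime 3) := ⟨Nat.prime_three⟩
  have hfin : Finite T := Nat.finite_of_card_ne_zero (by rw [h.card]; norm_num)
  have hne : T ≠ ⊥ := by
    rintro rfl
    have := h.card
    simp at this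
  obtain ⟨t, ht, ht1⟩ := (Subgroup.ne_bot_iff_exists_ne_one.1 hne : ∃ a : T, a ≠ 1).elim
    (fun a ha => ⟨(a : G), a.2, fun h => ha (Subtype.ext h)⟩) |> fun (h : ∃ t : G, t ∈ T ∧ t ≠ 1) => h
  have hord : orderOf t = 3 := by
    have h1 : orderOf t ∣ 3 := by
      have := Subgroup.orderOf_dvd_natCard T ht
      rwa [h.card] at this
    rcases (Nat.dvd_prime Nat.prime_three).1 h1 with h2 | h2
    · exact absurd (orderOf_eq_one_iff.1 h2) ht1
    · exact h2
  have h3 : t * t * t = 1 := by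
    have := pow_orderOf_eq_one t
    rw [hord, pow_succ, pow_two] at this
    exact this
  have htt : t * t ≠ t := fun e => ht1 (by simpa using e)
  have htt1 : t * t ≠ 1 := by
    intro e
    rw [e, one_mul] at h3
    exact ht1 h3
  refine ⟨t, ht, ht1, h3, htt1, htt, fun s hs => ?_⟩
  have hz : Subgroup.zpowers t = T := by
    apply Subgroup.eq_of_le_of_card_ge
    · rwa [Subgroup.zpowers_le]
    · rw [Nat.card_zpowers, hord, h.card]
  rw [← hz] at hs
  obtain ⟨n, hn⟩ := (Subgroup.mem_zpowers_iff.1 hs)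
  have h4 : t ^ (3 : ℤ) = 1 := by
    rw [show (3 : ℤ) = ((3 : ℕ) : ℤ) by norm_num, zpow_natCast, pow_succ, pow_two, h3]
  have h5 : s = t ^ (n % 3) := by
    rw [← hn]
    conv_lhs => rw [← Int.emod_add_mul_ediv n 3, zpow_add, zpow_mul, h4, one_zpow, mul_one]
  have h6 : n % 3 = 0 ∨ n % 3 = 1 ∨ n % 3 = 2 := by omega
  rcases h6 with h6 | h6 | h6
  · left; rw [h5, h6, zpow_zero]
  · right; left; rw [h5, h6, zpow_one]
  · right; right; rw [h5, h6, show (2 : ℤ) = ((2 : ℕ) : ℤ) by norm_num, zpow_natCast, pow_two]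

/-- **(T2), combinatorics, final form.** -/
theorem torus_or_three [Finite G] {P : Subgroup G} (h : Scal A T) (hT : 3 ≤ Nat.card T) (hK : Comp K T)
    (hPK : P ≤ K) (hP1 : P ≠ ⊥) (hPz : ∀ x ∈ P, (∀ y ∈ K, x * y = y * x) → x = 1)
    (hPA : ∀ x ∈ P, ∀ t ∈ T, x⁻¹ * (t * x * t⁻¹) ∈ A) :
    (∀ t ∈ T, ∀ y, t * y * t⁻¹ ∈ K ↔ y ∈ K) ∨ Three A T K P := by
  obtain ⟨⟨x, hx⟩, hx1⟩ := (Subgroup.ne_bot_iff_exists_ne_one.1 hP1)
  have hxz : ∃ y ∈ K, x * y ≠ y * x := by
    by_contra hc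
    push Not at hc
    exact hx1 (Subtype.ext (hPz x hx hc))
  rcases torus h hT hK (hPK hx) hxz (hPA x hx) with h1 | ⟨h1, h2⟩
  · exact Or.inl h1
  · right
    -- an element moving `K`
    have hcom : ∀ t ∈ T, t ≠ 1 → ∀ y ∈ K, ∀ z ∈ K, y * (t * z * t⁻¹) = t * z * t⁻¹ * y := by
      intro t ht ht1
      rcases hK t ht with h3 | h3
      · exact absurd (h2 t ht h3) ht1
      · exact h3
    have hcom2 : ∀ s ∈ T, ∀ t ∈ T, s ≠ t → ∀ y ∈ K, ∀ z ∈ K,
        s * y * s⁻¹ * (t * z * t⁻¹) = t * z * t⁻¹ * (s * y * s⁻¹) := by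
      intro s hs t ht hst y hy z hz
      have hne : s⁻¹ * t ≠ 1 := fun e => hst (inv_mul_eq_one.1 e)
      have h3 := hcom _ (T.mul_mem (T.inv_mem hs) ht) hne y hy z hz
      calc s * y * s⁻¹ * (t * z * t⁻¹) = s * (y * (s⁻¹ * t * z * (s⁻¹ * t)⁻¹)) * s⁻¹ := by group
        _ = s * (s⁻¹ * t * z * (s⁻¹ * t)⁻¹ * y) * s⁻¹ := by rw [h3]
        _ = _ := by group
    have hTne : ∃ s ∈ T, s ≠ 1 := by
      by_contra hc
      push Not at hc
      have h4 : T = ⊥ := (Subgroup.eq_bot_iff_forall T).2 hc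
      rw [h4] at h1
      simp at h1
    obtain ⟨s, hs, hs1⟩ := hTne
    obtain ⟨hsq, hab⟩ := elementary h.sq (hcom s hs hs1) hPK hPz (fun y hy => hPA y hy s hs)
    refine ⟨h1, h2, hcom2, hsq, hab, fun y hy u hu v hv => ?_⟩
    have hy1 : y⁻¹ = y := inv_eq_of_mul_eq_one_left (hsq y hy)
    have h5 := hPA y hy _ (T.mul_mem (T.inv_mem hu) hv)
    rw [hy1] at h5
    have h6 := h.norm u hu _ h5
    have e : u * (y * (u⁻¹ * v * y * (u⁻¹ * v)⁻¹)) * u⁻¹ = u * y * u⁻¹ * (v * y * v⁻¹) := by group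
    rwa [e] at h6

/-! ### Components -/

/-- Conjugates of a component. -/
theorem comp_of_isComponent [Finite G] (hK : Cfsg.IsComponent K) : Comp K T := by
  intro t _
  by_cases ht : t ∈ Subgroup.normalizer (K : Set G)
  · left
    intro y
    exact (Subgroup.mem_normalizer_iff.1 ht y).symm
  · right
    intro y hy z hz
    exact (Cfsg.Agent.SylowL.NoComp.commute_of_notMem_normalizer hK ht hz hy).symm

/-- **(T2), combinatorics, for components**: `S` a 2-subgroup with `[S,T] ≤ A`, `S ∩ K` not trivial and `S ∩ Z(K) = 1`.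
-/
theorem torus_component [Finite G] {S : Subgroup G} (h : Scal A T) (hT : 3 ≤ Nat.card T)
    (hK : Cfsg.IsComponent K) (hS1 : S ⊓ K ≠ ⊥) (hZ : ∀ x ∈ S ⊓ K, (∀ y ∈ K, x * y = y * x) → x = 1)
    (hSA : ∀ x ∈ S, ∀ t ∈ T, x⁻¹ * (t * x * t⁻¹) ∈ A) :
    T ≤ Subgroup.normalizer (K : Set G) ∨ Three A T K (S ⊓ K) := by
  rcases torus_or_three h hT (comp_of_isComponent hK) inf_le_right hS1 hZ (fun x hx => hSA x hx.1) with h1 | h1
  · left
    intro t ht
    exact Subgroup.mem_normalizer_iff.2 fun y => (h1 t ht y).symm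
  · exact Or.inr h1

end Cfsg.Agent.Omega.Lie.CompT

end

-- merged: Cfsg.Agent.Mrg.Omega.Lie.LemmaTComp
section

section


/-!
# Components satisfy the hypotheses of (T1) (`LemmaT.lean`)

* `comp_of_isComponent`: a component `K` of a finite group `H` with `O_2(H) = 1` is a `LemmaT.Comp`;
* `exists_involution`: a subnormal subgroup of even order has an involution in every Sylow 2-subgroup of `H`.
* `Set0.normalises_component`: (T1) for components.
-/

set_option autoImplicit false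

namespace Cfsg.Agent.Omega.Lie.LemmaT

open Cfsg Subgroup

variable {H : Type*} [Group H]

theorem comp_of_isComponent [Finite H] {K : Subgroup H} (hK : IsComponent K) (hO : pCore 2 H = ⊥) : Comp K where
  conj := by
    intro g
    by_cases h : K.map (MulAut.conj g).toMonoidHom = K
    · left
      intro y
      constructor
      · intro hy
        rw [← h]
        exact ⟨y, hy, rfl⟩
      · intro hy
        rw [← h] at hy
        obtain ⟨x, hx, hxy⟩ := hy
        have h1 : g * x * g⁻¹ = g * y * g⁻¹ := hxy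
        have h2 : x = y := by
          have := congrArg (fun z => g⁻¹ * z * g) h1
          simpa [mul_assoc] using this
        rwa [← h2]
    · right
      intro x hx y hy
      have h1 := SignalizersComponents.Components.component_le_centralizer_of_ne hK
        (SignalizersComponents.Components.isComponent_conj g hK) (Ne.symm h) hx
      exact (mem_centralizer_iff.1 h1 (g * y * g⁻¹) ⟨y, hy, rfl⟩).symm
  cen := by
    intro x hx hxx hc
    let Z : Subgroup K := zpowers ⟨x, hx⟩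
    have hZc : Z ≤ center K := by
      rw [zpowers_le, mem_center_iff]
      intro y
      exact Subtype.ext (hc y y.2).symm
    have hZn : Z.Normal := ⟨fun z hz y => by
      have h1 := mem_center_iff.1 (hZc hz) y
      have h2 : y * z * y⁻¹ = z := by rw [h1]; group
      rwa [h2]⟩
    have hZp : IsPGroup 2 Z := by
      rw [IsPGroup.iff_card]
      have h1 : Nat.card Z ∣ 2 := by
        rw [Nat.card_zpowers]
        exact orderOf_dvd_of_pow_eq_one (by rw [pow_two]; exact Subtype.ext hxx)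
      rcases (Nat.dvd_prime Nat.prime_two).1 h1 with h2 | h2
      · exact ⟨0, by rw [h2, pow_zero]⟩
      · exact ⟨1, by rw [h2, pow_one]⟩
    have hZs : (Z.map K.subtype).IsSubnormal := by
      have h1 : Z.IsSubnormal := IsSubnormal.step Z ⊤ le_top IsSubnormal.top
        (by
          rw [normal_subgroupOf_iff_le_normalizer le_top]
          intro y _
          rw [mem_normalizer_iff]
          intro z
          constructor
          · intro hz; exact hZn.conj_mem z hz y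
          · intro hz
            have := hZn.conj_mem _ hz y⁻¹
            have e : y⁻¹ * (y * z * y⁻¹) * y⁻¹⁻¹ = z := by group
            rwa [e] at this)
      exact h1.trans' hK.1
    have h2 := SignalizersComponents.CompBasic.subnormal_pGroup_le_pCore hZs
      (hZp.map K.subtype)
    rw [hO] at h2
    have h3 : x ∈ Z.map K.subtype := ⟨⟨x, hx⟩, mem_zpowers _, rfl⟩
    exact mem_bot.1 (h2 h3)

theorem exists_involution [Finite H] (S : Sylow 2 H) {K : Subgroup H} (hK : K.IsSubnormal)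
    (h2 : 2 ∣ Nat.card K) : ∃ x ∈ K, x ∈ (S : Subgroup H) ∧ x ≠ 1 ∧ x * x = 1 := by
  obtain ⟨Q, hQ⟩ := Cfsg.Agent.S0542.result 2 K hK S
  have h3 : Q.toSubgroup ≠ ⊥ := Q.ne_bot_of_dvd_card h2
  have h4 : Nontrivial Q := (Subgroup.nontrivial_iff_ne_bot _).2 h3
  have h5 : 2 ∣ Nat.card Q := by
    obtain ⟨n, hn⟩ := IsPGroup.iff_card.1 Q.isPGroup'
    have hn0 : n ≠ 0 := by
      rintro rfl
      rw [pow_zero] at hn
      have h6 : 1 < Nat.card Q := Finite.one_lt_card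
      have h7 : Nat.card Q = 1 := hn
      omega
    have h8 : Nat.card Q = 2 ^ n := hn
    rw [h8]
    exact dvd_pow_self 2 hn0
  obtain ⟨x, hx⟩ := exists_prime_orderOf_dvd_card' 2 h5
  refine ⟨((x : K) : H), (x : K).2, ?_, ?_, ?_⟩
  · have h6 : (x : K) ∈ (S : Subgroup H).subgroupOf K := hQ ▸ (x.2 : (x : K) ∈ (Q : Subgroup K))
    exact mem_subgroupOf.1 h6
  · intro h6
    have h7 : x = 1 := Subtype.ext (Subtype.ext h6)
    rw [h7, orderOf_one] at hx
    exact absurd hx (by norm_num)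
  · have h6 : x * x = 1 := by
      have h7 := pow_orderOf_eq_one x
      rwa [hx, pow_two] at h7
    exact congrArg (fun y : Q => ((y : K) : H)) h6

/-- **(T1)** for components: `A` normalises every component of even order. `S` contains the involutions of `K` in
some Sylow 2-subgroup (e.g. `S = S₀ ∩ H⁰` with `K ≤ H⁰`). -/
theorem Set0.normalises_component [Finite H] {S A T : Subgroup H} (h : Set0 S A T)
    (hT : ∃ t ∈ T, t ≠ 1) (hO : pCore 2 H = ⊥) (S₀ : Sylow 2 H) {K : Subgroup H} (hK : IsComponent K)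
    (h2 : 2 ∣ Nat.card K) (hS : ∀ x ∈ (S₀ : Subgroup H), x ∈ K → x ∈ S) : A ≤ normalizer (K : Set H) := by
  obtain ⟨x, hxK, hxS, hx1, hx2⟩ := exists_involution S₀ hK.1 h2
  intro a ha
  rw [mem_normalizer_iff]
  exact h.normalises hT (comp_of_isComponent hK hO) hxK (hS x hxS hxK) hx1 hx2 ha

end Cfsg.Agent.Omega.Lie.LemmaT

end

section


/-!
# NODE LIE: the group `H = N(R) / O₂(N(R))` (bb OMEGA #10745, #12098)

`im R A` is the image of `A` in `HQ R = N(R)/O₂(N(R))`.  For the situation `b : BTC V R`, `τ : TorD V R i j v t`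
(torus), `C : Crd ..` (coordinates) and a Sylow 2-subgroup `S₁` of `G` in `N(V) ∩ N(R i)` we verify the abstract
hypotheses of `LemmaT`, `CompT`, `CompB` for `A = im (U j)`, `T = im τ.grp`, `S = im (S₁ ⊓ C(R i))`.
-/

set_option autoImplicit false
set_option linter.unusedSectionVars false

namespace Cfsg.Agent.Omega.Lie.Quot

open Subgroup Cfsg.Agent.Omega.BTwo Cfsg.Agent.Omega.Lie

universe u v w

variable {G : Type u} [Group G]

/-- `H = N(R) / O₂(N(R))` -/
abbrev HQ (R : Subgroup G) : Type u := ↥(normalizer (R : Set G)) ⧸ pCore 2 ↥(normalizer (R : Set G))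

/-- the projection `N(R) → H` -/
def pr (R : Subgroup G) : ↥(normalizer (R : Set G)) →* HQ R := QuotientGroup.mk' _

/-- the image of (the intersection with `N(R)` of) a subgroup of `G` -/
def im (R A : Subgroup G) : Subgroup (HQ R) := (A.subgroupOf (normalizer (R : Set G))).map (pr R)

theorem pr_surjective (R : Subgroup G) : Function.Surjective (pr R) := QuotientGroup.mk'_surjective _

theorem exists_pr {R : Subgroup G} (h : HQ R) : ∃ (g : G) (hg : g ∈ normalizer (R : Set G)), pr R ⟨g, hg⟩ = h := by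
  obtain ⟨g, rfl⟩ := pr_surjective R h
  exact ⟨g, g.2, rfl⟩

theorem mem_im {R A : Subgroup G} {h : HQ R} :
    h ∈ im R A ↔ ∃ (g : G) (hg : g ∈ normalizer (R : Set G)), g ∈ A ∧ pr R ⟨g, hg⟩ = h := by
  unfold im
  rw [mem_map]
  constructor
  · rintro ⟨g, hg, rfl⟩
    exact ⟨g, g.2, mem_subgroupOf.1 hg, rfl⟩
  · rintro ⟨g, hg, hgA, rfl⟩
    exact ⟨⟨g, hg⟩, mem_subgroupOf.2 hgA, rfl⟩

theorem pr_mem_im {R A : Subgroup G} {g : G} (hg : g ∈ normalizer (R : Set G)) (h : g ∈ A) :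
    pr R ⟨g, hg⟩ ∈ im R A := mem_im.2 ⟨g, hg, h, rfl⟩

theorem pr_eq_one {R : Subgroup G} {g : G} (hg : g ∈ normalizer (R : Set G)) :
    pr R ⟨g, hg⟩ = 1 ↔ g ∈ QQ R := by
  unfold pr
  rw [QuotientGroup.mk'_apply, QuotientGroup.eq_one_iff]
  constructor
  · intro h; exact ⟨⟨g, hg⟩, h, rfl⟩
  · rintro ⟨x, hx, hxg⟩
    have : x = ⟨g, hg⟩ := Subtype.ext hxg
    rwa [← this]

theorem pr_eq_pr {R : Subgroup G} {g h : G} (hg : g ∈ normalizer (R : Set G)) (hh : h ∈ normalizer (R : Set G)) :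
    pr R ⟨g, hg⟩ = pr R ⟨h, hh⟩ ↔ g⁻¹ * h ∈ QQ R := by
  have h1 : pr R ⟨g, hg⟩ = pr R ⟨h, hh⟩ ↔ pr R ⟨g⁻¹ * h, mul_mem (inv_mem hg) hh⟩ = 1 := by
    have e : (⟨g⁻¹ * h, mul_mem (inv_mem hg) hh⟩ : ↥(normalizer (R : Set G))) = ⟨g, hg⟩⁻¹ * ⟨h, hh⟩ := rfl
    rw [e, map_mul, map_inv, inv_mul_eq_one]
  rw [h1, pr_eq_one]

theorem im_mono {R A B : Subgroup G} (h : A ≤ B) : im R A ≤ im R B := by
  intro x hx
  obtain ⟨g, hg, hgA, rfl⟩ := mem_im.1 hx
  exact pr_mem_im hg (h hgA)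

theorem im_sup {R A B : Subgroup G} (hA : A ≤ normalizer (R : Set G)) (hB : B ≤ normalizer (R : Set G)) :
    im R (A ⊔ B) = im R A ⊔ im R B := by
  unfold im
  rw [subgroupOf_sup hA hB, Subgroup.map_sup]

theorem im_eq_bot {R A : Subgroup G} (hA : A ≤ QQ R) : im R A = ⊥ := by
  rw [eq_bot_iff]
  intro x hx
  obtain ⟨g, hg, hgA, rfl⟩ := mem_im.1 hx
  exact mem_bot.2 ((pr_eq_one hg).2 (hA hgA))

theorem im_isPGroup {R A : Subgroup G} {p : ℕ} (h : IsPGroup p A) : IsPGroup p (im R A) := by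
  unfold im
  exact (h.comap_of_injective _ (normalizer (R : Set G)).subtype_injective).map _

theorem pCore_HQ (R : Subgroup G) : pCore 2 (HQ R) = ⊥ := Lib.Cores.pCore_quotient_pCore 2

/-- membership in the image of a subgroup containing `O₂(N(R))` -/
theorem pr_mem_im_iff {R A : Subgroup G} (hA : QQ R ≤ A) {g : G} (hg : g ∈ normalizer (R : Set G)) :
    pr R ⟨g, hg⟩ ∈ im R A ↔ g ∈ A := by
  refine ⟨fun h => ?_, pr_mem_im hg⟩
  obtain ⟨x, hx, hxA, e⟩ := mem_im.1 h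
  have h1 := hA ((pr_eq_pr hx hg).1 e)
  have e2 : g = x * (x⁻¹ * g) := by group
  rw [e2]
  exact mul_mem hxA h1

theorem im_inf {R A B : Subgroup G} (hA : QQ R ≤ A) (hB : QQ R ≤ B) : im R (A ⊓ B) = im R A ⊓ im R B := by
  refine le_antisymm (le_inf (im_mono inf_le_left) (im_mono inf_le_right)) ?_
  intro x hx
  obtain ⟨g, hg, rfl⟩ := exists_pr x
  rw [mem_inf, pr_mem_im_iff hA, pr_mem_im_iff hB] at hx
  exact pr_mem_im hg (mem_inf.2 hx)

/-- the image of a Sylow 2-subgroup of `G` contained in `N(R)` -/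
theorem exists_sylow [Finite G] {R : Subgroup G} (S₁ : Sylow 2 G) (hS : (S₁ : Subgroup G) ≤ normalizer (R : Set G)) :
    ∃ P : Sylow 2 (HQ R), (P : Subgroup (HQ R)) = im R S₁ := by
  refine ⟨(S₁.subtype hS).mapSurjective (pr_surjective R), ?_⟩
  rfl

theorem QQ_le_sylow [Finite G] {R : Subgroup G} (S₁ : Sylow 2 G) (hS : (S₁ : Subgroup G) ≤ normalizer (R : Set G)) :
    QQ R ≤ S₁ := by
  rintro _ ⟨x, hx, rfl⟩
  exact (Lib.Cores.pCore_le_sylow (S₁.subtype hS) hx : x ∈ (S₁ : Subgroup G).subgroupOf _)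

/-! ### The real situation -/

section real

variable {ι : Type w} {V : Subgroup G} {R : ι → Subgroup G} {F : Type v} [Field F] {i j : ι} {v : F → F → G}
  {t : F → G} {w1 w2 : F → G}

/-- `A = U j O₂(N(R i)) / O₂(N(R i))` -/
def AA (V : Subgroup G) (R : ι → Subgroup G) (i j : ι) : Subgroup (HQ (R i)) := im (R i) (UU V R j)

/-- `T` in `H` -/
def TT (τ : TorD V R i j v t) : Subgroup (HQ (R i)) := im (R i) τ.grp

/-- `S = (S₁ ∩ C(R i)) / O₂(N(R i))` -/
def SS (R : ι → Subgroup G) (i : ι) (P : Subgroup G) : Subgroup (HQ (R i)) :=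
  im (R i) (P ⊓ centralizer (R i : Set G))

/-- `H⁰ = C(R i) / O₂(N(R i))` -/
def H0 (R : ι → Subgroup G) (i : ι) : Subgroup (HQ (R i)) := im (R i) (centralizer (R i : Set G))

section

variable (b : BT V R)
include b

theorem U_le_N (i j : ι) : UU V R j ≤ normalizer (R i : Set G) := (UU_le_cen j).trans (b.cen_le_N i)

theorem U_inf_Q (hij : i ≠ j) {u : G} (hu : u ∈ UU V R j) : u ∈ QQ (R i) ↔ u ∈ DD V R := by
  constructor
  · intro h
    rw [b.D_eq hij.symm]
    exact mem_inf.2 ⟨UU_le_WW j hu, h⟩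
  · intro h
    exact b.W_le_Q i (mem_DD.1 h i)

theorem Q_le_C (i : ι) : QQ (R i) ≤ centralizer (R i : Set G) := fun g hg =>
  mem_centralizer_iff.2 fun a ha => (b.QR i g hg a ha).symm

theorem mem_AA {h : HQ (R i)} : h ∈ AA V R i j ↔
    ∃ (u : G) (hu : u ∈ UU V R j), pr (R i) ⟨u, U_le_N b i j hu⟩ = h := by
  unfold AA
  rw [mem_im]
  constructor
  · rintro ⟨g, hg, hu, rfl⟩; exact ⟨g, hu, rfl⟩
  · rintro ⟨g, hu, rfl⟩; exact ⟨g, _, hu, rfl⟩

theorem A_sq (hij : i ≠ j) {a : HQ (R i)} (ha : a ∈ AA V R i j) : a * a = 1 := by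
  obtain ⟨u, hu, rfl⟩ := (mem_AA b).1 ha
  rw [← map_mul]
  have h1 : u * u ∈ DD V R := b.Y_sq (UU_le_YY j hu)
  exact (pr_eq_one (mul_mem (U_le_N b i j hu) (U_le_N b i j hu))).2
    ((U_inf_Q b hij (mul_mem hu hu)).2 h1)

end

section tor

variable (b : BT V R) (τ : TorD V R i j v t)

theorem mem_TT {h : HQ (R i)} : h ∈ TT τ ↔ ∃ (a : F) (ha : a ≠ 0), pr (R i) ⟨t a, τ.normR ha⟩ = h := by
  unfold TT
  rw [mem_im]
  constructor
  · rintro ⟨g, hg, ⟨a, ha, rfl⟩, rfl⟩; exact ⟨a, ha, rfl⟩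
  · rintro ⟨a, ha, rfl⟩; exact ⟨t a, _, ⟨a, ha, rfl⟩, rfl⟩

theorem T_comm {x y : HQ (R i)} (hx : x ∈ TT τ) (hy : y ∈ TT τ) : x * y = y * x := by
  obtain ⟨a, ha, rfl⟩ := (mem_TT τ).1 hx
  obtain ⟨c, hc, rfl⟩ := (mem_TT τ).1 hy
  rw [← map_mul, ← map_mul]
  exact congrArg (pr (R i)) (Subtype.ext (τ.comm ha hc))

include b τ

theorem t_norm_U {a : F} (ha : a ≠ 0) {u : G} (hu : u ∈ UU V R j) : t a * u * (t a)⁻¹ ∈ UU V R j := by
  have h1 := b.cj_UU (b.X_le_NV (τ.memX a ha)) (cj_eq_self_iff.2 (τ.normR' ha))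
  rw [← h1]
  exact conj_mem_cj hu

theorem TA_mem {x a : HQ (R i)} (hx : x ∈ TT τ) (ha : a ∈ AA V R i j) : x * a * x⁻¹ ∈ AA V R i j := by
  obtain ⟨c, hc, rfl⟩ := (mem_TT τ).1 hx
  obtain ⟨u, hu, rfl⟩ := (mem_AA b).1 ha
  exact (mem_AA b).2 ⟨_, t_norm_U b τ hc hu, rfl⟩

/-- `t a` acts fixed point freely on `A` -/
theorem fpf (hij : i ≠ j) {a : F} (ha : a ≠ 0) (ha1 : a ≠ 1) {u : G} (hu : u ∈ UU V R j)
    (h : u⁻¹ * (t a * u * (t a)⁻¹) ∈ QQ (R i)) : u ∈ DD V R := by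
  have h1 : u⁻¹ * (t a * u * (t a)⁻¹) ∈ DD V R :=
    (U_inf_Q b hij (mul_mem (inv_mem hu) (t_norm_U b τ ha hu))).1 h
  have hN : u ∈ normalizer (DD V R : Set G) := b.NV_le_ND (cen_le_NV V (UU_le_cen j hu))
  have h2 := conj_mem_of_normalizer hN h1
  have e : u * (u⁻¹ * (t a * u * (t a)⁻¹)) * u⁻¹ = (t a⁻¹)⁻¹ * u * t a⁻¹ * u⁻¹ := by
    rw [τ.inv ha]; group
  rw [e] at h2
  exact τ.fpf_U' b (inv_ne_zero ha) (by rwa [ne_eq, inv_eq_one]) hu h2

/-- an odd order element of `O₂(N(R i))` is trivial -/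
theorem t_notin {a : F} (ha : a ≠ 0) (h : t a ∈ QQ (R i)) : a = 1 := by
  have h1 : orderOf (t a) = 1 := by
    obtain ⟨n, hn⟩ := O2_isPGroup _ ⟨t a, h⟩
    have hn' : (t a) ^ 2 ^ n = 1 := congrArg Subtype.val hn
    have h2 := orderOf_dvd_of_pow_eq_one hn'
    have h3 : Nat.Coprime (orderOf (t a)) (2 ^ n) := (Nat.coprime_two_right.2 (τ.odd a ha)).pow_right n
    exact Nat.Coprime.eq_one_of_dvd h3 h2
  have h2 : t a = 1 := orderOf_eq_one_iff.1 h1
  by_contra ha1
  have h3 := τ.fpf_V ha ha1 (g := v 1 0) ((τ.v_mem _).2 ⟨1, 0, rfl⟩) (by rw [h2]; group)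
  exact one_ne_zero (τ.v_inj _ _ h3).1

theorem T_reg (hij : i ≠ j) {a : HQ (R i)} (ha : a ∈ AA V R i j) (ha1 : a ≠ 1) {x : HQ (R i)} (hx : x ∈ TT τ)
    (h : x * a * x⁻¹ = a) : x = 1 := by
  obtain ⟨c, hc, rfl⟩ := (mem_TT τ).1 hx
  obtain ⟨u, hu, rfl⟩ := (mem_AA b).1 ha
  by_cases hc1 : c = 1
  · subst hc1
    rw [pr_eq_one, τ.one]
    exact one_mem _
  · exfalso
    apply ha1
    rw [pr_eq_one]
    have h1 : pr (R i) ⟨u, U_le_N b i j hu⟩ = pr (R i) ⟨t c * u * (t c)⁻¹,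
        mul_mem (mul_mem (τ.normR hc) (U_le_N b i j hu)) (inv_mem (τ.normR hc))⟩ := h.symm
    exact (U_inf_Q b hij hu).2 (fpf b τ hij hc hc1 hu ((pr_eq_pr _ _).1 h1))

theorem T_line (hij : i ≠ j) {a : HQ (R i)} (ha : a ∈ AA V R i j) {x : HQ (R i)} (hx : x ∈ TT τ) :
    a * (x * a * x⁻¹) = 1 ∨ ∃ y ∈ TT τ, a * (x * a * x⁻¹) = y * a * y⁻¹ := by
  obtain ⟨c, hc, rfl⟩ := (mem_TT τ).1 hx
  obtain ⟨u, hu, rfl⟩ := (mem_AA b).1 ha
  by_cases h0 : 1 + c⁻¹ = 0
  · left
    have hc1 : c = 1 := by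
      have h1 := τ.two b (1 : F)
      have h2 : c⁻¹ = 1 := add_left_cancel (h0.trans h1.symm)
      rw [← inv_inv c, h2, inv_one]
    subst hc1
    have e : pr (R i) ⟨t 1, τ.normR hc⟩ = 1 := by rw [pr_eq_one, τ.one]; exact one_mem _
    rw [e, one_mul, inv_one, mul_one]
    exact A_sq b hij ha
  · right
    have h1 := τ.wU' 1 c⁻¹ one_ne_zero (inv_ne_zero hc) h0 u hu
    rw [τ.one, inv_one, one_mul, mul_one, τ.inv hc, inv_inv] at h1
    refine ⟨(pr (R i) ⟨t (1 + c⁻¹), τ.normR h0⟩)⁻¹, inv_mem ((mem_TT τ).2 ⟨_, h0, rfl⟩), ?_⟩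
    have hUN := U_le_N b i j hu
    have htN := τ.normR hc
    have hsN := τ.normR h0
    have e1 : (pr (R i) ⟨t (1 + c⁻¹), τ.normR h0⟩)⁻¹ * pr (R i) ⟨u, hUN⟩ * (pr (R i) ⟨t (1 + c⁻¹), τ.normR h0⟩)⁻¹⁻¹ =
        pr (R i) ⟨(t (1 + c⁻¹))⁻¹ * u * t (1 + c⁻¹), mul_mem (mul_mem (inv_mem hsN) hUN) hsN⟩ := by
      rw [inv_inv]; rfl
    have e2 : pr (R i) ⟨u, hUN⟩ * (pr (R i) ⟨t c, htN⟩ * pr (R i) ⟨u, hUN⟩ * (pr (R i) ⟨t c, htN⟩)⁻¹) =
        pr (R i) ⟨u * (t c * u * (t c)⁻¹), mul_mem hUN (mul_mem (mul_mem htN hUN) (inv_mem htN))⟩ := rfl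
    rw [e1, e2, pr_eq_pr]
    set x := (t (1 + c⁻¹))⁻¹ * u * t (1 + c⁻¹) with hx'
    set y := u * (t c * u * (t c)⁻¹) with hy'
    have hyU : y ∈ UU V R j := mul_mem hu (t_norm_U b τ hc hu)
    have hN : y⁻¹ ∈ normalizer (DD V R : Set G) := b.NV_le_ND (cen_le_NV V (UU_le_cen j (inv_mem hyU)))
    have h2 := conj_mem_of_normalizer hN h1
    have e3 : y⁻¹ * (x * y⁻¹) * y⁻¹⁻¹ = y⁻¹ * x := by group
    rw [e3] at h2
    exact b.W_le_Q i (mem_DD.1 h2 i)

theorem scal (hij : i ≠ j) : CompT.Scal (AA V R i j) (TT τ) where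
  comm _ hs _ ht := T_comm τ hs ht
  sq _ ha := A_sq b hij ha
  norm _ ht _ ha := TA_mem b τ ht ha
  reg _ ha ha1 _ ht h := T_reg b τ hij ha ha1 ht h
  line _ ha _ ht := T_line b τ hij ha ht

/-- `|T| = q - 1` -/
theorem card_T [Finite F] : Nat.card (TT τ) + 1 = Nat.card F := by
  have h1 : Nat.card (TT τ) = Nat.card Fˣ := by
    symm
    refine Nat.card_congr (Equiv.ofBijective (fun a : Fˣ =>
      (⟨pr (R i) ⟨t a, τ.normR a.ne_zero⟩, (mem_TT τ).2 ⟨a, a.ne_zero, rfl⟩⟩ : TT τ)) ⟨?_, ?_⟩)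
    · intro a c hac
      have h2 : pr (R i) ⟨t a, τ.normR a.ne_zero⟩ = pr (R i) ⟨t c, τ.normR c.ne_zero⟩ := congrArg Subtype.val hac
      have h3 := (pr_eq_pr _ _).1 h2
      have h4 : (t (a : F))⁻¹ * t (c : F) = t ((a : F)⁻¹ * c) := by
        rw [τ.mul _ _ (inv_ne_zero a.ne_zero) c.ne_zero, τ.inv a.ne_zero]
      rw [h4] at h3
      have h5 := t_notin b τ (mul_ne_zero (inv_ne_zero a.ne_zero) c.ne_zero) h3
      apply Units.ext
      rw [inv_mul_eq_one₀ a.ne_zero] at h5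
      exact h5
    · rintro ⟨x, hx⟩
      obtain ⟨a, ha, rfl⟩ := (mem_TT τ).1 hx
      exact ⟨Units.mk0 a ha, rfl⟩
  rw [h1, Nat.card_units]
  have : 0 < Nat.card F := Nat.card_pos
  omega

/-- `A = [A, x]` for every `1 ≠ x ∈ T` -/
theorem A_gen (hij : i ≠ j) {a : F} (ha : a ≠ 0) (ha1 : a ≠ 1) {x : HQ (R i)} (hx : x ∈ AA V R i j) :
    ∃ y ∈ AA V R i j, x = y⁻¹ * (pr (R i) ⟨t a, τ.normR ha⟩ * y * (pr (R i) ⟨t a, τ.normR ha⟩)⁻¹) := by
  obtain ⟨u, hu, rfl⟩ := (mem_AA b).1 hx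
  obtain ⟨u', hu', h⟩ := τ.exists_comm b ha ha1 hu
  have hUN := U_le_N b i j hu
  have hUN' := U_le_N b i j hu'
  have htN := τ.normR ha
  refine ⟨pr (R i) ⟨u', hUN'⟩, (mem_AA b).2 ⟨u', hu', rfl⟩, ?_⟩
  have hc := (scal b τ hij)
  have hA' : pr (R i) ⟨u', hUN'⟩ ∈ AA V R i j := (mem_AA b).2 ⟨u', hu', rfl⟩
  have hT : pr (R i) ⟨t a, htN⟩ ∈ TT τ := (mem_TT τ).2 ⟨a, ha, rfl⟩
  have e1 : pr (R i) ⟨u, hUN⟩ = pr (R i) ⟨t a * u' * (t a)⁻¹ * u'⁻¹,
      mul_mem (mul_mem (mul_mem htN hUN') (inv_mem htN)) (inv_mem hUN')⟩ := by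
    symm
    rw [pr_eq_pr]
    set y := t a * u' * (t a)⁻¹ * u'⁻¹ with hy
    have hyU : y ∈ UU V R j := mul_mem (t_norm_U b τ ha hu') (inv_mem hu')
    have hN : y⁻¹ ∈ normalizer (DD V R : Set G) := b.NV_le_ND (cen_le_NV V (UU_le_cen j (inv_mem hyU)))
    have h2 := conj_mem_of_normalizer hN h
    have e3 : y⁻¹ * (u * y⁻¹) * y⁻¹⁻¹ = y⁻¹ * u := by group
    rw [e3] at h2
    exact b.W_le_Q i (mem_DD.1 h2 i)
  have e2 : pr (R i) ⟨t a * u' * (t a)⁻¹ * u'⁻¹,
      mul_mem (mul_mem (mul_mem htN hUN') (inv_mem htN)) (inv_mem hUN')⟩ =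
      pr (R i) ⟨t a, htN⟩ * pr (R i) ⟨u', hUN'⟩ * (pr (R i) ⟨t a, htN⟩)⁻¹ * (pr (R i) ⟨u', hUN'⟩)⁻¹ := rfl
  rw [e1, e2]
  -- `A` is commutative
  have hcomm : ∀ x ∈ AA V R i j, ∀ y ∈ AA V R i j, x * y = y * x := by
    intro x hx y hy
    have h1 := hc.sq _ (mul_mem hx hy)
    have h2 : (x * y)⁻¹ = x * y := inv_eq_of_mul_eq_one_left h1
    rw [mul_inv_rev, inv_eq_of_mul_eq_one_left (hc.sq x hx), inv_eq_of_mul_eq_one_left (hc.sq y hy)] at h2
    exact h2.symm
  exact hcomm _ (hc.norm _ hT _ hA') _ (inv_mem hA')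

end tor

/-! ### The Sylow subgroup -/

section syl

variable [Finite G] (b : BT V R) (τ : TorD V R i j v t) (C : Crd V R i j v w1 w2) (S₁ : Sylow 2 G)

/-- `S₁` contains every 2-subgroup normalised by `N(V)` -/
theorem le_sylow_of_normal {N P : Subgroup G} (hS : (S₁ : Subgroup G) ≤ N) (hP : P ≤ N) (h2 : IsPGroup 2 P)
    (hn : ∀ g ∈ N, ∀ x ∈ P, g * x * g⁻¹ ∈ P) : P ≤ S₁ := by
  have h1 : P ≤ O2 N := le_O2_of_normal hP h2 hn
  intro x hx
  obtain ⟨y, hy, rfl⟩ := h1 hx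
  exact (Lib.Cores.pCore_le_sylow (S₁.subtype hS) hy : y ∈ (S₁ : Subgroup G).subgroupOf _)

include b

theorem Y_isPGroup : IsPGroup 2 (YY V R) := by
  intro y
  refine ⟨2, Subtype.ext ?_⟩
  change (y : G) ^ (2 ^ 2) = 1
  have h1 := b.Y_sq y.2
  have h2 := b.D_sq h1
  rw [show (2 ^ 2 : ℕ) = 2 * 2 from rfl, pow_mul, pow_two, pow_two]
  exact h2

theorem Y_le_sylow (hV : (S₁ : Subgroup G) ≤ normalizer (V : Set G)) : YY V R ≤ S₁ :=
  le_sylow_of_normal S₁ hV Y_le_NV (Y_isPGroup b) fun _ hg _ hx => conj_mem_of_normalizer (b.NV_le_NY hg) hx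

theorem W_le_sylow (hR : (S₁ : Subgroup G) ≤ normalizer (R i : Set G)) : WW V (R i) ≤ S₁ :=
  (b.W_le_Q i).trans (QQ_le_sylow S₁ hR)

/-- `A ≤ S` -/
theorem A_le_S (i j : ι) (hV : (S₁ : Subgroup G) ≤ normalizer (V : Set G)) : AA V R i j ≤ SS R i S₁ := by
  refine im_mono (le_inf ((UU_le_YY j).trans (Y_le_sylow b S₁ hV)) ?_)
  exact (UU_le_cen j).trans (centralizer_le (b.R_le i))

include C

/-- `S₁ ⊓ C(R i) = (S₁ ⊓ C(V)) W i` -/
theorem S_eq (hV : (S₁ : Subgroup G) ≤ normalizer (V : Set G)) (hR : (S₁ : Subgroup G) ≤ normalizer (R i : Set G)) :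
    (S₁ : Subgroup G) ⊓ centralizer (R i : Set G) = ((S₁ : Subgroup G) ⊓ centralizer (V : Set G)) ⊔ WW V (R i) := by
  have hWR : WW V (R i) ≤ centralizer (R i : Set G) := (b.W_le_Q i).trans (Q_le_C b i)
  apply le_antisymm
  · intro g hg
    obtain ⟨w, hw, hwg⟩ := cen_fact b C (P := (S₁ : Subgroup G) ⊓ centralizer (R i : Set G))
      (S₁.isPGroup'.to_le inf_le_left) (inf_le_left.trans hV) inf_le_right
      (le_inf (W_le_sylow b S₁ hR) hWR) hg
    have e : g = w⁻¹ * (w * g) := by group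
    rw [e]
    refine mul_mem (mem_sup_right (inv_mem hw)) (mem_sup_left (mem_inf.2 ⟨?_, hwg⟩))
    exact mul_mem (W_le_sylow b S₁ hR hw) (mem_inf.1 hg).1
  · refine sup_le (inf_le_inf_left _ (centralizer_le (b.R_le i))) (le_inf (W_le_sylow b S₁ hR) hWR)

include τ

/-- `T` normalises `S` -/
theorem TS_mem (hV : (S₁ : Subgroup G) ≤ normalizer (V : Set G)) (hR : (S₁ : Subgroup G) ≤ normalizer (R i : Set G))
    {x s : HQ (R i)} (hx : x ∈ TT τ) (hs : s ∈ SS R i S₁) : x * s * x⁻¹ ∈ SS R i S₁ := by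
  obtain ⟨a, ha, rfl⟩ := (mem_TT τ).1 hx
  obtain ⟨g, hg, hgS, rfl⟩ := mem_im.1 hs
  have h1 := X_norm_sup b (P := (S₁ : Subgroup G) ⊓ centralizer (V : Set G)) inf_le_right
    (le_inf (Y_le_sylow b S₁ hV) YY_le_cen) i (τ.memX a ha) (τ.normR ha)
  rw [← S_eq b C S₁ hV hR] at h1
  exact mem_im.2 ⟨_, _, conj_mem_of_normalizer h1 hgS, rfl⟩

/-- `[S, T] ≤ A` -/
theorem ST_mem (hij : i ≠ j) (hV : (S₁ : Subgroup G) ≤ normalizer (V : Set G))
    (hR : (S₁ : Subgroup G) ≤ normalizer (R i : Set G))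
    {x s : HQ (R i)} (hx : x ∈ TT τ) (hs : s ∈ SS R i S₁) : s⁻¹ * (x * s * x⁻¹) ∈ AA V R i j := by
  obtain ⟨a, ha, rfl⟩ := (mem_TT τ).1 hx
  obtain ⟨g, hg, hgS, rfl⟩ := mem_im.1 hs
  rw [S_eq b C S₁ hV hR] at hgS
  have hle : (S₁ : Subgroup G) ⊓ centralizer (V : Set G) ⊔ WW V (R i) ≤ centralizer (V : Set G) ⊔ WW V (R i) :=
    sup_le (inf_le_right.trans le_sup_left) le_sup_right
  have hgS' : g ∈ centralizer (V : Set G) ⊔ WW V (R i) := hle hgS
  have h1 := comm_X_sup b i (inv_mem hgS') (τ.memX a ha) (τ.normR ha)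
  rw [Y_sup_W b hij] at h1
  have htN := τ.normR ha
  have e : (pr (R i) ⟨g, hg⟩)⁻¹ * (pr (R i) ⟨t a, htN⟩ * pr (R i) ⟨g, hg⟩ * (pr (R i) ⟨t a, htN⟩)⁻¹) =
      pr (R i) ⟨g⁻¹ * t a * g⁻¹⁻¹ * (t a)⁻¹, mul_mem (mul_mem (mul_mem (inv_mem hg) htN) (inv_mem (inv_mem hg)))
        (inv_mem htN)⟩ := by
    have e1 : (⟨g⁻¹ * t a * g⁻¹⁻¹ * (t a)⁻¹, mul_mem (mul_mem (mul_mem (inv_mem hg) htN) (inv_mem (inv_mem hg)))
        (inv_mem htN)⟩ : ↥(normalizer (R i : Set G))) = (⟨g, hg⟩)⁻¹ * (⟨t a, htN⟩ * ⟨g, hg⟩ * (⟨t a, htN⟩)⁻¹) := by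
      apply Subtype.ext
      change g⁻¹ * t a * g⁻¹⁻¹ * (t a)⁻¹ = g⁻¹ * (t a * g * (t a)⁻¹)
      group
    rw [e1]; rfl
  rw [e]
  -- `U j ⊔ W i` maps onto `A`
  have h2 : im (R i) (UU V R j ⊔ WW V (R i)) = AA V R i j := by
    rw [im_sup (U_le_N b i j) (b.W_le_N i), im_eq_bot (b.W_le_Q i), sup_bot_eq]
    rfl
  rw [← h2]
  exact pr_mem_im _ h1

omit τ

theorem S_eq_im (hV : (S₁ : Subgroup G) ≤ normalizer (V : Set G)) (hR : (S₁ : Subgroup G) ≤ normalizer (R i : Set G)) :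
    SS R i S₁ = im (R i) ((S₁ : Subgroup G) ⊓ centralizer (V : Set G)) := by
  unfold SS
  rw [S_eq b C S₁ hV hR, im_sup (inf_le_right.trans (b.cen_le_N i)) (b.W_le_N i), im_eq_bot (b.W_le_Q i),
    sup_bot_eq]

/-- `S` normalises `A` -/
theorem SA_mem (hV : (S₁ : Subgroup G) ≤ normalizer (V : Set G)) (hR : (S₁ : Subgroup G) ≤ normalizer (R i : Set G))
    {s a : HQ (R i)} (hs : s ∈ SS R i S₁) (ha : a ∈ AA V R i j) : s * a * s⁻¹ ∈ AA V R i j := by
  rw [S_eq_im b C S₁ hV hR] at hs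
  obtain ⟨g, hg, hgS, rfl⟩ := mem_im.1 hs
  obtain ⟨u, hu, rfl⟩ := (mem_AA b).1 ha
  exact (mem_AA b).2 ⟨_, conj_mem_of_normalizer (b.cen_le_NU j (mem_inf.1 hgS).2) hu, rfl⟩

include τ

/-- the hypotheses of (T1) -/
theorem set0 (hij : i ≠ j) (hV : (S₁ : Subgroup G) ≤ normalizer (V : Set G))
    (hR : (S₁ : Subgroup G) ≤ normalizer (R i : Set G)) : LemmaT.Set0 (SS R i S₁) (AA V R i j) (TT τ) where
  sq _ ha := A_sq b hij ha
  SA _ hs _ ha := SA_mem b C S₁ hV hR hs ha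
  TA _ ht _ ha := TA_mem b τ ht ha
  free x hx hx1 a ha h := by
    by_contra ha1
    exact hx1 (T_reg b τ hij ha ha1 hx h)

theorem exists_T [Finite F] (hF : 4 ≤ Nat.card F) : ∃ x ∈ TT τ, x ≠ 1 := by
  by_contra hcon
  push Not at hcon
  have h1 : TT τ = ⊥ := (Subgroup.eq_bot_iff_forall _).2 hcon
  have h2 := card_T b τ
  rw [h1, Subgroup.card_bot] at h2
  omega

omit τ C

/-- `S` is the intersection of a Sylow 2-subgroup of `H` with `H⁰` -/
theorem exists_P (hR : (S₁ : Subgroup G) ≤ normalizer (R i : Set G)) :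
    ∃ P : Sylow 2 (HQ (R i)), (P : Subgroup (HQ (R i))) ⊓ H0 R i = SS R i S₁ := by
  obtain ⟨P, hP⟩ := exists_sylow S₁ hR
  refine ⟨P, ?_⟩
  rw [hP]
  exact (im_inf (QQ_le_sylow S₁ hR) (Q_le_C b i)).symm

omit b in
theorem S_isPGroup : IsPGroup 2 (SS R i S₁) := im_isPGroup (S₁.isPGroup'.to_le inf_le_left)

omit b in
theorem S_le_H0 : SS R i S₁ ≤ H0 R i := im_mono inf_le_right

/-- `S ⊓ K` is a Sylow 2-subgroup of every subnormal subgroup `K ≤ H⁰` -/
theorem syl (hR : (S₁ : Subgroup G) ≤ normalizer (R i : Set G)) {K : Subgroup (HQ (R i))} (hK : K.IsSubnormal)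
    (hK0 : K ≤ H0 R i) {P : Subgroup (HQ (R i))} (hPK : P ≤ K) (hP : IsPGroup 2 P) (hSP : SS R i S₁ ⊓ K ≤ P) :
    P ≤ SS R i S₁ := by
  obtain ⟨P₀, hP₀⟩ := exists_P b S₁ hR
  obtain ⟨Q, hQ⟩ := Cfsg.Agent.S0542.result 2 K hK P₀
  have h1 : (Q : Subgroup K) ≤ P.subgroupOf K := by
    rw [hQ]
    intro x hx
    refine mem_subgroupOf.2 (hSP ?_)
    rw [← hP₀]
    exact ⟨⟨mem_subgroupOf.1 hx, hK0 x.2⟩, x.2⟩
  have h2 : P.subgroupOf K = Q := Q.is_maximal' (hP.comap_of_injective _ K.subtype_injective) h1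
  intro x hx
  have h3 : (⟨x, hPK hx⟩ : K) ∈ (Q : Subgroup K) := by
    rw [← h2]
    exact mem_subgroupOf.2 hx
  rw [hQ] at h3
  rw [← hP₀]
  exact ⟨mem_subgroupOf.1 h3, hK0 (hPK hx)⟩

include τ C

/-- **(T1)** in `H = N(R i)/O₂(N(R i))` -/
theorem A_norm [Finite F] (hij : i ≠ j) (hF : 4 ≤ Nat.card F) (hV : (S₁ : Subgroup G) ≤ normalizer (V : Set G))
    (hR : (S₁ : Subgroup G) ≤ normalizer (R i : Set G)) {K : Subgroup (HQ (R i))} (hK : Cfsg.IsComponent K)
    (hK0 : K ≤ H0 R i) (h2 : 2 ∣ Nat.card K) : AA V R i j ≤ normalizer (K : Set (HQ (R i))) := by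
  obtain ⟨P, hP⟩ := exists_P b S₁ hR
  refine (set0 b τ C S₁ hij hV hR).normalises_component (exists_T b τ C hF) (pCore_HQ _) P hK h2 ?_
  intro x hx hxK
  rw [← hP]
  exact ⟨hx, hK0 hxK⟩

/-- the centre of a component has odd order -/
theorem cen_odd {K : Subgroup (HQ (R i))} (hK : Cfsg.IsComponent K) {x : HQ (R i)} (hx : x ∈ K)
    (hc : ∀ y ∈ K, x * y = y * x) : Odd (orderOf x) := by
  have h1 := LemmaT.comp_of_isComponent hK (pCore_HQ (R i))
  rcases Nat.even_or_odd (orderOf x) with h | h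
  · exfalso
    obtain ⟨k, hk⟩ := h
    have hk0 : 0 < k := by
      have := orderOf_pos x
      omega
    have h2 : x ^ k * x ^ k = 1 := by rw [← pow_add, ← hk]; exact pow_orderOf_eq_one x
    have h3 : x ^ k = 1 := by
      refine h1.cen _ (K.pow_mem hx k) h2 ?_
      intro y hy
      exact (show Commute x y from hc y hy).pow_left k
    have h4 := orderOf_dvd_of_pow_eq_one h3
    have h5 := Nat.le_of_dvd hk0 h4
    omega
  · exact h

theorem S_inf_ne_bot (hR : (S₁ : Subgroup G) ≤ normalizer (R i : Set G)) {K : Subgroup (HQ (R i))}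
    (hK : Cfsg.IsComponent K) (hK0 : K ≤ H0 R i) (h2 : 2 ∣ Nat.card K) : SS R i S₁ ⊓ K ≠ ⊥ := by
  obtain ⟨P, hP⟩ := exists_P b S₁ hR
  obtain ⟨x, hxK, hxP, hx1, -⟩ := LemmaT.exists_involution P hK.1 h2
  intro h
  apply hx1
  have h3 : x ∈ SS R i S₁ ⊓ K := ⟨by rw [← hP]; exact ⟨hxP, hK0 hxK⟩, hxK⟩
  rw [h] at h3
  exact mem_bot.1 h3

/-- `S ⊓ K` has no element `≠ 1` centralising `K` -/
theorem S_inf_cen {K : Subgroup (HQ (R i))} (hK : Cfsg.IsComponent K) {x : HQ (R i)} (hx : x ∈ SS R i S₁ ⊓ K)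
    (hc : ∀ y ∈ K, x * y = y * x) : x = 1 := by
  have h1 := cen_odd b τ C hK (mem_inf.1 hx).2 hc
  obtain ⟨n, hn⟩ := S_isPGroup S₁ ⟨x, (mem_inf.1 hx).1⟩
  have hn' : x ^ 2 ^ n = 1 := congrArg Subtype.val hn
  have h2 := orderOf_dvd_of_pow_eq_one hn'
  have h3 : Nat.Coprime (orderOf x) (2 ^ n) := (Nat.coprime_two_right.2 h1).pow_right n
  exact orderOf_eq_one_iff.1 (Nat.Coprime.eq_one_of_dvd h3 h2)

/-- **(T2), combinatorics** in `H` -/
theorem torus_or_three [Finite F] (hij : i ≠ j) (hF : 4 ≤ Nat.card F)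
    (hV : (S₁ : Subgroup G) ≤ normalizer (V : Set G)) (hR : (S₁ : Subgroup G) ≤ normalizer (R i : Set G))
    {K : Subgroup (HQ (R i))} (hK : Cfsg.IsComponent K) (hK0 : K ≤ H0 R i) (h2 : 2 ∣ Nat.card K) :
    TT τ ≤ normalizer (K : Set (HQ (R i))) ∨ CompT.Three (AA V R i j) (TT τ) K (SS R i S₁ ⊓ K) := by
  refine CompT.torus_component (scal b τ hij) ?_ hK (S_inf_ne_bot b τ C S₁ hR hK hK0 h2)
    (fun x hx => S_inf_cen b τ C S₁ hK hx) (fun x hx y hy => ST_mem b τ C S₁ hij hV hR hy hx)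
  have := card_T b τ
  omega

/-- **(T3)**: the structure `CompB.Pre` for a component normalised by `T` -/
theorem pre [Finite F] (hij : i ≠ j) (hF : 4 ≤ Nat.card F)
    (hV : (S₁ : Subgroup G) ≤ normalizer (V : Set G)) (hR : (S₁ : Subgroup G) ≤ normalizer (R i : Set G))
    {K : Subgroup (HQ (R i))} (hK : Cfsg.IsComponent K) (hK0 : K ≤ H0 R i) (h2 : 2 ∣ Nat.card K)
    (hT : TT τ ≤ normalizer (K : Set (HQ (R i)))) : CompB.Pre (SS R i S₁) (AA V R i j) (TT τ) K where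
  S2 := S_isPGroup S₁
  AS := A_le_S b S₁ i j hV
  A2 _ ha := A_sq b hij ha
  TA _ ht _ ha := TA_mem b τ ht ha
  TS _ ht _ hs := TS_mem b τ C S₁ hV hR ht hs
  TK _ ht _ hx := conj_mem_of_normalizer (hT ht) hx
  ST _ ht _ hs := ST_mem b τ C S₁ hij hV hR ht hs
  AT := by
    obtain ⟨x, hx, hx1⟩ := exists_T b τ C hF
    obtain ⟨a, ha, rfl⟩ := (mem_TT τ).1 hx
    have ha1 : a ≠ 1 := by
      rintro rfl
      apply hx1
      rw [pr_eq_one, τ.one]
      exact one_mem _
    intro y hy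
    obtain ⟨y', hy', rfl⟩ := A_gen b τ hij ha ha1 hy
    exact subset_closure ⟨y', hy', _, hx, rfl⟩
  AK _ ha _ hx := conj_mem_of_normalizer (A_norm b τ C S₁ hij hF hV hR hK hK0 h2 ha) hx
  syl _ hPK hP hSP := syl b S₁ hR hK.1 hK0 hPK hP hSP
  zodd _ hx hc := cen_odd b τ C hK hx hc

end syl

end real

end Cfsg.Agent.Omega.Lie.Quot

end

section


/-!
# NODE LIE: the end of the component theorem, abstract (bb OMEGA #11541 (5), `A ≤ E(H⁰)`)

`H` finite, `O₂(H) = 1`, `H⁰` normal, `A ≤ H⁰` a 2-group; `A` centralises every nilpotent normal subgroup `N ≤ H⁰`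
of `H` of odd order, and acts on every component `K ≤ H⁰` as `A ⊓ K`.  Then `A` is contained in the product of
the `A ⊓ K`, and `A ≤ [N, N]` for `N = ⟨A^H⟩`.
-/

set_option autoImplicit false

namespace Cfsg.Agent.Omega.Lie.Layer

open Subgroup Cfsg Cfsg.Agent.Omega.Lie.CompB

variable {H : Type*} [Group H]

/-- `A` acts on `K` as `A ⊓ K` -/
def InnA (A K : Subgroup H) : Prop := ∀ a ∈ A, ∃ b ∈ A ⊓ K, Acts K a b

theorem InnA.of_comm {A K : Subgroup H} (h : ∀ a ∈ A, ∀ x ∈ K, a * x = x * a) : InnA A K := fun a ha =>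
  ⟨1, one_mem _, fun x hx => by rw [h a ha x hx]; group⟩

theorem InnA.of_hyp {S A T K : Subgroup H} (h : CompB.Hyp S A T K) : InnA A K := fun _ ha => h.acts ha

/-- the components in `H⁰` -/
def Cps (H0 K : Subgroup H) : Prop := IsComponent K ∧ K ≤ H0

/-- elements of different components commute -/
theorem comm_of_ne [Finite H] {K L : Subgroup H} (hK : IsComponent K) (hL : IsComponent L) (hne : K ≠ L) {x y : H}
    (hx : x ∈ K) (hy : y ∈ L) : x * y = y * x :=
  (mem_centralizer_iff.1 (SignalizersComponents.Components.component_le_centralizer_of_ne hK hL hne hx) y hy).symm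

/-- correcting `a` on finitely many components -/
theorem exists_mul [Finite H] {A : Subgroup H} (s : Finset (Subgroup H)) (hs : ∀ K ∈ s, IsComponent K)
    (hI : ∀ K ∈ s, InnA A K) {a : H} (ha : a ∈ A) :
    ∃ b ∈ (⨆ K ∈ s, A ⊓ K), ∀ K ∈ s, ∀ x ∈ K, b⁻¹ * a * x = x * (b⁻¹ * a) := by
  classical
  induction s using Finset.induction_on with
  | empty => exact ⟨1, one_mem _, fun K hK => absurd hK (Finset.notMem_empty K)⟩
  | insert K s hK ih =>
    obtain ⟨b, hb, hb'⟩ := ih (fun L hL => hs L (Finset.mem_insert_of_mem hL))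
      (fun L hL => hI L (Finset.mem_insert_of_mem hL))
    have hbA : b ∈ A := by
      have : (⨆ L ∈ s, A ⊓ L) ≤ A := iSup₂_le fun L _ => inf_le_left
      exact this hb
    have ha' : b⁻¹ * a ∈ A := mul_mem (inv_mem hbA) ha
    obtain ⟨c, hc, hc'⟩ := hI K (Finset.mem_insert_self K s) _ ha'
    refine ⟨b * c, mul_mem ?_ ?_, ?_⟩
    · have : (⨆ L ∈ s, A ⊓ L) ≤ ⨆ L ∈ insert K s, A ⊓ L :=
        iSup₂_le fun L hL => le_iSup₂ (f := fun (L : Subgroup H) (_ : L ∈ insert K s) => A ⊓ L) L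
          (Finset.mem_insert_of_mem hL)
      exact this hb
    · exact (le_iSup₂ (f := fun (L : Subgroup H) (_ : L ∈ insert K s) => A ⊓ L) K
        (Finset.mem_insert_self K s)) hc
    · intro L hL x hx
      rcases Finset.mem_insert.1 hL with rfl | hL
      · have h1 := hc' x hx
        calc (b * c)⁻¹ * a * x = c⁻¹ * (b⁻¹ * a * x * (b⁻¹ * a)⁻¹) * (b⁻¹ * a) := by group
          _ = c⁻¹ * (c * x * c⁻¹) * (b⁻¹ * a) := by rw [h1]
          _ = x * ((b * c)⁻¹ * a) := by group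
      · have hne : K ≠ L := by rintro rfl; exact hK hL
        have h1 := hb' L hL x hx
        have h2 := comm_of_ne (hs K (Finset.mem_insert_self K s)) (hs L (Finset.mem_insert_of_mem hL)) hne
          (inv_mem hc.2) hx
        calc (b * c)⁻¹ * a * x = c⁻¹ * (b⁻¹ * a * x) := by group
          _ = (c⁻¹ * x) * (b⁻¹ * a) := by rw [h1]; group
          _ = x * ((b * c)⁻¹ * a) := by rw [h2]; group

variable {A H0 : Subgroup H}

/-- **`A ≤ ∏ (A ⊓ K)`** -/
theorem le_iSup_inf [Finite H] (hO : pCore 2 H = ⊥) (hn : H0.Normal) (hA0 : A ≤ H0) (hA2 : ∀ a ∈ A, a * a = 1)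
    (hF : ∀ N : Subgroup H, N.Normal → N ≤ H0 → Group.IsNilpotent N → Odd (Nat.card N) →
      ∀ x ∈ N, ∀ a ∈ A, a * x = x * a)
    (hI : ∀ K, IsComponent K → K ≤ H0 → InnA A K) :
    A ≤ ⨆ K ∈ {K : Subgroup H | Cps H0 K}, A ⊓ K := by
  classical
  have hfact : Fact (Nat.Prime 2) := ⟨Nat.prime_two⟩
  -- the Fitting subgroup has odd order
  have hFn : (fittingSubgroup H).Normal := Lib.Cores.fittingSubgroup_normal
  have hFnil : Group.IsNilpotent (fittingSubgroup H) := Lib.Cores.fittingSubgroup_isNilpotent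
  have hsmall : ∀ z ∈ fittingSubgroup H, ∀ k : ℕ, z ^ 2 ^ k = 1 → z = 1 := by
    intro z hz k hk
    have := Lib.GenFitting.mem_pCore_of_mem_fitting (p := 2) hz hk
    rw [hO] at this
    exact mem_bot.1 this
  have hodd : ∀ N : Subgroup H, N ≤ fittingSubgroup H → Odd (Nat.card N) := by
    intro N hN
    rw [← Nat.not_even_iff_odd, even_iff_two_dvd]
    intro h2
    obtain ⟨x, hx⟩ := exists_prime_orderOf_dvd_card' 2 h2
    have h3 : (x : H) = 1 := by
      refine hsmall _ (hN x.2) 1 ?_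
      have h4 := pow_orderOf_eq_one x
      rw [hx] at h4
      rw [pow_one]
      exact congrArg Subtype.val h4
    have h5 : x = 1 := Subtype.ext h3
    rw [h5, orderOf_one] at hx
    exact absurd hx (by norm_num)
  -- `A` centralises `F(H)`
  have hAF : ∀ x ∈ fittingSubgroup H, ∀ a ∈ A, a * x = x * a := by
    intro x hx a ha
    have hNn : (fittingSubgroup H ⊓ H0).Normal := inferInstance
    have hNnil : Group.IsNilpotent (fittingSubgroup H ⊓ H0 : Subgroup H) := by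
      have h1 : Group.IsNilpotent ((fittingSubgroup H ⊓ H0).subgroupOf (fittingSubgroup H)) := inferInstance
      exact Group.nilpotent_of_mulEquiv (subgroupOfEquivOfLe (inf_le_left : fittingSubgroup H ⊓ H0 ≤ fittingSubgroup H))
    have hc : a * x * a⁻¹ * x⁻¹ ∈ fittingSubgroup H ⊓ H0 := by
      refine mem_inf.2 ⟨mul_mem (hFn.conj_mem x hx a) (inv_mem hx), ?_⟩
      have e : a * x * a⁻¹ * x⁻¹ = a * (x * a⁻¹ * x⁻¹) := by group
      rw [e]
      exact mul_mem (hA0 ha) (hn.conj_mem _ (inv_mem (hA0 ha)) x)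
    have h1 := hF _ hNn inf_le_right hNnil (hodd _ inf_le_left) _ hc a ha
    set c := a * x * a⁻¹ * x⁻¹ with hcdef
    have h2 : c * c = 1 := by
      have hai : a⁻¹ = a := inv_eq_of_mul_eq_one_left (hA2 a ha)
      have e1 : a * x * a⁻¹ = c * x := by rw [hcdef]; group
      have e2 : a * (a * x * a⁻¹) * a⁻¹ = x := by
        calc a * (a * x * a⁻¹) * a⁻¹ = (a * a) * x * (a * a)⁻¹ := by group
          _ = x := by rw [hA2 a ha]; group
      rw [e1] at e2
      have e3 : a * (c * x) * a⁻¹ = c * (c * x) := by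
        calc a * (c * x) * a⁻¹ = (a * c) * x * a⁻¹ := by group
          _ = c * (a * x * a⁻¹) := by rw [h1]; group
          _ = c * (c * x) := by rw [e1]
      rw [e3] at e2
      have e4 : c * c * x = x := by rw [mul_assoc]; exact e2
      exact mul_eq_right.1 e4
    have h3 : c = 1 := hsmall c hc.1 1 (by rw [pow_one, pow_two]; exact h2)
    rw [hcdef, mul_inv_eq_one, mul_inv_eq_iff_eq_mul] at h3
    exact h3
  -- the finite set of components in `H0`
  intro a ha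
  have hfin : {K : Subgroup H | Cps H0 K}.Finite := Set.toFinite _
  obtain ⟨b, hb, hb'⟩ := exists_mul (A := A) hfin.toFinset (fun K hK => (hfin.mem_toFinset.1 hK).1)
    (fun K hK => hI K (hfin.mem_toFinset.1 hK).1 (hfin.mem_toFinset.1 hK).2) ha
  have hbS : b ∈ ⨆ K ∈ {K : Subgroup H | Cps H0 K}, A ⊓ K := by
    have : (⨆ K ∈ hfin.toFinset, A ⊓ K) ≤ ⨆ K ∈ {K : Subgroup H | Cps H0 K}, A ⊓ K :=
      iSup₂_le fun K hK => le_iSup₂ (f := fun (K : Subgroup H) (_ : K ∈ {K : Subgroup H | Cps H0 K}) => A ⊓ K) K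
        (hfin.mem_toFinset.1 hK)
    exact this hb
  have hbA : b ∈ A := by
    have : (⨆ K ∈ {K : Subgroup H | Cps H0 K}, A ⊓ K) ≤ A := iSup₂_le fun L _ => inf_le_left
    exact this hbS
  have hcA : b⁻¹ * a ∈ A := mul_mem (inv_mem hbA) ha
  -- `c` centralises the layer
  have hc1 : ∀ K, IsComponent K → ∀ x ∈ K, b⁻¹ * a * x = x * (b⁻¹ * a) := by
    intro K hK x hx
    by_cases hK0 : K ≤ H0
    · exact hb' K (hfin.mem_toFinset.2 ⟨hK, hK0⟩) x hx
    · rcases SignalizersComponents.Components.component_le_or_commutator_eq_bot hK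
        (H := H0) (Normal.isSubnormal hn) with h | h
      · exact absurd h hK0
      · have h1 := commutator_eq_bot_iff_le_centralizer.mp h hx
        exact mem_centralizer_iff.1 h1 _ (hA0 hcA)
  have hc2 : b⁻¹ * a ∈ centralizer (generalizedFittingSubgroup H : Set H) := by
    have h1 : generalizedFittingSubgroup H ≤ centralizer {b⁻¹ * a} := by
      rw [Lib.GenFitting.genFitting_def, Lib.GenFitting.layer_def]
      refine sup_le (sSup_le fun K hK x hx => ?_) fun x hx => ?_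
      · rw [mem_centralizer_singleton_iff]
        exact (hc1 K hK x hx).symm
      · rw [mem_centralizer_singleton_iff]
        exact (hAF x hx _ hcA).symm
    rw [mem_centralizer_iff]
    intro x hx
    exact mem_centralizer_singleton_iff.1 (h1 hx)
  have hZn : (centralizer (generalizedFittingSubgroup H : Set H)).Normal := by
    have := Lib.GenFitting.genFitting_normal (G := H)
    infer_instance
  have hZc : IsMulCommutative (centralizer (generalizedFittingSubgroup H : Set H)) := by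
    refine ⟨⟨fun x y => Subtype.ext ?_⟩⟩
    exact (mem_centralizer_iff.1 x.2 y (Lib.GenFitting.centralizer_genFitting_le y.2)).symm
  have hZnil : Group.IsNilpotent (centralizer (generalizedFittingSubgroup H : Set H)) := by
    let _ : CommGroup (centralizer (generalizedFittingSubgroup H : Set H)) :=
      { (inferInstance : Group (centralizer (generalizedFittingSubgroup H : Set H))) with
        mul_comm := hZc.1.1 }
    infer_instance
  have h3 := Lib.GenFitting.mem_pCore_of_mem_nilpotent_normal (p := 2) hZn hZnil hc2 (k := 1)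
    (by rw [pow_one, pow_two]; exact hA2 _ hcA)
  rw [hO] at h3
  have h4 : b = a := inv_mul_eq_one.1 (mem_bot.1 h3)
  rw [← h4]
  exact hbS

/-- a component meeting `A` is contained in `⟨A^H⟩` -/
theorem le_normalClosure [Finite H] (hO : pCore 2 H = ⊥) (hA2 : ∀ a ∈ A, a * a = 1) {K : Subgroup H}
    (hK : IsComponent K) (hne : A ⊓ K ≠ ⊥) : K ≤ normalClosure (A : Set H) := by
  have hfact : Fact (Nat.Prime 2) := ⟨Nat.prime_two⟩
  have hn : ((normalClosure (A : Set H)).subgroupOf K).Normal := inferInstance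
  rcases SignalizersComponents.Components.quasisimple_normal hK.2 _ hn with h | h
  · exact subgroupOf_eq_top.1 h
  · exfalso
    apply hne
    rw [eq_bot_iff]
    rintro x ⟨hxA, hxK⟩
    have h1 : (⟨x, hxK⟩ : K) ∈ center K := h (mem_subgroupOf.2 (subset_normalClosure hxA))
    -- the subgroup generated by `x` is subnormal
    let Z : Subgroup K := zpowers ⟨x, hxK⟩
    have hZc : Z ≤ center K := zpowers_le.2 h1
    have hZn : Z.Normal := ⟨fun z hz y => by
      have h1 := mem_center_iff.1 (hZc hz) y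
      have h2 : y * z * y⁻¹ = z := by rw [h1]; group
      rwa [h2]⟩
    have hZp : IsPGroup 2 Z := by
      rw [IsPGroup.iff_card]
      have h2 : Nat.card Z ∣ 2 := by
        rw [Nat.card_zpowers]
        exact orderOf_dvd_of_pow_eq_one (by rw [pow_two]; exact Subtype.ext (hA2 x hxA))
      rcases (Nat.dvd_prime Nat.prime_two).1 h2 with h3 | h3
      · exact ⟨0, by rw [h3, pow_zero]⟩
      · exact ⟨1, by rw [h3, pow_one]⟩
    have hZs : (Z.map K.subtype).IsSubnormal := (Normal.isSubnormal hZn).trans' hK.1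
    have h2 := SignalizersComponents.CompBasic.subnormal_pGroup_le_pCore hZs (hZp.map K.subtype)
    rw [hO] at h2
    exact h2 ⟨⟨x, hxK⟩, mem_zpowers _, rfl⟩

/-- **`A ≤ [N, N]`, `N = ⟨A^H⟩`** -/
theorem le_commutator [Finite H] (hO : pCore 2 H = ⊥) (hn : H0.Normal) (hA0 : A ≤ H0) (hA2 : ∀ a ∈ A, a * a = 1)
    (hF : ∀ N : Subgroup H, N.Normal → N ≤ H0 → Group.IsNilpotent N → Odd (Nat.card N) →
      ∀ x ∈ N, ∀ a ∈ A, a * x = x * a)
    (hI : ∀ K, IsComponent K → K ≤ H0 → InnA A K) :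
    A ≤ ⁅normalClosure (A : Set H), normalClosure (A : Set H)⁆ := by
  refine (le_iSup_inf hO hn hA0 hA2 hF hI).trans (iSup₂_le fun K hK => ?_)
  by_cases hne : A ⊓ K = ⊥
  · rw [hne]; exact bot_le
  · have h1 := le_normalClosure hO hA2 hK.1 hne
    have h2 : K ≤ ⁅K, K⁆ := by
      have hp := hK.1.2.1
      have h3 : (commutator K).map K.subtype = ⁅K, K⁆ := by
        rw [_root_.commutator_def, map_commutator, ← MonoidHom.range_eq_map, K.range_subtype]
      rw [← h3, hp.commutator_eq_top, ← MonoidHom.range_eq_map, K.range_subtype]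
    exact inf_le_right.trans (h2.trans (commutator_mono h1 h1))

end Cfsg.Agent.Omega.Lie.Layer

end

section


/-!
# NODE LIE: `⟨A^H⟩` is the product of the moved components (piece (P4) of #15373)

`H` finite, `O₂(H) = 1`, `H⁰` normal, `A ≤ H⁰` of exponent two, `Mov A H⁰ K` : `K ≤ H⁰` is a component not centralised
by `A`.  `Dat H⁰ S A T` : `A` centralises the nilpotent normal subgroups `≤ H⁰` of odd order, `CompB.Hyp S A T K` for
the moved components.

* `Dat.inn`, `Dat.inf_ne`, `Dat.inf_eq_bot`, `Dat.le_nc`: `A ⊓ K` is `≠ 1` / `= 1` for moved / unmoved `K`; `K ≤ ⟨A^H⟩`;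
* `Dat.A_le` : `A ≤ ⨆ A ⊓ K`, `K` moved; `nc_le_layer`;
* `Mov.conj` : elements normalising `A` permute the moved components;
* `Dat.nc_eq` : if the moved components are permuted by `H`, then `⟨A^H⟩ = ⨆ K` (and it is generated by the conjugates
  of `A` under itself: `Dat.nc_self`), its components are the moved ones (`Dat.mov_of_le`), `Dat.inv_of_fac` : this is
  so if `H = ⟨A^H⟩ N_H(A)`;
* `Dat.sylow_eq` : `S ⊓ ⟨A^H⟩ = ⨆ (S ⊓ K)`.
-/

set_option autoImplicit false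

namespace Cfsg.Agent.Omega.Lie.End.AHat

open Subgroup Cfsg Cfsg.Agent.Omega.Lie Cfsg.Agent.Omega.Lie.CompB Cfsg.Agent.Omega.Lie.Layer
open Cfsg.Agent.SignalizersComponents.Components

variable {H : Type*} [Group H]

/-- the moved components -/
def Mov (A H0 K : Subgroup H) : Prop := IsComponent K ∧ K ≤ H0 ∧ ∃ a ∈ A, ∃ k ∈ K, a * k ≠ k * a

/-- the conjugate of a subgroup -/
abbrev cg (h : H) (K : Subgroup H) : Subgroup H := K.map (MulAut.conj h).toMonoidHom

theorem mem_cg {h x : H} {K : Subgroup H} : x ∈ cg h K ↔ h⁻¹ * x * h ∈ K := by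
  constructor
  · rintro ⟨y, hy, rfl⟩
    have e : h⁻¹ * (h * y * h⁻¹) * h = y := by group
    change h⁻¹ * (h * y * h⁻¹) * h ∈ K
    rw [e]; exact hy
  · intro hx
    exact ⟨_, hx, by change h * (h⁻¹ * x * h) * h⁻¹ = x; group⟩

theorem cg_mul (g h : H) (K : Subgroup H) : cg (g * h) K = cg g (cg h K) := by
  ext x
  rw [mem_cg, mem_cg, mem_cg]
  have e : (g * h)⁻¹ * x * (g * h) = h⁻¹ * (g⁻¹ * x * g) * h := by group
  rw [e]

theorem cg_eq_of_norm {h : H} {K : Subgroup H} (hh : h ∈ normalizer (K : Set H)) : cg h K = K := by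
  ext x
  rw [mem_cg]
  have h1 := mem_normalizer_iff.1 (inv_mem hh) x
  rw [inv_inv] at h1
  exact h1.symm

/-- elements normalising `A` and `H⁰` permute the moved components -/
theorem Mov.conj {A H0 K : Subgroup H} (hn : H0.Normal) (hK : Mov A H0 K) {h : H}
    (hh : ∀ a ∈ A, h * a * h⁻¹ ∈ A) : Mov A H0 (cg h K) := by
  obtain ⟨h1, h2, a, ha, k, hk, hne⟩ := hK
  refine ⟨isComponent_conj h h1, ?_, h * a * h⁻¹, hh a ha, h * k * h⁻¹, ⟨k, hk, rfl⟩, fun e => hne ?_⟩
  · rintro _ ⟨x, hx, rfl⟩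
    exact hn.conj_mem _ (h2 hx) h
  · have e1 : h * a * h⁻¹ * (h * k * h⁻¹) = h * (a * k) * h⁻¹ := by group
    have e2 : h * k * h⁻¹ * (h * a * h⁻¹) = h * (k * a) * h⁻¹ := by group
    rw [e1, e2] at e
    exact mul_left_cancel (mul_right_cancel e)

/-- the data -/
structure Dat (H0 S A T : Subgroup H) : Prop where
  O2 : pCore 2 H = ⊥
  norm : H0.Normal
  A_le : A ≤ H0
  sq : ∀ a ∈ A, a * a = 1
  odd : ∀ N : Subgroup H, N.Normal → N ≤ H0 → Group.IsNilpotent N → Odd (Nat.card N) →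
    ∀ x ∈ N, ∀ a ∈ A, a * x = x * a
  hyp : ∀ K, Mov A H0 K → Hyp S A T K

namespace Dat

variable {H0 S A T K L : Subgroup H} (d : Dat H0 S A T)
include d

theorem inn (hK : IsComponent K) (hK0 : K ≤ H0) : InnA A K := by
  by_cases h : ∃ a ∈ A, ∃ k ∈ K, a * k ≠ k * a
  · exact InnA.of_hyp (d.hyp K ⟨hK, hK0, h⟩)
  · push Not at h
    exact InnA.of_comm h

/-- `A ⊓ K ≠ 1` for a moved component -/
theorem inf_ne (hK : Mov A H0 K) : A ⊓ K ≠ ⊥ := by
  obtain ⟨h1, h2, a, ha, k, hk, hne⟩ := hK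
  obtain ⟨c, hc, hac⟩ := d.inn h1 h2 a ha
  intro h0
  rw [h0, mem_bot] at hc
  apply hne
  have := hac k hk
  rw [hc, one_mul, inv_one, mul_one, mul_inv_eq_iff_eq_mul] at this
  exact this

/-- a subgroup of `A` in the centre of a component is trivial -/
theorem inf_eq_bot' [Finite H] (hK : IsComponent K) (hc : ∀ x (hx : x ∈ A ⊓ K), (⟨x, hx.2⟩ : K) ∈ center K) :
    A ⊓ K = ⊥ := by
  have hfact : Fact (Nat.Prime 2) := ⟨Nat.prime_two⟩
  rw [eq_bot_iff]
  intro x hx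
  have hxA := (mem_inf.1 hx).1
  have hxK := (mem_inf.1 hx).2
  let Z : Subgroup K := zpowers ⟨x, hxK⟩
  have hZc : Z ≤ center K := zpowers_le.2 (hc x hx)
  have hZn : Z.Normal := ⟨fun z hz y => by
    have h1 := mem_center_iff.1 (hZc hz) y
    have h2 : y * z * y⁻¹ = z := by rw [h1]; group
    rwa [h2]⟩
  have hZp : IsPGroup 2 Z := by
    rw [IsPGroup.iff_card]
    have h2 : Nat.card Z ∣ 2 := by
      rw [Nat.card_zpowers]
      exact orderOf_dvd_of_pow_eq_one (by rw [pow_two]; exact Subtype.ext (d.sq x hxA))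
    rcases (Nat.dvd_prime Nat.prime_two).1 h2 with h3 | h3
    · exact ⟨0, by rw [h3, pow_zero]⟩
    · exact ⟨1, by rw [h3, pow_one]⟩
  have hZs : (Z.map K.subtype).IsSubnormal := (Normal.isSubnormal hZn).trans' hK.1
  have h2 := SignalizersComponents.CompBasic.subnormal_pGroup_le_pCore hZs (hZp.map K.subtype)
  rw [d.O2] at h2
  exact h2 ⟨⟨x, hxK⟩, mem_zpowers _, rfl⟩

/-- `A ⊓ K = 1` for an unmoved component -/
theorem inf_eq_bot [Finite H] (hK : IsComponent K) (hc : ∀ a ∈ A, ∀ k ∈ K, a * k = k * a) : A ⊓ K = ⊥ :=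
  d.inf_eq_bot' hK fun x hx => mem_center_iff.2 fun y => Subtype.ext (hc x hx.1 y y.2).symm

/-- a moved component is contained in `⟨A^H⟩` -/
theorem le_nc [Finite H] (hK : Mov A H0 K) : K ≤ normalClosure (A : Set H) :=
  le_normalClosure d.O2 d.sq hK.1 (d.inf_ne hK)

/-- **`A = ∏ (A ⊓ K)`**, `K` moved -/
theorem A_le_iSup [Finite H] : A ≤ ⨆ K ∈ {K : Subgroup H | Mov A H0 K}, A ⊓ K := by
  refine (le_iSup_inf d.O2 d.norm d.A_le d.sq d.odd fun K hK hK0 => d.inn hK hK0).trans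
    (iSup₂_le fun K hK => ?_)
  by_cases h : ∃ a ∈ A, ∃ k ∈ K, a * k ≠ k * a
  · exact le_iSup₂ (f := fun (K : Subgroup H) (_ : K ∈ {K : Subgroup H | Mov A H0 K}) => A ⊓ K) K
      (⟨hK.1, hK.2, h⟩ : Mov A H0 K)
  · push Not at h
    rw [d.inf_eq_bot hK.1 h]
    exact bot_le

/-- the product of the moved components -/
theorem A_le_prod [Finite H] : A ≤ ⨆ K ∈ {K : Subgroup H | Mov A H0 K}, K :=
  d.A_le_iSup.trans (iSup₂_mono fun _ _ => inf_le_right)

omit d in
theorem prod_le_layer : (⨆ K ∈ {K : Subgroup H | Mov A H0 K}, K) ≤ layer H :=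
  iSup₂_le fun _ hK => component_le_layer hK.1

theorem nc_le_layer [Finite H] : normalClosure (A : Set H) ≤ layer H := by
  have : (layer H).Normal := layer_normal H
  exact normalClosure_le_normal (d.A_le_prod.trans prod_le_layer)

theorem nc_le [Finite H] : normalClosure (A : Set H) ≤ H0 := by
  have := d.norm
  exact normalClosure_le_normal d.A_le

/-- `⟨A^H⟩` normalises every component of `H` -/
theorem nc_norm [Finite H] (hK : IsComponent K) : normalClosure (A : Set H) ≤ normalizer (K : Set H) :=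
  d.nc_le_layer.trans (layer_le_normalizer_component hK)

theorem prod_le_nc [Finite H] : (⨆ K ∈ {K : Subgroup H | Mov A H0 K}, K) ≤ normalClosure (A : Set H) :=
  iSup₂_le fun _ hK => d.le_nc hK

/-- **`⟨A^H⟩` is the product of the moved components**, if these are permuted by `H` -/
theorem nc_eq [Finite H] (hinv : ∀ K, Mov A H0 K → ∀ h : H, Mov A H0 (cg h K)) :
    normalClosure (A : Set H) = ⨆ K ∈ {K : Subgroup H | Mov A H0 K}, K := by
  refine le_antisymm ?_ d.prod_le_nc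
  have hn : (⨆ K ∈ {K : Subgroup H | Mov A H0 K}, K).Normal := by
    constructor
    intro x hx h
    have h1 : (⨆ K ∈ {K : Subgroup H | Mov A H0 K}, K).map (MulAut.conj h).toMonoidHom ≤
        ⨆ K ∈ {K : Subgroup H | Mov A H0 K}, K := by
      rw [Subgroup.map_iSup]
      refine iSup_le fun K => ?_
      rw [Subgroup.map_iSup]
      refine iSup_le fun hK => ?_
      exact le_iSup₂ (f := fun (K : Subgroup H) (_ : K ∈ {K : Subgroup H | Mov A H0 K}) => K) (cg h K)
        (hinv K hK h)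
    exact h1 ⟨x, hx, rfl⟩
  exact normalClosure_le_normal d.A_le_prod

/-- the moved components are permuted by `H` if `H = ⟨A^H⟩ N_H(A)` -/
theorem inv_of_fac [Finite H]
    (hfac : ∀ h : H, ∃ x ∈ normalClosure (A : Set H), ∃ n, (∀ a ∈ A, n * a * n⁻¹ ∈ A) ∧ h = x * n)
    (hK : Mov A H0 K) (h : H) : Mov A H0 (cg h K) := by
  obtain ⟨x, hx, n, hn, rfl⟩ := hfac h
  have h1 := hK.conj d.norm hn
  rw [cg_mul, cg_eq_of_norm (d.nc_norm h1.1 hx)]
  exact h1

/-- a component contained in `⟨A^H⟩` is moved -/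
theorem mov_of_le [Finite H] (hinv : ∀ K, Mov A H0 K → ∀ h : H, Mov A H0 (cg h K)) (hL : IsComponent L)
    (hle : L ≤ normalClosure (A : Set H)) : Mov A H0 L := by
  by_contra hcon
  -- `L` commutes with every moved component
  have h1 : normalClosure (A : Set H) ≤ centralizer (L : Set H) := by
    rw [d.nc_eq hinv]
    refine iSup₂_le fun K hK => ?_
    exact component_le_centralizer_of_ne hK.1 hL (by rintro rfl; exact hcon hK)
  apply quasisimple_not_isMulCommutative hL.2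
  refine ⟨⟨fun x y => Subtype.ext ?_⟩⟩
  exact (mem_centralizer_iff.1 (h1 (hle x.2)) y y.2).symm

/-- `⟨A^H⟩` is perfect -/
theorem nc_perfect [Finite H] (hinv : ∀ K, Mov A H0 K → ∀ h : H, Mov A H0 (cg h K)) :
    ⁅normalClosure (A : Set H), normalClosure (A : Set H)⁆ = normalClosure (A : Set H) := by
  refine le_antisymm (commutator_le_self _) ?_
  conv_lhs => rw [d.nc_eq hinv]
  refine iSup₂_le fun K hK => ?_
  have h1 := component_commutator_self hK.1
  calc K = ⁅K, K⁆ := h1.symm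
    _ ≤ _ := commutator_mono (d.le_nc hK) (d.le_nc hK)

/-- a moved component is generated by the `K`-conjugates of `A ⊓ K` -/
theorem comp_gen [Finite H] (hK : Mov A H0 K) {N : Subgroup H} (hAN : A ⊓ K ≤ N)
    (hN : ∀ x ∈ K, ∀ y ∈ N, x * y * x⁻¹ ∈ N) : K ≤ N := by
  have hn : (N.subgroupOf K).Normal := ⟨fun y hy x => mem_subgroupOf.2 (hN x x.2 y (mem_subgroupOf.1 hy))⟩
  rcases quasisimple_normal hK.1.2 _ hn with h | h
  · exact subgroupOf_eq_top.1 h
  · exfalso
    apply d.inf_ne hK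
    refine d.inf_eq_bot' hK.1 fun x hx => ?_
    exact h (mem_subgroupOf.2 (hAN hx))

/-! ### The Sylow 2-subgroup -/

omit d in
/-- splitting off the 2-part -/
theorem exists_parts [Finite H] {k : H} {N : ℕ} (ho : Odd (orderOf (k ^ 2 ^ N))) :
    ∃ u v : H, k = u * v ∧ u ^ 2 ^ N = 1 ∧ u ∈ zpowers k ∧ v ∈ zpowers (k ^ 2 ^ N) := by
  set r := orderOf (k ^ 2 ^ N) with hr
  have hcop : IsCoprime (r : ℤ) ((2 ^ N : ℕ) : ℤ) :=
    Nat.isCoprime_iff_coprime.2 (Nat.Coprime.pow_right N (Nat.coprime_two_right.2 ho))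
  obtain ⟨a, b, hab⟩ := hcop
  refine ⟨k ^ (a * (r : ℤ)), (k ^ 2 ^ N) ^ b, ?_, ?_, zpow_mem (mem_zpowers k) _, zpow_mem (mem_zpowers _) _⟩
  · rw [← zpow_natCast k (2 ^ N), ← zpow_mul, ← zpow_add, mul_comm ((2 ^ N : ℕ) : ℤ) b, hab, zpow_one]
  · rw [← zpow_natCast, ← zpow_mul]
    have e : a * (r : ℤ) * ((2 ^ N : ℕ) : ℤ) = ((2 ^ N : ℕ) : ℤ) * (r : ℤ) * a := by ring
    rw [e, zpow_mul, zpow_mul, zpow_natCast, zpow_natCast, hr, pow_orderOf_eq_one, one_zpow]

theorem sylow_aux [Finite H] (hS : IsPGroup 2 S) (s : Finset (Subgroup H)) (hs : ∀ K ∈ s, Mov A H0 K) :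
    ∀ x ∈ S, ∀ w y : H, Odd (orderOf w) → (∀ K ∈ s, ∀ k ∈ K, w * k = k * w) → y ∈ (⨆ K ∈ s, K) →
      x = w * y → x ∈ ⨆ K ∈ s, S ⊓ K := by
  classical
  induction s using Finset.induction_on with
  | empty =>
    intro x hx w y hw _ hy e
    have hy1 : y = 1 := by simpa using hy
    rw [hy1, mul_one] at e
    obtain ⟨n, hn⟩ := hS ⟨x, hx⟩
    have h2 : x ^ 2 ^ n = 1 := congrArg Subtype.val hn
    have h3 : orderOf x ∣ 2 ^ n := orderOf_dvd_of_pow_eq_one h2
    rw [← e] at hw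
    have h4 : Nat.Coprime (orderOf x) (2 ^ n) := Nat.Coprime.pow_right n (Nat.coprime_two_right.2 hw)
    have h5 : x = 1 := orderOf_eq_one_iff.1 (Nat.Coprime.eq_one_of_dvd h4 h3)
    rw [h5]; exact one_mem _
  | insert K s hK ih =>
    intro x hx w y hw hwc hy e
    have hKM := hs K (Finset.mem_insert_self K s)
    have hsM : ∀ L ∈ s, Mov A H0 L := fun L hL => hs L (Finset.mem_insert_of_mem hL)
    -- `E = ⨆ L ∈ s, L` commutes with `K`
    have hE : (⨆ L ∈ s, L) ≤ centralizer (K : Set H) := iSup₂_le fun L hL =>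
      component_le_centralizer_of_ne (hsM L hL).1 hKM.1 (by rintro rfl; exact hK hL)
    -- `y = k * y'`
    have hy' : y ∈ K ⊔ ⨆ L ∈ s, L := by
      have h1 : (⨆ L ∈ insert K s, L) ≤ K ⊔ ⨆ L ∈ s, L := by
        refine iSup₂_le fun L hL => ?_
        rcases Finset.mem_insert.1 hL with rfl | hL
        · exact le_sup_left
        · exact (le_iSup₂ (f := fun (L : Subgroup H) (_ : L ∈ s) => L) L hL).trans le_sup_right
      exact h1 hy
    have hnorm : (⨆ L ∈ s, L) ≤ normalizer (K : Set H) := hE.trans (centralizer_le_normalizer _)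
    rw [← SetLike.mem_coe, coe_mul_of_right_le_normalizer_left K _ hnorm] at hy'
    obtain ⟨k, hk, y', hyE, rfl⟩ := hy'
    have hkK : k ∈ K := hk
    have hyE' : y' ∈ ⨆ L ∈ s, L := hyE
    have hyc : ∀ z ∈ K, y' * z = z * y' := fun z hz => (mem_centralizer_iff.1 (hE hyE') z hz).symm
    have hwK : ∀ z ∈ K, w * z = z * w := hwc K (Finset.mem_insert_self K s)
    have hxc : ∀ z ∈ K, x * z * x⁻¹ = k * z * k⁻¹ := by
      intro z hz
      have hkz : k * z * k⁻¹ ∈ K := mul_mem (mul_mem hkK hz) (inv_mem hkK)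
      rw [e]
      calc w * (k * y') * z * (w * (k * y'))⁻¹ = w * (k * (y' * z) * y'⁻¹ * k⁻¹) * w⁻¹ := by group
        _ = w * (k * z * k⁻¹) * w⁻¹ := by rw [hyc z hz]; group
        _ = k * z * k⁻¹ := by rw [hwK _ hkz]; group
    have hh := d.hyp K hKM
    -- `w` commutes with `y'`
    have hwE : ∀ z ∈ ⨆ L ∈ s, L, w * z = z * w := by
      have h1 : (⨆ L ∈ s, L) ≤ centralizer ({w} : Set H) := iSup₂_le fun L hL z hz => by
        rw [mem_centralizer_singleton_iff]
        exact (hwc L (Finset.mem_insert_of_mem hL) z hz).symm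
      intro z hz
      exact (mem_centralizer_singleton_iff.1 (h1 hz)).symm
    -- a power of `k` is central in `K`
    obtain ⟨n, hn⟩ := hS ⟨x, hx⟩
    have hxn : x ^ 2 ^ n = 1 := congrArg Subtype.val hn
    have hkc : ∀ z ∈ K, k ^ 2 ^ n * z = z * k ^ 2 ^ n := by
      intro z hz
      have h1 : ∀ m : ℕ, ∀ z ∈ K, x ^ m * z * (x ^ m)⁻¹ = k ^ m * z * (k ^ m)⁻¹ := by
        intro m
        induction m with
        | zero => intro z _; simp
        | succ m ih =>
          intro z hz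
          have hkz : k * z * k⁻¹ ∈ K := mul_mem (mul_mem hkK hz) (inv_mem hkK)
          calc x ^ (m + 1) * z * (x ^ (m + 1))⁻¹ = x ^ m * (x * z * x⁻¹) * (x ^ m)⁻¹ := by
                rw [pow_succ]; group
            _ = x ^ m * (k * z * k⁻¹) * (x ^ m)⁻¹ := by rw [hxc z hz]
            _ = k ^ m * (k * z * k⁻¹) * (k ^ m)⁻¹ := ih _ hkz
            _ = k ^ (m + 1) * z * (k ^ (m + 1))⁻¹ := by rw [pow_succ]; group
      have h2 := h1 (2 ^ n) z hz
      rw [hxn, one_mul, inv_one, mul_one] at h2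
      rw [eq_comm, mul_inv_eq_iff_eq_mul] at h2
      exact h2
    have hko := hh.zodd _ (pow_mem hkK (2 ^ n)) hkc
    obtain ⟨u, v, hkuv, hu2, huk, hv⟩ := exists_parts hko
    have huK : u ∈ K := (zpowers_le.2 hkK) huk
    have hvK : v ∈ K := (zpowers_le.2 (pow_mem hkK _)) hv
    have hvc : ∀ z ∈ K, v * z = z * v := by
      have h1 : zpowers (k ^ 2 ^ n) ≤ centralizer (K : Set H) := zpowers_le.2 (mem_centralizer_iff.2 fun z hz =>
        (hkc z hz).symm)
      intro z hz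
      exact (mem_centralizer_iff.1 (h1 hv) z hz).symm
    have hvo := hh.zodd v hvK hvc
    -- `u ∈ S`
    have hkS : ∀ z ∈ S ⊓ K, k * z * k⁻¹ ∈ S ⊓ K := by
      intro z hz
      have hzS : z ∈ S := (mem_inf.1 hz).1
      have hzK : z ∈ K := (mem_inf.1 hz).2
      refine mem_inf.2 ⟨?_, mul_mem (mul_mem hkK hzK) (inv_mem hkK)⟩
      rw [← hxc z hzK]
      exact mul_mem (mul_mem hx hzS) (inv_mem hx)
    have hkN : k ∈ normalizer ((S ⊓ K : Subgroup H) : Set H) := Cfsg.Agent.Omega.BTwo.mem_normalizer_of_conj hkS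
    have huN : u ∈ normalizer ((S ⊓ K : Subgroup H) : Set H) := (zpowers_le.2 hkN) huk
    have huS : u ∈ S := by
      refine hh.mem_of_normalizes huK hu2 (fun z hz => (mem_normalizer_iff.1 huN z).1 hz) fun z hz => ?_
      have h1 := (mem_normalizer_iff.1 (inv_mem huN) z).1 hz
      rwa [inv_inv] at h1
    -- the rest
    have hcuv : u * v = v * u := (hvc u huK).symm
    have huy : u * y' = y' * u := (hyc u huK).symm
    have hvy : v * y' = y' * v := (hyc v hvK).symm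
    have hwu : w * u = u * w := hwK u huK
    have hwv : w * v = v * w := hwK v hvK
    have e2 : u⁻¹ * x = (w * v) * y' := by
      rw [e, hkuv]
      calc u⁻¹ * (w * (u * v * y')) = u⁻¹ * (w * u) * v * y' := by group
        _ = w * v * y' := by rw [hwu]; group
    have h3 := ih hsM (u⁻¹ * x) (mul_mem (inv_mem huS) hx) (w * v) y' ?_ ?_ hyE' e2
    · have h4 : x = u * (u⁻¹ * x) := by group
      rw [h4]
      refine mul_mem ?_ ?_
      · exact (le_iSup₂ (f := fun (L : Subgroup H) (_ : L ∈ insert K s) => S ⊓ L) K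
          (Finset.mem_insert_self K s)) ⟨huS, huK⟩
      · have h5 : (⨆ L ∈ s, S ⊓ L) ≤ ⨆ L ∈ insert K s, S ⊓ L := iSup₂_le fun L hL =>
          le_iSup₂ (f := fun (L : Subgroup H) (_ : L ∈ insert K s) => S ⊓ L) L (Finset.mem_insert_of_mem hL)
        exact h5 h3
    · -- odd order of `w v`
      have h4 : Commute w v := hwv
      exact (hw.mul hvo).of_dvd_nat h4.orderOf_mul_dvd_mul_orderOf
    · intro L hL z hz
      have h5 : v * z = z * v := by
        have h6 := component_le_centralizer_of_ne (hsM L hL).1 hKM.1 (by rintro rfl; exact hK hL) hz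
        exact mem_centralizer_iff.1 h6 v hvK
      have h6 := hwc L (Finset.mem_insert_of_mem hL) z hz
      calc w * v * z = w * (v * z) := by group
        _ = (w * z) * v := by rw [h5]; group
        _ = z * (w * v) := by rw [h6]; group

/-- `S ⊓ ∏ K = ∏ (S ⊓ K)` over the moved components -/
theorem sylow_prod [Finite H] (hS : IsPGroup 2 S) :
    S ⊓ (⨆ K ∈ {K : Subgroup H | Mov A H0 K}, K) = ⨆ K ∈ {K : Subgroup H | Mov A H0 K}, S ⊓ K := by
  classical
  refine le_antisymm ?_ (iSup₂_le fun K hK => le_inf inf_le_left ?_)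
  · rintro x ⟨hxS, hx⟩
    have hfin : {K : Subgroup H | Mov A H0 K}.Finite := Set.toFinite _
    have h1 : x ∈ ⨆ K ∈ hfin.toFinset, K := by simpa using hx
    have h2 := d.sylow_aux hS hfin.toFinset (fun K hK => hfin.mem_toFinset.1 hK) x hxS 1 x
      (by rw [orderOf_one]; exact odd_one) (fun _ _ k _ => by rw [one_mul, mul_one]) h1 (one_mul x).symm
    simpa using h2
  · exact inf_le_right.trans (le_iSup₂ (f := fun (K : Subgroup H) (_ : K ∈ {K : Subgroup H | Mov A H0 K}) => K) K hK)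

/-- **`S ⊓ ⟨A^H⟩ = ∏ (S ⊓ K)`** -/
theorem sylow_eq [Finite H] (hS : IsPGroup 2 S) (hinv : ∀ K, Mov A H0 K → ∀ h : H, Mov A H0 (cg h K)) :
    S ⊓ normalClosure (A : Set H) = ⨆ K ∈ {K : Subgroup H | Mov A H0 K}, S ⊓ K := by
  rw [d.nc_eq hinv, d.sylow_prod hS]

end Dat

end Cfsg.Agent.Omega.Lie.End.AHat

end

section


/-!
# The components of `N(R)/O₂(N(R))` in a K-proper group are known
-/

set_option autoImplicit false

namespace Cfsg.Agent.Omega.Lie.LayerKnown

open Subgroup Cfsg Cfsg.Agent.Omega.Lie.Quot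

universe u

/-- a simple nonabelian image of a proper subgroup of a K-proper group is known -/
theorem known_of_hom {G : Type u} [Group G] (hK : IsKProper G) {P : Subgroup G} (hne : P ≠ ⊤) {L : Type u} [Group L]
    (f : P →* L) (hf : Function.Surjective f) (hs : IsSimpleGroup L) (hna : ¬ IsMulCommutative L) :
    IsKnownSimple' L := by
  let e : P ⧸ f.ker ≃* L := QuotientGroup.quotientKerEquivOfSurjective f hf
  have h1 : IsSimpleGroup (P ⧸ f.ker) := OddHalf.Known.isSimple_congr e.symm hs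
  have h2 : ¬ IsMulCommutative (P ⧸ f.ker) := by
    intro h
    apply hna
    refine ⟨⟨fun a b => ?_⟩⟩
    apply e.symm.injective
    rw [map_mul, map_mul]
    exact h.is_comm.comm _ _
  exact OddHalf.Known.isKnownSimple'_congr e h2 (OddHalf.Known.known_quotient hK P hne f.ker h1 h2)

theorem not_comm {K : Type*} [Group K] (hK : IsQuasisimple K) : ¬ IsMulCommutative (K ⧸ center K) := by
  intro hc
  have h1 : commutator K ≤ center K := by
    rw [commutator_def, Subgroup.commutator_le]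
    intro x _ y _
    change x * y * x⁻¹ * y⁻¹ ∈ _
    rw [← QuotientGroup.eq_one_iff]
    have h3 := hc.is_comm.comm (x : K ⧸ center K) (y : K ⧸ center K)
    rw [QuotientGroup.mk_mul, QuotientGroup.mk_mul, QuotientGroup.mk_mul, QuotientGroup.mk_inv,
      QuotientGroup.mk_inv, h3]
    group
  have h4 : center K = ⊤ := top_le_iff.1 (by rw [← hK.1.commutator_eq_top]; exact h1)
  have h5 : Subsingleton (K ⧸ center K) := by rw [h4]; exact QuotientGroup.subsingleton_quotient_top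
  have := hK.2
  exact not_subsingleton _ h5

/-- **A quasisimple subgroup of `N(R)/O₂(N(R))`, `N(R)` proper, `G` K-proper, is known modulo its centre.** -/
theorem known {G : Type u} [Group G] (hG : IsKProper G) {R : Subgroup G} (hR : normalizer (R : Set G) ≠ ⊤)
    {K : Subgroup (HQ R)} (hK : IsQuasisimple K) : IsKnownSimple' (K ⧸ center K) := by
  let P : Subgroup G := (K.comap (pr R)).map (normalizer (R : Set G)).subtype
  have hP : P ≠ ⊤ := by
    intro h
    exact hR (top_le_iff.1 (h ▸ map_subtype_le _))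
  let e : ↥(K.comap (pr R)) ≃* P := (K.comap (pr R)).equivMapOfInjective _ (Subgroup.subtype_injective _)
  let g : ↥(K.comap (pr R)) →* K := (pr R).subgroupComap K
  have hg : Function.Surjective g := (pr R).subgroupComap_surjective_of_surjective K (pr_surjective R)
  refine known_of_hom hG hP (((QuotientGroup.mk' (center K)).comp g).comp e.symm.toMonoidHom) ?_ hK.2 (not_comm hK)
  exact ((QuotientGroup.mk'_surjective _).comp hg).comp e.symm.surjective

end Cfsg.Agent.Omega.Lie.LayerKnown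

end

end
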