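import Cfsg.Agent.Mrg.Omega.FFMutual
import Cfsg.Agent.Mrg.Omega.Lie.LemmaTComp
import Cfsg.Agent.Omega.KFactsZS
import Mathlib
import Cfsg.Agent.Lib.ElemAbGL
import Cfsg.Agent.ClassicalGeometry.PSL2Klein
import Cfsg.Agent.ClassicalGeometry.PSL2Basic

section


/-!
# NODE LIE: the components of `H = N_G(R₁)/Q₁` which are not centralised by `A`

`Sit H0 S A T`: `S` a Sylow 2-subgroup of the normal subgroup `H0`, `A ≤ S` elementary abelian and normal in `S`,
`T` of odd order, acts by scalars on `A`, normalises `S` and `[S, T] ≤ A`.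

`Sit.exo`: for a component `K ≤ H0` of `H`, `O₂(H) = 1`, of even order, with `[K, A] ≠ 1`: `T` normalises `K` and
`NoCenMove K` fails, or we are in the exceptional case `Three` of (T2).
-/

set_option autoImplicit false

namespace Cfsg.Agent.Omega.Lie.ExoComp

open Cfsg Subgroup Cfsg.Agent.Transfer.FusionBasic Cfsg.Agent.Omega.Lie.CompB Cfsg.Agent.Omega.Lie.CenTwo
open Cfsg.Agent.Omega.Lie.CompT

variable {H : Type*} [Group H]

/-- The setting of NODE LIE, `q ≥ 4`. -/
structure Sit (H0 S A T : Subgroup H) : Prop where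
  normal : H0.Normal
  syl : SylIn 2 S H0
  AS : A ≤ S
  scal : Scal A T
  SA : ∀ s ∈ S, ∀ a ∈ A, s * a * s⁻¹ ∈ A
  TS : ∀ t ∈ T, ∀ s ∈ S, t * s * t⁻¹ ∈ S
  ST : ∀ s ∈ S, ∀ t ∈ T, s⁻¹ * (t * s * t⁻¹) ∈ A
  odd : Odd (Nat.card T)
  three : 3 ≤ Nat.card T

namespace Sit

variable {H0 S A T K : Subgroup H}

theorem exists_ne_one [Finite H] (h : Sit H0 S A T) : ∃ t ∈ T, t ≠ 1 := by
  have h3 := h.three
  by_contra hc
  push Not at hc
  have : T = ⊥ := (eq_bot_iff_forall T).2 hc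
  rw [this, Subgroup.card_bot] at h3
  omega

theorem free (h : Sit H0 S A T) : ∀ t ∈ T, t ≠ 1 → ∀ a ∈ A, t * a * t⁻¹ = a → a = 1 := by
  intro t ht ht1 a ha hta
  by_contra ha1
  exact ht1 (h.scal.reg a ha ha1 t ht hta)

theorem set0 (h : Sit H0 S A T) : LemmaT.Set0 S A T := ⟨h.scal.sq, h.SA, h.scal.norm, h.free⟩

theorem commA (h : Sit H0 S A T) {a b : H} (ha : a ∈ A) (hb : b ∈ A) : a * b = b * a := h.set0.comm ha hb

/-- every element of `A` is a commutator `[a, t]` -/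
theorem AT [Finite H] (h : Sit H0 S A T) :
    A ≤ closure {g | ∃ a ∈ A, ∃ t ∈ T, a⁻¹ * (t * a * t⁻¹) = g} := by
  obtain ⟨t, ht, ht1⟩ := h.exists_ne_one
  let f : A → A := fun a => ⟨(a : H)⁻¹ * (t * a * t⁻¹), mul_mem (inv_mem a.2) (h.scal.norm t ht a a.2)⟩
  have hf : Function.Injective f := by
    intro a b hab
    have h1 : (a : H)⁻¹ * (t * a * t⁻¹) = (b : H)⁻¹ * (t * b * t⁻¹) := congrArg Subtype.val hab
    have h2 : t * ((a : H) * (b : H)⁻¹) * t⁻¹ = (a : H) * (b : H)⁻¹ := by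
      have e1 : t * (a : H) * t⁻¹ = (a : H) * ((b : H)⁻¹ * (t * b * t⁻¹)) := by rw [← h1]; group
      have e2 : t * ((a : H) * (b : H)⁻¹) * t⁻¹ = (t * (a : H) * t⁻¹) * (t * (b : H) * t⁻¹)⁻¹ := by group
      rw [e2, e1]
      group
    have h3 := h.free t ht ht1 _ (mul_mem a.2 (inv_mem b.2)) h2
    exact Subtype.ext (mul_inv_eq_one.1 h3)
  intro a ha
  obtain ⟨b, hb⟩ := (Finite.injective_iff_surjective.1 hf) ⟨a, ha⟩
  exact subset_closure ⟨b, b.2, t, ht, congrArg Subtype.val hb⟩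

/-- a Sylow 2-subgroup of `H` meeting `H0` in `S` -/
theorem exists_sylow [Finite H] (h : Sit H0 S A T) :
    ∃ P : Sylow 2 H, S ≤ (P : Subgroup H) ∧ (P : Subgroup H) ⊓ H0 = S := by
  obtain ⟨P, hP⟩ := h.syl.isPGroup.exists_le_sylow
  exact ⟨P, hP, h.syl.2.2 _ (le_inf hP h.syl.le) inf_le_right (P.isPGroup'.to_le inf_le_left)⟩

/-- (T1): `A` normalises `K`. -/
theorem A_le [Finite H] (h : Sit H0 S A T) (hO : pCore 2 H = ⊥) (hK : IsComponent K) (hKH : K ≤ H0)
    (h2 : 2 ∣ Nat.card K) : A ≤ normalizer (K : Set H) := by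
  obtain ⟨P, _, hP⟩ := h.exists_sylow
  refine h.set0.normalises_component h.exists_ne_one hO P hK h2 fun x hx hxK => ?_
  rw [← hP]
  exact ⟨hx, hKH hxK⟩

/-- `S ⊓ K` is a Sylow 2-subgroup of `K`. -/
theorem sylK [Finite H] (h : Sit H0 S A T) (hK : K.IsSubnormal) (hKH : K ≤ H0) : SylIn 2 (S ⊓ K) K := by
  have : Fact (Nat.Prime 2) := ⟨Nat.prime_two⟩
  obtain ⟨P, _, hP⟩ := h.exists_sylow
  obtain ⟨Q, hQ⟩ := Cfsg.Agent.S0542.result 2 K hK P
  have h1 := sylIn_map Q
  rw [hQ, subgroupOf_map_subtype] at h1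
  have h2 : (P : Subgroup H) ⊓ K = S ⊓ K := by
    rw [← hP, inf_assoc, inf_eq_right.2 hKH]
  rwa [h2] at h1

theorem zodd [Finite H] (hO : pCore 2 H = ⊥) (hK : IsComponent K) :
    ∀ x ∈ K, (∀ y ∈ K, x * y = y * x) → Odd (orderOf x) := by
  intro x hx hc
  have hcomp := LemmaT.comp_of_isComponent hK hO
  rw [← Nat.not_even_iff_odd]
  intro he
  obtain ⟨n, hn⟩ := even_iff_two_dvd.1 he
  have hpos : 0 < orderOf x := orderOf_pos x
  have h1 : x ^ n * x ^ n = 1 := by
    rw [← pow_add, ← two_mul, ← hn]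
    exact pow_orderOf_eq_one x
  have h2 := hcomp.cen (x ^ n) (pow_mem hx n) h1 fun y hy => (Commute.pow_left (show Commute x y from hc y hy) n)
  have h3 : orderOf x ∣ n := orderOf_dvd_of_pow_eq_one h2
  have h4 : orderOf x ≤ n := Nat.le_of_dvd (by omega) h3
  omega

theorem S_ne_bot [Finite H] (h : Sit H0 S A T) (hK : K.IsSubnormal) (hKH : K ≤ H0) (h2 : 2 ∣ Nat.card K) :
    S ⊓ K ≠ ⊥ := by
  obtain ⟨P, _, hP⟩ := h.exists_sylow
  obtain ⟨x, hxK, hxP, hx1, _⟩ := LemmaT.exists_involution P hK h2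
  intro h0
  have h1 : x ∈ S ⊓ K := ⟨by rw [← hP]; exact ⟨hxP, hKH hxK⟩, hxK⟩
  rw [h0, mem_bot] at h1
  exact hx1 h1

theorem pre [Finite H] (h : Sit H0 S A T) (hO : pCore 2 H = ⊥) (hK : IsComponent K) (hKH : K ≤ H0)
    (h2 : 2 ∣ Nat.card K) (hT : T ≤ normalizer (K : Set H)) : Pre S A T K where
  S2 := h.syl.isPGroup
  AS := h.AS
  A2 := h.scal.sq
  TA := h.scal.norm
  TS := h.TS
  TK t ht x hx := (mem_normalizer_iff.1 (hT ht) x).1 hx
  ST t ht s hs := h.ST s hs t ht
  AT := h.AT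
  AK a ha x hx := (mem_normalizer_iff.1 (h.A_le hO hK hKH h2 ha) x).1 hx
  syl P hPK hP2 hSP := by
    have h1 := (h.sylK hK.1 hKH).2.2 P hSP hPK hP2
    rw [h1]
    exact inf_le_left
  zodd := zodd hO hK

/-- **NODE LIE, the exotic components.** -/
theorem exo [Finite H] (h : Sit H0 S A T) (hO : pCore 2 H = ⊥) (hK : IsComponent K) (hKH : K ≤ H0)
    (h2 : 2 ∣ Nat.card K) (hne : ∃ a ∈ A, ∃ k ∈ K, a * k ≠ k * a) :
    (T ≤ normalizer (K : Set H) ∧ Pre S A T K ∧ ¬ NoCenMove K) ∨ Three A T K (S ⊓ K) := by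
  have hz : ∀ x ∈ S ⊓ K, (∀ y ∈ K, x * y = y * x) → x = 1 := by
    rintro x ⟨hxS, hxK⟩ hc
    have h1 := zodd hO hK x hxK hc
    obtain ⟨n, hn⟩ := h.syl.isPGroup ⟨x, hxS⟩
    have h2 : x ^ 2 ^ n = 1 := congrArg Subtype.val hn
    have h3 : orderOf x ∣ 2 ^ n := orderOf_dvd_of_pow_eq_one h2
    have h4 : Nat.Coprime (orderOf x) (2 ^ n) := (Nat.Coprime.pow_right n (Nat.coprime_two_right.2 h1))
    exact orderOf_eq_one_iff.1 (Nat.Coprime.eq_one_of_dvd h4 h3)
  rcases torus_component h.scal h.three hK (h.S_ne_bot hK.1 hKH h2) hz h.ST with hT | hT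
  · left
    have hp := h.pre hO hK hKH h2 hT
    refine ⟨hT, hp, fun hn => ?_⟩
    obtain ⟨a, ha, k, hk, hak⟩ := hne
    exact hak (hp.centralises h.odd h.exists_ne_one h.free h.SA hK.2 h2 hn a ha k hk)
  · exact Or.inr hT

end Sit

end Cfsg.Agent.Omega.Lie.ExoComp

end

section


/-!
# NODE LIE: a component with `[K, A] ≠ 1` is of Lie type in characteristic 2, or has an elementary abelian Sylow 2-subgroup
-/

set_option autoImplicit false

namespace Cfsg.Agent.Omega.Lie.ExoComp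

open Cfsg Subgroup Cfsg.Agent.Omega.Lie.CompB Cfsg.Agent.Omega.Lie.CompT Cfsg.Agent.Omega.KFacts

universe u

variable {H : Type u} [Group H] {H0 S A T K : Subgroup H}

theorem odd_center [Finite H] (hO : pCore 2 H = ⊥) (hK : IsComponent K) : Odd (Nat.card (center K)) := by
  rw [← Nat.not_even_iff_odd, even_iff_two_dvd]
  intro h2
  have : Fact (Nat.Prime 2) := ⟨Nat.prime_two⟩
  obtain ⟨z, hz⟩ := exists_prime_orderOf_dvd_card' 2 h2
  have h3 := Sit.zodd hO hK ((z : K) : H) (z : K).2 fun y hy =>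
    (congrArg Subtype.val (mem_center_iff.1 z.2 ⟨y, hy⟩)).symm
  rw [orderOf_coe, orderOf_coe, hz] at h3
  exact absurd h3 (by decide)

theorem not_primeCyclic {K : Type*} [Group K] (hK : IsQuasisimple K) : ¬ IsPrimeCyclic (K ⧸ center K) := by
  intro h
  have hf : Fact (Nat.card (K ⧸ center K)).Prime := ⟨h⟩
  have hc : IsCyclic (K ⧸ center K) := isCyclic_of_prime_card rfl
  have h1 : commutator K ≤ center K := by
    rw [commutator_def, Subgroup.commutator_le]
    intro x _ y _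
    change x * y * x⁻¹ * y⁻¹ ∈ _
    rw [← QuotientGroup.eq_one_iff]
    obtain ⟨g, hg⟩ := hc.exists_generator
    obtain ⟨m, hm⟩ := mem_zpowers_iff.1 (hg (x : K ⧸ center K))
    obtain ⟨n, hn⟩ := mem_zpowers_iff.1 (hg (y : K ⧸ center K))
    rw [QuotientGroup.mk_mul, QuotientGroup.mk_mul, QuotientGroup.mk_mul, QuotientGroup.mk_inv,
      QuotientGroup.mk_inv, ← hm, ← hn]
    rw [(Commute.zpow_zpow_self g m n).eq]
    group
  have h2 : center K = ⊤ := top_le_iff.1 (by rw [← hK.1.commutator_eq_top]; exact h1)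
  exact SignalizersComponents.Components.quasisimple_center_ne_top hK h2

/-- **NODE LIE, the exotic components, with the table.** -/
theorem Sit.exo_rows [Finite H] (R : RowsZS.{u}) (h : Sit H0 S A T) (hO : pCore 2 H = ⊥) (hK : IsComponent K)
    (hKH : K ≤ H0) (h2 : 2 ∣ Nat.card K) (hk : IsKnownSimple' (K ⧸ center K))
    (hne : ∃ a ∈ A, ∃ k ∈ K, a * k ≠ k * a) :
    (T ≤ normalizer (K : Set H) ∧ Pre S A T K ∧ (IsLieTypeChar 2 (K ⧸ center K) ∨ OutZS (K ⧸ center K))) ∨
      Three A T K (S ⊓ K) := by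
  rcases h.exo hO hK hKH h2 hne with ⟨h1, h3, h4⟩ | h1
  · left
    refine ⟨h1, h3, ?_⟩
    rcases R.cover (odd_center hO hK) hk (not_primeCyclic hK.2) with h5 | h5 | h5
    · exact Or.inl h5
    · exact absurd h5 h4
    · exact Or.inr h5
  · exact Or.inr h1

end Cfsg.Agent.Omega.Lie.ExoComp

end

section


/-!
# NODE LIE: `ExoComp.Sit` for the group `H = N(R)/O₂(N(R))` of `Quot.lean`
-/

set_option autoImplicit false
set_option linter.unusedSectionVars false

namespace Cfsg.Agent.Omega.Lie.ExoBT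

open Cfsg Subgroup Cfsg.Agent.Omega.BTwo Cfsg.Agent.Omega.Lie Cfsg.Agent.Omega.Lie.Quot
open Cfsg.Agent.Transfer.FusionBasic Cfsg.Agent.Omega.KFacts

universe u v w

variable {G : Type u} [Group G] {ι : Type w} {V : Subgroup G} {R : ι → Subgroup G} {F : Type v} [Field F]
  {i j : ι} {v : F → F → G} {t : F → G} {w1 w2 : F → G}

theorem H0_normal (R : ι → Subgroup G) (i : ι) : (H0 R i).Normal := by
  refine ⟨fun x hx g => ?_⟩
  obtain ⟨y, hy, hyC, rfl⟩ := mem_im.1 hx
  obtain ⟨n, hn, rfl⟩ := exists_pr g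
  refine mem_im.2 ⟨n * y * n⁻¹, mul_mem (mul_mem hn hy) (inv_mem hn), ?_, rfl⟩
  rw [mem_centralizer_iff] at hyC ⊢
  intro r hr
  have h1 : n⁻¹ * r * n ∈ R i := by
    have := (mem_normalizer_iff.1 (inv_mem hn) r).1 hr
    rwa [inv_inv] at this
  have h2 := hyC _ h1
  calc r * (n * y * n⁻¹) = n * (n⁻¹ * r * n * y) * n⁻¹ := by group
    _ = n * (y * (n⁻¹ * r * n)) * n⁻¹ := by rw [h2]
    _ = n * y * n⁻¹ * r := by group

/-- **`ExoComp.Sit` in the real situation.** -/
theorem sit [Finite G] (b : BT V R) (τ : TorD V R i j v t) (C : Crd V R i j v w1 w2) (S₁ : Sylow 2 G)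
    [Finite F] [CharP F 2] (hij : i ≠ j) (hF : 4 ≤ Nat.card F) (hV : (S₁ : Subgroup G) ≤ normalizer (V : Set G))
    (hR : (S₁ : Subgroup G) ≤ normalizer (R i : Set G)) :
    ExoComp.Sit (H0 R i) (SS R i S₁) (AA V R i j) (TT τ) where
  normal := H0_normal R i
  syl := by
    have : Fact (Nat.Prime 2) := ⟨Nat.prime_two⟩
    obtain ⟨P, hP⟩ := exists_P b S₁ hR
    rw [← hP]
    refine (sylIn_top P).inf le_top ?_
    have hn := H0_normal R i
    have e : normalizer ((H0 R i : Subgroup (HQ (R i))) : Set (HQ (R i))) = ⊤ := Subgroup.normalizer_eq_top _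
    exact fun x _ => e ▸ mem_top x
  AS := A_le_S b S₁ i j hV
  scal := scal b τ hij
  SA _ hs _ ha := SA_mem b C S₁ hV hR hs ha
  TS _ ht _ hs := TS_mem b τ C S₁ hV hR ht hs
  ST _ hs _ ht := ST_mem b τ C S₁ hij hV hR ht hs
  odd := by
    have h1 := card_T b τ
    have h2 : 2 ∣ Nat.card F := by
      have := Fintype.ofFinite F
      have h3 : (Fintype.card F : F) = 0 := Nat.cast_card_eq_zero F
      rw [Nat.card_eq_fintype_card]
      exact (CharP.cast_eq_zero_iff F 2 _).1 h3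
    rw [← Nat.not_even_iff_odd, even_iff_two_dvd]
    intro h3
    have h4 : 2 ∣ Nat.card (TT τ) + 1 := h1 ▸ h2
    have h5 := (Nat.dvd_add_right h3).1 h4
    omega
  three := by
    have := card_T b τ
    omega

/-- **NODE LIE, the exotic components, in `H = N(R i)/O₂(N(R i))`.** -/
theorem exo [Finite G] (Z : RowsZS.{u}) (b : BT V R) (τ : TorD V R i j v t) (C : Crd V R i j v w1 w2) (S₁ : Sylow 2 G)
    [Finite F] [CharP F 2] (hij : i ≠ j) (hF : 4 ≤ Nat.card F) (hV : (S₁ : Subgroup G) ≤ normalizer (V : Set G))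
    (hR : (S₁ : Subgroup G) ≤ normalizer (R i : Set G)) {K : Subgroup (HQ (R i))} (hK : IsComponent K)
    (hK0 : K ≤ H0 R i) (h2 : 2 ∣ Nat.card K) (hk : IsKnownSimple' (K ⧸ center K))
    (hne : ∃ a ∈ AA V R i j, ∃ k ∈ K, a * k ≠ k * a) :
    (TT τ ≤ normalizer (K : Set (HQ (R i))) ∧ CompB.Pre (SS R i S₁) (AA V R i j) (TT τ) K ∧
      (IsLieTypeChar 2 (K ⧸ center K) ∨ OutZS (K ⧸ center K))) ∨
      CompT.Three (AA V R i j) (TT τ) K (SS R i S₁ ⊓ K) :=
  (sit b τ C S₁ hij hF hV hR).exo_rows Z (pCore_HQ _) hK hK0 h2 hk hne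

end Cfsg.Agent.Omega.Lie.ExoBT

end

section


/-!
# (INV5): an involution inverting an element of prime order `≥ 5`

The only K-fact of (T2) of TEXT LIE-1 (`TwoEnd.lean`): lift over odd normal subgroups, quotients by central subgroups,
and the row `SL₂(F)`, `|F| ≥ 4` even.
-/

set_option autoImplicit false
set_option linter.dupNamespace false

namespace Cfsg.Agent.Omega.Lie.InvFive

/-- Some involution inverts an element of prime order `≥ 5`. -/
def InvFive (K : Type*) [Group K] : Prop :=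
  ∃ (y g : K) (r : ℕ), y * y = 1 ∧ y * g * y⁻¹ = g⁻¹ ∧ r.Prime ∧ 5 ≤ r ∧ g ^ r = 1 ∧ g ≠ 1

theorem of_equiv {K L : Type*} [Group K] [Group L] (e : K ≃* L) (h : InvFive K) : InvFive L := by
  obtain ⟨y, g, r, h1, h2, h3, h4, h5, h6⟩ := h
  refine ⟨e y, e g, r, ?_, ?_, h3, h4, ?_, ?_⟩
  · rw [← map_mul, h1, map_one]
  · rw [← map_mul, ← map_inv, ← map_mul, h2, map_inv]
  · rw [← map_pow, h5, map_one]
  · simpa using h6

/-- injective image -/
theorem of_injective {K L : Type*} [Group K] [Group L] (f : K →* L) (hf : Function.Injective f) (h : InvFive K) :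
    InvFive L := by
  obtain ⟨y, g, r, h1, h2, h3, h4, h5, h6⟩ := h
  refine ⟨f y, f g, r, ?_, ?_, h3, h4, ?_, ?_⟩
  · rw [← map_mul, h1, map_one]
  · rw [← map_mul, ← map_inv, ← map_mul, h2, map_inv]
  · rw [← map_pow, h5, map_one]
  · intro h; exact h6 (hf (h.trans (map_one f).symm))

theorem ne_inv {K : Type*} [Group K] {g : K} {r : ℕ} (hr : r.Prime) (h5 : 5 ≤ r) (hg : g ^ r = 1) (h1 : g ≠ 1) :
    g ≠ g⁻¹ := by
  intro h
  have h3 : g ^ 2 = 1 := by
    rw [pow_two]
    nth_rewrite 2 [h]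
    exact mul_inv_cancel g
  have h4 : orderOf g ∣ r := orderOf_dvd_of_pow_eq_one hg
  have h6 : orderOf g ∣ 2 := orderOf_dvd_of_pow_eq_one h3
  rcases (Nat.dvd_prime hr).1 h4 with h7 | h7
  · exact h1 (orderOf_eq_one_iff.1 h7)
  · rw [h7] at h6
    have := Nat.le_of_dvd (by norm_num) h6
    omega

/-- the quotient by a central subgroup -/
theorem quotient {K : Type*} [Group K] (N : Subgroup K) [N.Normal] (hN : N ≤ Subgroup.center K) (h : InvFive K) :
    InvFive (K ⧸ N) := by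
  obtain ⟨y, g, r, h1, h2, h3, h4, h5, h6⟩ := h
  refine ⟨QuotientGroup.mk' N y, QuotientGroup.mk' N g, r, ?_, ?_, h3, h4, ?_, ?_⟩
  · rw [← map_mul, h1, map_one]
  · rw [← map_mul, ← map_inv, ← map_mul, h2, map_inv]
  · rw [← map_pow, h5, map_one]
  · intro h
    have hg : g ∈ N := (QuotientGroup.eq_one_iff g).1 h
    have hc := Subgroup.mem_center_iff.1 (hN hg) y
    have e : y * g * y⁻¹ = g := by rw [hc]; group
    exact ne_inv h3 h4 h5 h6 (e.symm.trans h2)

/-- **Lift over a normal subgroup of odd order.** -/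
theorem lift {K : Type*} [Group K] [Finite K] (N : Subgroup K) [N.Normal] (hN : Odd (Nat.card N))
    (h : InvFive (K ⧸ N)) : InvFive K := by
  obtain ⟨y', g', r, h1, h2, h3, h4, h5, h6⟩ := h
  obtain ⟨y, rfl⟩ := QuotientGroup.mk'_surjective N y'
  obtain ⟨g, rfl⟩ := QuotientGroup.mk'_surjective N g'
  obtain ⟨m, hm⟩ := hN
  have hyy : y * y ∈ N := (QuotientGroup.eq_one_iff (y * y)).1 (by
    have := h1; rw [← map_mul] at this; exact this)
  have hyn : (y * y) ^ (2 * m + 1) = 1 := by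
    have h7 : (⟨y * y, hyy⟩ : N) ^ Nat.card N = 1 := pow_card_eq_one'
    rw [hm] at h7
    exact congrArg Subtype.val h7
  set z := y * (y * y) ^ m with hz
  have hzz : z * z = 1 := by
    have hc : Commute y ((y * y) ^ m) := ((Commute.refl y).mul_right (Commute.refl y)).pow_right m
    calc z * z = y * ((y * y) ^ m * y) * (y * y) ^ m := by rw [hz]; group
      _ = y * (y * (y * y) ^ m) * (y * y) ^ m := by rw [← hc.eq]
      _ = (y * y) * ((y * y) ^ m * (y * y) ^ m) := by group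
      _ = (y * y) ^ (2 * m + 1) := by rw [← pow_add, ← pow_succ', two_mul]
      _ = 1 := hyn
  have hzi : z⁻¹ = z := inv_eq_of_mul_eq_one_left hzz
  have hzy : QuotientGroup.mk' N z = QuotientGroup.mk' N y := by
    rw [hz, map_mul, map_pow, map_mul, h1, one_pow, mul_one]
  -- the element inverted by `z`
  set w := g * (z * g * z⁻¹)⁻¹ with hw
  have hwi : z * w * z⁻¹ = w⁻¹ := by
    rw [hw, hzi]
    have e : z * (g * (z * g * z)⁻¹) * z = z * g * z⁻¹ * g⁻¹ * (z⁻¹ * z) := by group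
    rw [e, inv_mul_cancel, mul_one, hzi]
    group
  have hwg : QuotientGroup.mk' N w = QuotientGroup.mk' N g ^ 2 := by
    rw [hw, map_mul, map_inv, map_mul, map_mul, map_inv, hzy, h2, inv_inv, pow_two]
  have hord : orderOf (QuotientGroup.mk' N w) = r := by
    have h7 : orderOf (QuotientGroup.mk' N g) = r := by
      rcases (Nat.dvd_prime h3).1 (orderOf_dvd_of_pow_eq_one h5) with h | h
      · exact absurd (orderOf_eq_one_iff.1 h) h6
      · exact h
    rw [hwg]
    have hco : Nat.Coprime (orderOf (QuotientGroup.mk' N g)) 2 := by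
      rw [h7]
      exact (Nat.Prime.coprime_iff_not_dvd h3).2 (fun h => by
        have := Nat.le_of_dvd (by norm_num) h
        omega)
    rw [Nat.Coprime.orderOf_pow hco, h7]
  have hdvd : r ∣ orderOf w := by
    rw [← hord]; exact orderOf_map_dvd (QuotientGroup.mk' N) w
  obtain ⟨c, hc⟩ := hdvd
  have hpos : 0 < orderOf w := orderOf_pos w
  have hc0 : c ≠ 0 := by rintro rfl; omega
  have hwc : orderOf (w ^ c) = r := by
    rw [orderOf_pow_of_dvd hc0 ⟨r, by rw [hc, mul_comm]⟩, hc]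
    exact Nat.mul_div_cancel _ (Nat.pos_of_ne_zero hc0)
  refine ⟨z, w ^ c, r, hzz, ?_, h3, h4, ?_, ?_⟩
  · rw [← conj_pow, hwi, inv_pow]
  · rw [← hwc]; exact pow_orderOf_eq_one _
  · intro h
    rw [h, orderOf_one] at hwc
    exact absurd h3 (by rw [← hwc]; norm_num)

/-! ### `SL₂(F)` -/

/-- `2 ^ k - 1` has a prime divisor `≥ 5` for `k ≥ 3`. -/
theorem exists_prime {k : ℕ} (hk : 3 ≤ k) : ∃ r : ℕ, r.Prime ∧ 5 ≤ r ∧ r ∣ 2 ^ k - 1 := by
  by_contra hcon
  push Not at hcon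
  have hpow : 8 ≤ 2 ^ k := by
    calc 8 = 2 ^ 3 := by norm_num
      _ ≤ 2 ^ k := Nat.pow_le_pow_right (by norm_num) hk
  have h1 : ∀ {d : ℕ}, d.Prime → d ∣ 2 ^ k - 1 → d = 3 := by
    intro d hd hdvd
    have h2 : d < 5 := by
      by_contra h
      exact hcon d hd (by omega) hdvd
    have h3 : d ≠ 2 := by
      rintro rfl
      have h4 : 2 ∣ 2 ^ k := dvd_pow_self 2 (by omega)
      omega
    have h4 := hd.two_le
    interval_cases d
    · exact absurd rfl h3
    · rfl
    · exact absurd hd (by norm_num)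
  have h2 := Nat.eq_prime_pow_of_unique_prime_dvd (n := 2 ^ k - 1) (p := 3) (by omega) h1
  set j := (2 ^ k - 1).primeFactorsList.length
  have h3 : (3 ^ j) % 8 = 1 ∨ (3 ^ j) % 8 = 3 := by
    clear_value j
    clear h2
    induction j with
    | zero => left; rfl
    | succ n ih =>
      rw [pow_succ, Nat.mul_mod]
      rcases ih with h | h <;> rw [h] <;> decide
  have h4 : (2 ^ k - 1) % 8 = 7 := by
    obtain ⟨l, rfl⟩ := Nat.exists_eq_add_of_le hk
    rw [pow_add]
    have : 0 < 2 ^ l := by positivity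
    omega
  rw [← h2] at h3
  omega

open Matrix

variable {F : Type*} [Field F]

theorem sl_ext {A B : Matrix.SpecialLinearGroup (Fin 2) F}
    (h : (A : Matrix (Fin 2) (Fin 2) F) = (B : Matrix (Fin 2) (Fin 2) F)) : A = B :=
  Matrix.SpecialLinearGroup.ext _ _ fun i j => congrFun (congrFun h i) j

theorem sl_of_order [CharP F 2] {l : Fˣ} {r : ℕ} (hr : r.Prime) (h5 : 5 ≤ r) (hl : l ^ r = 1) (hl1 : l ≠ 1) :
    InvFive (Matrix.SpecialLinearGroup (Fin 2) F) := by
  have h11 : (1 : F) + 1 = 0 := CharTwo.add_self_eq_zero 1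
  have hneg : (-1 : F) = 1 := by rw [neg_eq_iff_add_eq_zero]; exact h11
  let y : Matrix.SpecialLinearGroup (Fin 2) F := ⟨!![0, 1; 1, 0], by rw [Matrix.det_fin_two_of]; simp [hneg]⟩
  let g : Matrix.SpecialLinearGroup (Fin 2) F := ⟨!![(l : F), 0; 0, ((l⁻¹ : Fˣ) : F)], by
    rw [Matrix.det_fin_two_of]; simp⟩
  have hyM : (y : Matrix (Fin 2) (Fin 2) F) = !![0, 1; 1, 0] := rfl
  have hgM : (g : Matrix (Fin 2) (Fin 2) F) = !![(l : F), 0; 0, ((l⁻¹ : Fˣ) : F)] := rfl
  have hy : y * y = 1 := by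
    apply sl_ext
    rw [Matrix.SpecialLinearGroup.coe_mul, hyM, Matrix.mul_fin_two, Matrix.SpecialLinearGroup.coe_one, Matrix.one_fin_two]
    simp
  have hgy : y * g * y * g = 1 := by
    apply sl_ext
    rw [Matrix.SpecialLinearGroup.coe_mul, Matrix.SpecialLinearGroup.coe_mul, Matrix.SpecialLinearGroup.coe_mul, hyM, hgM,
      Matrix.mul_fin_two, Matrix.mul_fin_two, Matrix.mul_fin_two, Matrix.SpecialLinearGroup.coe_one, Matrix.one_fin_two]
    simp
  have hpow : ∀ n : ℕ, ((g ^ n : Matrix.SpecialLinearGroup (Fin 2) F) : Matrix (Fin 2) (Fin 2) F) =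
      !![((l ^ n : Fˣ) : F), 0; 0, (((l⁻¹) ^ n : Fˣ) : F)] := by
    intro n
    induction n with
    | zero => rw [pow_zero, Matrix.SpecialLinearGroup.coe_one, Matrix.one_fin_two]; simp
    | succ n ih =>
      rw [pow_succ, Matrix.SpecialLinearGroup.coe_mul, ih, hgM, Matrix.mul_fin_two, pow_succ, pow_succ, Units.val_mul,
        Units.val_mul]
      simp
  refine ⟨y, g, r, hy, ?_, hr, h5, ?_, ?_⟩
  · rw [inv_eq_of_mul_eq_one_left hy]; exact eq_inv_of_mul_eq_one_left hgy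
  · apply sl_ext
    rw [hpow, hl, inv_pow, hl, Matrix.SpecialLinearGroup.coe_one, Matrix.one_fin_two]
    simp
  · intro h
    apply hl1
    have h1 : (g : Matrix (Fin 2) (Fin 2) F) 0 0 = 1 := by rw [h]; simp
    rw [hgM] at h1
    exact Units.ext h1

theorem sl_of_root [CharP F 2] {w : F} (hw : w * w + w + 1 = 0) : InvFive (Matrix.SpecialLinearGroup (Fin 2) F) := by
  have h11 : (1 : F) + 1 = 0 := CharTwo.add_self_eq_zero 1
  let y : Matrix.SpecialLinearGroup (Fin 2) F := ⟨!![1, 1; 0, 1], by rw [Matrix.det_fin_two_of]; simp⟩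
  let y' : Matrix.SpecialLinearGroup (Fin 2) F := ⟨!![1, 0; w, 1], by rw [Matrix.det_fin_two_of]; simp⟩
  have hyM : (y : Matrix (Fin 2) (Fin 2) F) = !![1, 1; 0, 1] := rfl
  have hyM' : (y' : Matrix (Fin 2) (Fin 2) F) = !![1, 0; w, 1] := rfl
  have ext4 : ∀ {a b c d a' b' c' d' : F}, a = a' → b = b' → c = c' → d = d' →
      (!![a, b; c, d] : Matrix (Fin 2) (Fin 2) F) = !![a', b'; c', d'] := by
    rintro _ _ _ _ _ _ _ _ rfl rfl rfl rfl; rfl
  have hy : y * y = 1 := by
    apply sl_ext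
    rw [Matrix.SpecialLinearGroup.coe_mul, hyM, Matrix.mul_fin_two, Matrix.SpecialLinearGroup.coe_one, Matrix.one_fin_two]
    apply ext4
    · ring
    · linear_combination h11
    · ring
    · ring
  have hy' : y' * y' = 1 := by
    apply sl_ext
    rw [Matrix.SpecialLinearGroup.coe_mul, hyM', Matrix.mul_fin_two, Matrix.SpecialLinearGroup.coe_one, Matrix.one_fin_two]
    apply ext4
    · ring
    · ring
    · linear_combination w * h11
    · ring
  refine ⟨y, y * y', 5, hy, ?_, by norm_num, le_rfl, ?_, ?_⟩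
  · rw [_root_.mul_inv_rev, inv_eq_of_mul_eq_one_left hy, inv_eq_of_mul_eq_one_left hy', ← mul_assoc, hy, one_mul]
  · have h2 : ((y * y' : Matrix.SpecialLinearGroup (Fin 2) F) : Matrix (Fin 2) (Fin 2) F) = !![1 + w, 1; w, 1] := by
      rw [Matrix.SpecialLinearGroup.coe_mul, hyM, hyM', Matrix.mul_fin_two]
      apply ext4 <;> ring
    have h4 : (((y * y') ^ 2 : Matrix.SpecialLinearGroup (Fin 2) F) : Matrix (Fin 2) (Fin 2) F) =
        !![0, w; w + 1, w + 1] := by
      rw [pow_two, Matrix.SpecialLinearGroup.coe_mul, h2, Matrix.mul_fin_two]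
      apply ext4
      · linear_combination hw + w * h11
      · linear_combination h11
      · linear_combination hw - h11
      · ring
    have h8 : (((y * y') ^ 4 : Matrix.SpecialLinearGroup (Fin 2) F) : Matrix (Fin 2) (Fin 2) F) =
        !![1, 1; w, w + 1] := by
      rw [show (4 : ℕ) = 2 * 2 by norm_num, pow_mul, pow_two ((y * y') ^ 2), Matrix.SpecialLinearGroup.coe_mul, h4,
        Matrix.mul_fin_two]
      apply ext4
      · linear_combination hw - h11
      · linear_combination hw - h11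
      · linear_combination hw
      · linear_combination 2 * hw - h11
    apply sl_ext
    rw [pow_succ, Matrix.SpecialLinearGroup.coe_mul, h8, h2, Matrix.mul_fin_two, Matrix.SpecialLinearGroup.coe_one,
      Matrix.one_fin_two]
    apply ext4
    · linear_combination w * h11
    · linear_combination h11
    · linear_combination 2 * hw - h11
    · linear_combination w * h11
  · intro h
    have h1 : ((y * y' : Matrix.SpecialLinearGroup (Fin 2) F) : Matrix (Fin 2) (Fin 2) F) 0 1 = 0 := by rw [h]; simp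
    rw [Matrix.SpecialLinearGroup.coe_mul, hyM, hyM', Matrix.mul_fin_two] at h1
    simp at h1

/-- **Row `SL₂(F)`, `|F| ≥ 4` even.** -/
theorem sl [Finite F] [CharP F 2] (h4 : 4 ≤ Nat.card F) : InvFive (Matrix.SpecialLinearGroup (Fin 2) F) := by
  classical
  have := Fintype.ofFinite F
  obtain ⟨k, hp, hk⟩ := FiniteField.card F 2
  have hcard : Nat.card F = 2 ^ (k : ℕ) := by rw [Nat.card_eq_fintype_card, hk]
  have hu : Fintype.card Fˣ = 2 ^ (k : ℕ) - 1 := by rw [Fintype.card_units, hk]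
  by_cases hk3 : 3 ≤ (k : ℕ)
  · obtain ⟨r, hr, h5, hdvd⟩ := exists_prime hk3
    have := Fact.mk hr
    obtain ⟨l, hl⟩ := exists_prime_orderOf_dvd_card (G := Fˣ) r (by rw [hu]; exact hdvd)
    refine sl_of_order hr h5 (l := l) (by rw [← hl]; exact pow_orderOf_eq_one l) ?_
    rintro rfl
    rw [orderOf_one] at hl
    omega
  · have hk2 : (k : ℕ) = 2 := by
      have h1 : (k : ℕ) ≠ 0 := k.ne_zero
      have h2 : (k : ℕ) ≠ 1 := by
        intro h; rw [hcard, h] at h4; norm_num at h4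
      omega
    have : Fact (Nat.Prime 3) := ⟨by norm_num⟩
    obtain ⟨l, hl⟩ := exists_prime_orderOf_dvd_card (G := Fˣ) 3 (by rw [hu, hk2]; norm_num)
    have h3 : (l : F) ^ 3 = 1 := by
      rw [← Units.val_pow_eq_pow_val, ← hl, pow_orderOf_eq_one, Units.val_one]
    have h1 : (l : F) ≠ 1 := by
      intro h
      have : l = 1 := Units.ext h
      rw [this, orderOf_one] at hl
      omega
    refine sl_of_root (w := (l : F)) ?_
    have h5 : ((l : F) - 1) * (l * l + l + 1) = 0 := by linear_combination h3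
    rcases mul_eq_zero.1 h5 with h | h
    · exact absurd (sub_eq_zero.1 h) h1
    · exact h

/-- Row `PSL₂(F)`, `|F| ≥ 4` even. -/
theorem psl [Finite F] [CharP F 2] (h4 : 4 ≤ Nat.card F) :
    InvFive (Matrix.ProjectiveSpecialLinearGroup (Fin 2) F) :=
  quotient _ le_rfl (sl h4)

end Cfsg.Agent.Omega.Lie.InvFive

end

section


/-!
# The K-facts (PAIR) and (ORD) of TEXT LIE-2 (#12707), definitions and tools (helper486)

* `Pair K` : two different commuting involutions `b, b'` of `K`: some `x ≠ 1` of odd order is inverted by `b` and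
  centralised by `b'`;
* `NotIn K n` : `K` does not act faithfully on an elementary abelian 2-group of order at most `2 ^ n`;
* `NotIn.of_card` : criterion by orders;
* `exists_odd_pow` : if `8 ∤ |G|`, `b` an involution inverting `Y`, `Y² ≠ 1`, then `⟨Y⟩` is not a 2-group.
-/

set_option autoImplicit false

namespace Cfsg.Agent.Omega.Lie.PairOrd

open Subgroup

universe u v w

/-- K-fact (PAIR). -/
def Pair (K : Type*) [Group K] : Prop :=
  ∀ b b' : K, b ≠ 1 → b' ≠ 1 → b ≠ b' → b * b = 1 → b' * b' = 1 → b * b' = b' * b →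
    ∃ x : K, x ≠ 1 ∧ Odd (orderOf x) ∧ b * x * b⁻¹ = x⁻¹ ∧ b' * x * b'⁻¹ = x

theorem Pair.equiv {K : Type v} {K' : Type w} [Group K] [Group K'] (e : K ≃* K') (h : Pair K') : Pair K := by
  intro b b' h1 h1' hne hbb hbb' hc
  obtain ⟨x, hx, ho, hi, hf⟩ := h (e b) (e b') (by simpa using h1) (by simpa using h1')
    (fun h => hne (e.injective h)) (by rw [← map_mul, hbb, map_one]) (by rw [← map_mul, hbb', map_one])
    (by rw [← map_mul, hc, map_mul])
  refine ⟨e.symm x, by simpa using hx, ?_, ?_, ?_⟩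
  · rw [← MulEquiv.orderOf_eq e, e.apply_symm_apply]; exact ho
  · apply e.injective
    simpa using hi
  · apply e.injective
    simpa using hf

/-- K-fact (ORD): `K` acts faithfully on no elementary abelian 2-group of order at most `2 ^ n`. -/
def NotIn (K : Type v) [Group K] (n : ℕ) : Prop :=
  ∀ (M : Type u) [CommGroup M] [Finite M], (∀ x : M, x ^ 2 = 1) → Nat.card M ≤ 2 ^ n →
    ∀ φ : K →* MulAut M, ¬ Function.Injective φ

theorem NotIn.equiv {K : Type v} {K' : Type w} [Group K] [Group K'] {n : ℕ} (e : K ≃* K') (h : NotIn.{u} K' n) :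
    NotIn.{u} K n := by
  intro M _ _ h2 hc φ hφ
  exact h M h2 hc (φ.comp e.symm.toMonoidHom) (hφ.comp e.symm.injective)

theorem NotIn.mono {K : Type v} [Group K] {m n : ℕ} (hmn : m ≤ n) (h : NotIn.{u} K n) : NotIn.{u} K m :=
  fun M _ _ h2 hc => h M h2 (hc.trans (Nat.pow_le_pow_right two_pos hmn))

/-- The order of `GL_n(2)`. -/
def glc (n : ℕ) : ℕ := ∏ i : Fin n, (2 ^ n - 2 ^ (i : ℕ))

theorem card_mulAut {M : Type*} [CommGroup M] [Finite M] (h2 : ∀ x : M, x ^ 2 = 1) {k : ℕ} (hk : Nat.card M = 2 ^ k) :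
    Nat.card (MulAut M) = glc k := by
  have : Fact (Nat.Prime 2) := ⟨Nat.prime_two⟩
  obtain ⟨e⟩ := Cfsg.Agent.Lib.ElemAbGL.mulAut_equiv_GL 2 k h2 hk
  rw [Nat.card_congr e.toEquiv, Matrix.card_GL_field, ZMod.card]
  rfl

theorem exists_card {M : Type*} [CommGroup M] [Finite M] (h2 : ∀ x : M, x ^ 2 = 1) {n : ℕ}
    (hn : Nat.card M ≤ 2 ^ n) : ∃ k ≤ n, Nat.card M = 2 ^ k := by
  have : Fact (Nat.Prime 2) := ⟨Nat.prime_two⟩
  have hM : IsPGroup 2 M := fun x => ⟨1, by rw [pow_one]; exact h2 x⟩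
  obtain ⟨k, hk⟩ := IsPGroup.iff_card.1 hM
  refine ⟨k, ?_, hk⟩
  rw [hk] at hn
  exact (Nat.pow_le_pow_iff_right (by norm_num)).1 hn

/-- Criterion by orders. -/
theorem NotIn.of_card {K : Type v} [Group K] {n : ℕ} (h : ∀ k ≤ n, ¬ Nat.card K ∣ glc k) : NotIn.{u} K n := by
  intro M _ _ h2 hc φ hφ
  obtain ⟨k, hkn, hk⟩ := exists_card h2 hc
  apply h k hkn
  rw [← card_mulAut h2 hk, Nat.card_congr (MonoidHom.ofInjective hφ).toEquiv]
  exact Subgroup.card_subgroup_dvd_card φ.range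

theorem glc_dvd_eight {k : ℕ} (hk : k ≤ 8) : glc k ∣ 5348063769211699200 := by
  unfold glc
  interval_cases k <;> simp [Fin.prod_univ_succ]

theorem glc_dvd_twelve {k : ℕ} (hk : k ≤ 12) : glc k ∣ glc 12 := by
  unfold glc
  interval_cases k <;> simp [Fin.prod_univ_succ]

/-- If `8 ∤ |G|` and the involution `b` inverts `Y`, `Y² ≠ 1`, then some power of `Y` has odd order and is not `1`. -/
theorem exists_odd_pow {G : Type*} [Group G] [Finite G] (h8 : ¬ 8 ∣ Nat.card G) {b Y : G} (hb : b * b = 1)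
    (hbY : b * Y * b⁻¹ = Y⁻¹) (hY : Y * Y ≠ 1) : ∃ n : ℕ, Y ^ n ≠ 1 ∧ Odd (orderOf (Y ^ n)) := by
  have hpos : orderOf Y ≠ 0 := (orderOf_pos Y).ne'
  obtain ⟨k, m, hm, hkm⟩ := Nat.exists_eq_two_pow_mul_odd hpos
  by_cases h1 : m = 1
  · exfalso
    rw [h1, mul_one] at hkm
    have : Fact (Nat.Prime 2) := ⟨Nat.prime_two⟩
    have hk : 2 ≤ k := by
      by_contra hk
      apply hY
      rw [← pow_two]
      apply orderOf_dvd_iff_pow_eq_one.1
      rw [hkm]
      calc 2 ^ k ∣ 2 ^ 1 := pow_dvd_pow 2 (by omega)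
        _ = 2 := pow_one 2
    have hPY : IsPGroup 2 (zpowers Y) := IsPGroup.of_card (n := k) (by rw [Nat.card_zpowers, hkm])
    have hPb : IsPGroup 2 (zpowers b) := by
      intro x
      refine ⟨1, ?_⟩
      obtain ⟨x, hx⟩ := x
      obtain ⟨n, rfl⟩ := mem_zpowers_iff.1 hx
      apply Subtype.ext
      push_cast
      rw [← zpow_natCast, ← zpow_mul, mul_comm n, zpow_mul]
      norm_num
      rw [pow_two, hb, one_zpow]
    have hn : zpowers b ≤ normalizer (zpowers Y : Set G) := by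
      rw [zpowers_le, mem_normalizer_iff]
      intro x
      have key : ∀ x, x ∈ zpowers Y → b * x * b⁻¹ ∈ zpowers Y := by
        intro x hx
        obtain ⟨n, rfl⟩ := mem_zpowers_iff.1 hx
        rw [← conj_zpow, hbY]
        exact zpow_mem (inv_mem (mem_zpowers Y)) n
      refine ⟨key x, fun hx => ?_⟩
      have h2 := key _ hx
      have hbi : b⁻¹ = b := inv_eq_of_mul_eq_one_left hb
      have h3 : b * (b * x * b⁻¹) * b⁻¹ = x := by
        rw [hbi]
        calc b * (b * x * b) * b = (b * b) * x * (b * b) := by group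
          _ = x := by rw [hb, one_mul, mul_one]
      rwa [h3] at h2
    have hN : IsPGroup 2 (zpowers Y ⊔ zpowers b : Subgroup G) := by
      rw [sup_comm]
      exact IsPGroup.to_sup_of_normal_right' hPb hPY hn
    obtain ⟨n, hn'⟩ := IsPGroup.iff_card.1 hN
    have hbn : b ∉ zpowers Y := by
      intro h
      obtain ⟨j, hj⟩ := mem_zpowers_iff.1 h
      have h3 : b * Y * b⁻¹ = Y := by
        rw [← hj, (Commute.self_zpow Y j).symm.eq, mul_inv_cancel_right]
      rw [h3] at hbY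
      apply hY
      nth_rw 1 [hbY]
      exact inv_mul_cancel Y
    have hlt : zpowers Y < zpowers Y ⊔ zpowers b :=
      lt_of_le_of_ne le_sup_left fun h => hbn (h ▸ (mem_sup_right (mem_zpowers b)))
    have hcard : Nat.card (zpowers Y) < Nat.card (zpowers Y ⊔ zpowers b : Subgroup G) := by
      refine lt_of_le_of_ne (Subgroup.card_le_of_le hlt.le) fun h => hlt.ne ?_
      exact Subgroup.eq_of_le_of_card_ge hlt.le h.ge
    rw [Nat.card_zpowers, hkm, hn'] at hcard
    have hkn := (Nat.pow_lt_pow_iff_right (by norm_num : 1 < 2)).1 hcard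
    apply h8
    calc (8 : ℕ) = 2 ^ 3 := by norm_num
      _ ∣ 2 ^ n := pow_dvd_pow 2 (by omega)
      _ ∣ Nat.card G := hn' ▸ Subgroup.card_subgroup_dvd_card _
  · refine ⟨2 ^ k, ?_, ?_⟩
    · intro h
      have h2 := orderOf_dvd_of_pow_eq_one h
      rw [hkm] at h2
      have h3 : m ∣ 1 := by
        have h4 : 2 ^ k * m ∣ 2 ^ k * 1 := by rwa [mul_one]
        exact (Nat.mul_dvd_mul_iff_left (pow_pos two_pos k)).1 h4
      exact h1 (Nat.dvd_one.1 h3)
    · rw [orderOf_pow_of_dvd (pow_ne_zero _ two_ne_zero) (hkm ▸ Dvd.intro _ rfl), hkm,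
        Nat.mul_div_cancel_left _ (pow_pos two_pos k)]
      exact hm

end Cfsg.Agent.Omega.Lie.PairOrd

end

section


/-!
# (PAIR) and (ORD) for `L₂(r)`, `r ≡ ±3 (mod 8)`, `r ≥ 11` (TEXT LIE-2, #12707; helper486)

* `pair` : `Pair (PSL₂(F))` for `|F| ≡ 3, 5 (mod 8)`, `|F| ≥ 7`;
* `notIn` : `NotIn (PSL₂(F)) 8` for `|F| ≡ 3, 5 (mod 8)`, `|F| ≥ 11`.
-/

set_option autoImplicit false

namespace Cfsg.Agent.Omega.Lie.PairOrd.LTwo

open Matrix
open Cfsg.Agent.ClassicalGeometry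
open Cfsg.Agent.ClassicalGeometry.KleinCount (CommInv)
open Cfsg.Agent.ClassicalGeometry.QuatPair (IsPair)
open Cfsg.Agent.ClassicalGeometry.PSL2Klein (mk mk_eq_mk mk_eq_one mk_neg involution_iff sq_eq
  trace_eq_zero_of_sq commInv_iff one_ne_neg_one)

variable {F : Type*} [Field F]

local notation "SL2" => Matrix.SpecialLinearGroup (Fin 2)
local notation "PSL2" => Matrix.ProjectiveSpecialLinearGroup (Fin 2)

/-- A point of the circle off the axes. -/
theorem exists_point [Finite F] (h2 : (2 : F) ≠ 0) (hq : 6 ≤ Nat.card F) :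
    ∃ a b : F, a ≠ 0 ∧ b ≠ 0 ∧ a ^ 2 + b ^ 2 = 1 := by
  classical
  let _ := Fintype.ofFinite F
  rw [Nat.card_eq_fintype_card] at hq
  have h : ∃ t : F, t ≠ 0 ∧ 1 + t ^ 2 ≠ 0 ∧ 1 - t ^ 2 ≠ 0 := by
    by_contra hcon
    push Not at hcon
    have hall : ∀ t : F, t ^ 5 - t = 0 := by
      intro t
      by_cases h1 : t = 0
      · rw [h1]; ring
      by_cases h3 : 1 + t ^ 2 = 0
      · linear_combination (t ^ 3 - t) * h3
      linear_combination (-(t ^ 3 + t)) * hcon t h1 h3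
    let P : Polynomial F := Polynomial.X ^ 5 - Polynomial.X
    have hdeg : P.natDegree = 5 := by
      have h1 : (Polynomial.X : Polynomial F).natDegree < (Polynomial.X ^ 5 : Polynomial F).natDegree := by
        rw [Polynomial.natDegree_X_pow, Polynomial.natDegree_X]
        norm_num
      rw [Polynomial.natDegree_sub_eq_left_of_natDegree_lt h1, Polynomial.natDegree_X_pow]
    have hP : P ≠ 0 := by
      intro h
      rw [h, Polynomial.natDegree_zero] at hdeg
      omega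
    have h3 : (Finset.univ : Finset F) ⊆ P.roots.toFinset := by
      intro t _
      rw [Multiset.mem_toFinset, Polynomial.mem_roots hP, Polynomial.IsRoot]
      simp only [P, Polynomial.eval_sub, Polynomial.eval_pow, Polynomial.eval_X]
      exact hall t
    have h4 := Finset.card_le_card h3
    have h5 := Multiset.toFinset_card_le P.roots
    have h6 := Polynomial.card_roots' P
    rw [Finset.card_univ] at h4
    omega
  obtain ⟨t, ht, ht1, ht2⟩ := h
  refine ⟨(1 - t ^ 2) / (1 + t ^ 2), 2 * t / (1 + t ^ 2), div_ne_zero ht2 ht1,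
    div_ne_zero (mul_ne_zero h2 ht) ht1, ?_⟩
  field_simp
  ring

/-- `8 ∤ |PSL₂(F)|`. -/
theorem not_eight_dvd [Finite F] (h : Nat.card F % 8 = 3 ∨ Nat.card F % 8 = 5) : ¬ 8 ∣ Nat.card (PSL2 F) := by
  let _ := Fintype.ofFinite F
  rw [Nat.card_eq_fintype_card (α := F)] at h
  have hodd : Odd (Fintype.card F) := by
    rw [Nat.odd_iff]
    omega
  have h1 := PSL2Basic.card_PSL2_odd F hodd
  intro h8
  obtain ⟨c, hc⟩ := h8
  rw [hc] at h1
  obtain ⟨r, hr⟩ : ∃ r, r = Fintype.card F := ⟨_, rfl⟩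
  rw [← hr] at h1 h
  have hr0 : 1 ≤ r ^ 2 := Nat.one_le_pow _ _ (by omega)
  have h2 : r * (r ^ 2 - 1) % 16 = 8 := by
    have h3 : r % 16 = 3 ∨ r % 16 = 5 ∨ r % 16 = 11 ∨ r % 16 = 13 := by omega
    have h4 : (r ^ 2 - 1) % 16 = 8 := by
      have h5 : r ^ 2 % 16 = 9 := by
        rcases h3 with h3 | h3 | h3 | h3 <;> rw [Nat.pow_mod, h3]
      omega
    rw [Nat.mul_mod, h4]
    rcases h3 with h3 | h3 | h3 | h3 <;> rw [h3]
  rw [← h1] at h2
  omega

/-- **(PAIR) for `L₂(r)`.** -/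
theorem pair [Finite F] (h : Nat.card F % 8 = 3 ∨ Nat.card F % 8 = 5) (hq : 6 ≤ Nat.card F) :
    Pair (PSL2 F) := by
  have h2 : (2 : F) ≠ 0 := by
    let _ := Fintype.ofFinite F
    rw [Nat.card_eq_fintype_card] at h
    apply (PSL2Basic.two_ne_zero_iff_odd F).2
    rw [Nat.odd_iff]
    omega
  intro b b' hb hb' hne hbb hbb' hc
  obtain ⟨A, rfl⟩ := QuotientGroup.mk_surjective b
  obtain ⟨B, rfl⟩ := QuotientGroup.mk_surjective b'
  have hAB : IsPair A.1 B.1 := (commInv_iff h2).1 ⟨hb, hb', hne, hbb, hbb', hc⟩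
  obtain ⟨s, t, hs, ht, hst⟩ := exists_point h2 hq
  have htr := trace_eq_zero_of_sq B hAB.sqB
  have hdetB := B.2
  have hX : (s • (1 : Matrix (Fin 2) (Fin 2) F) + t • B.1).det = 1 := by
    rw [Matrix.trace_fin_two] at htr
    rw [Matrix.det_fin_two] at hdetB
    have h3 : B.1 1 1 = -B.1 0 0 := by linear_combination htr
    rw [h3] at hdetB
    rw [Matrix.det_fin_two]
    simp
    rw [h3]
    linear_combination hst + t ^ 2 * hdetB
  obtain ⟨X, hXe⟩ : ∃ X : SL2 F, X.1 = s • (1 : Matrix (Fin 2) (Fin 2) F) + t • B.1 := ⟨⟨_, hX⟩, rfl⟩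
  have hX' : (X⁻¹ : SL2 F).1 = s • (1 : Matrix (Fin 2) (Fin 2) F) - t • B.1 := by
    have h3 : (s • (1 : Matrix (Fin 2) (Fin 2) F) - t • B.1) * X.1 = 1 := by
      rw [hXe]
      have h4 : (s • (1 : Matrix (Fin 2) (Fin 2) F) - t • B.1) * (s • (1 : Matrix (Fin 2) (Fin 2) F) + t • B.1) =
          (s ^ 2) • (1 : Matrix (Fin 2) (Fin 2) F) - (t ^ 2) • (B.1 * B.1) := by
        simp only [sub_mul, mul_add, smul_mul_assoc, mul_smul_comm, one_mul, mul_one, smul_smul, smul_sub]
        rw [mul_comm t s, pow_two, pow_two]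
        abel
      rw [h4, hAB.sqB, smul_neg, sub_neg_eq_add, ← add_smul, hst, one_smul]
    have h5 : X.1 * (X⁻¹ : SL2 F).1 = 1 := by
      rw [← Matrix.SpecialLinearGroup.coe_mul, mul_inv_cancel, Matrix.SpecialLinearGroup.coe_one]
    calc (X⁻¹ : SL2 F).1 = ((s • (1 : Matrix (Fin 2) (Fin 2) F) - t • B.1) * X.1) * (X⁻¹ : SL2 F).1 := by
          rw [h3, one_mul]
      _ = s • (1 : Matrix (Fin 2) (Fin 2) F) - t • B.1 := by rw [mul_assoc, h5, mul_one]
  have hAX : A * X = X⁻¹ * A := by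
    apply Subtype.ext
    rw [Matrix.SpecialLinearGroup.coe_mul, Matrix.SpecialLinearGroup.coe_mul, hX', hXe, mul_add, sub_mul,
      mul_smul_comm, mul_smul_comm, smul_mul_assoc, smul_mul_assoc, mul_one, one_mul, hAB.anti, smul_neg,
      sub_eq_add_neg]
  have hBX : B * X = X * B := by
    apply Subtype.ext
    rw [Matrix.SpecialLinearGroup.coe_mul, Matrix.SpecialLinearGroup.coe_mul, hXe, mul_add, add_mul,
      mul_smul_comm, mul_smul_comm, smul_mul_assoc, smul_mul_assoc, mul_one, one_mul]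
  have hY : mk X * mk X ≠ 1 := by
    intro h3
    have h4 : mk (X * X) = 1 := h3
    have h5 : ∀ c : F, X.1 * X.1 ≠ c • (1 : Matrix (Fin 2) (Fin 2) F) := by
      intro c hc
      have h6 : X.1 * X.1 = (s ^ 2 - t ^ 2) • (1 : Matrix (Fin 2) (Fin 2) F) + (2 * s * t) • B.1 := by
        rw [hXe]
        have h7 : (s • (1 : Matrix (Fin 2) (Fin 2) F) + t • B.1) * (s • (1 : Matrix (Fin 2) (Fin 2) F) + t • B.1) =
            (s ^ 2) • (1 : Matrix (Fin 2) (Fin 2) F) + (2 * s * t) • B.1 + (t ^ 2) • (B.1 * B.1) := by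
          simp only [add_mul, mul_add, smul_mul_assoc, mul_smul_comm, one_mul, mul_one, smul_smul, smul_add]
          rw [mul_comm t s, pow_two, pow_two, mul_assoc, two_mul, add_smul]
          abel
        rw [h7, hAB.sqB, smul_neg, sub_smul]
        abel
      have h8 : B.1 = ((2 * s * t)⁻¹ * (c - (s ^ 2 - t ^ 2))) • (1 : Matrix (Fin 2) (Fin 2) F) := by
        have h9 : (2 * s * t) • B.1 = (c - (s ^ 2 - t ^ 2)) • (1 : Matrix (Fin 2) (Fin 2) F) := by
          rw [sub_smul, ← hc, h6]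
          abel
        rw [← smul_smul, ← h9, smul_smul, inv_mul_cancel₀ (mul_ne_zero (mul_ne_zero h2 hs) ht), one_smul]
      have h9 := hAB.anti
      have h10 : A.1 * B.1 = B.1 * A.1 := by
        rw [h8, mul_smul_comm, smul_mul_assoc, mul_one, one_mul]
      rw [← h10, eq_neg_iff_add_eq_zero, ← two_smul F] at h9
      rcases smul_eq_zero.mp h9 with h11 | h11
      · exact h2 h11
      · have h12 := congrArg Matrix.det h11
        rw [det_mul, A.2, B.2] at h12
        simp at h12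
    rcases mk_eq_one.1 h4 with h6 | h6
    · apply h5 1
      rw [← Matrix.SpecialLinearGroup.coe_mul, h6, Matrix.SpecialLinearGroup.coe_one, one_smul]
    · apply h5 (-1)
      rw [← Matrix.SpecialLinearGroup.coe_mul, h6, Matrix.SpecialLinearGroup.coe_neg,
        Matrix.SpecialLinearGroup.coe_one, neg_smul, one_smul]
  have hinv : mk A * mk X * (mk A)⁻¹ = (mk X)⁻¹ := by
    have h3 : mk (A * X) = mk (X⁻¹ * A) := by rw [hAX]
    have h4 : mk A * mk X = (mk X)⁻¹ * mk A := h3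
    rw [h4, mul_inv_cancel_right]
  have hfix : mk B * mk X * (mk B)⁻¹ = mk X := by
    have h3 : mk (B * X) = mk (X * B) := by rw [hBX]
    have h4 : mk B * mk X = mk X * mk B := h3
    rw [h4, mul_inv_cancel_right]
  obtain ⟨n, hn, ho⟩ := exists_odd_pow (not_eight_dvd h) (b := mk A) (Y := mk X) hbb hinv hY
  refine ⟨mk X ^ n, hn, ho, ?_, ?_⟩
  · change mk A * mk X ^ n * (mk A)⁻¹ = (mk X ^ n)⁻¹
    rw [← conj_pow, hinv, inv_pow]
  · change mk B * mk X ^ n * (mk B)⁻¹ = mk X ^ n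
    rw [← conj_pow, hfix]

/-- The prime powers `≡ ±3 (mod 8)`, at least 11, dividing `|GL₈(2)|`. -/
theorem prime_pow_cases {p f : ℕ} (hp : p.Prime) (hd : p ^ f ∣ 5348063769211699200)
    (h : p ^ f % 8 = 3 ∨ p ^ f % 8 = 5) (h11 : 11 ≤ p ^ f) : p ^ f = 27 ∨ p ^ f = 243 := by
  have hf : f ≠ 0 := by
    rintro rfl
    rw [pow_zero] at h11
    omega
  have hpd : p ∣ 2 ^ 28 * (3 ^ 5 * (5 ^ 2 * (7 ^ 2 * (17 * (31 * 127))))) := by
    have h1 : p ∣ p ^ f := dvd_pow_self p hf
    exact (h1.trans hd).trans (by norm_num)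
  have hle : ∀ v : ℕ, ¬ p ^ (v + 1) ∣ 5348063769211699200 → f ≤ v := by
    intro v hv
    by_contra hlt
    exact hv ((pow_dvd_pow p (by omega)).trans hd)
  have key : ∀ a : ℕ, a.Prime → p ∣ a → p = a := fun a ha hpa => (Nat.prime_dvd_prime_iff_eq hp ha).1 hpa
  have h2 : p ≠ 2 := by
    rintro rfl
    have : Even (2 ^ f) := Nat.even_pow.2 ⟨even_two, hf⟩
    rw [Nat.even_iff] at this
    omega
  rcases (hp.dvd_mul).1 hpd with h1 | h1
  · exact absurd (key 2 Nat.prime_two (hp.dvd_of_dvd_pow h1)) h2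
  rcases (hp.dvd_mul).1 h1 with h1 | h1
  · have h3 := key 3 Nat.prime_three (hp.dvd_of_dvd_pow h1)
    subst h3
    have h4 := hle 5 (by norm_num)
    interval_cases f <;> omega
  rcases (hp.dvd_mul).1 h1 with h1 | h1
  · have h3 := key 5 Nat.prime_five (hp.dvd_of_dvd_pow h1)
    subst h3
    have h4 := hle 2 (by norm_num)
    interval_cases f <;> omega
  rcases (hp.dvd_mul).1 h1 with h1 | h1
  · have h3 := key 7 (by norm_num) (hp.dvd_of_dvd_pow h1)
    subst h3
    have h4 := hle 2 (by norm_num)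
    interval_cases f <;> omega
  rcases (hp.dvd_mul).1 h1 with h1 | h1
  · have h3 := key 17 (by norm_num) h1
    subst h3
    have h4 := hle 1 (by norm_num)
    interval_cases f <;> omega
  rcases (hp.dvd_mul).1 h1 with h1 | h1
  · have h3 := key 31 (by norm_num) h1
    subst h3
    have h4 := hle 1 (by norm_num)
    interval_cases f <;> omega
  · have h3 := key 127 (by norm_num) h1
    subst h3
    have h4 := hle 1 (by norm_num)
    interval_cases f <;> omega

/-- **(ORD) for `L₂(r)`.** -/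
theorem notIn [Finite F] (h : Nat.card F % 8 = 3 ∨ Nat.card F % 8 = 5) (h11 : 11 ≤ Nat.card F) :
    NotIn (PSL2 F) 8 := by
  let _ := Fintype.ofFinite F
  have hodd : Odd (Fintype.card F) := by
    rw [← Nat.card_eq_fintype_card, Nat.odd_iff]
    omega
  obtain ⟨p, f, hp, -, hpf⟩ := (isPrimePow_nat_iff _).1 (FiniteField.isPrimePow_card F)
  have h1 := PSL2Basic.card_PSL2_odd F hodd
  apply NotIn.of_card
  intro k hk hd
  have hd' : Nat.card (PSL2 F) ∣ 5348063769211699200 := hd.trans (glc_dvd_eight hk)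
  rw [Nat.card_eq_fintype_card (α := F), ← hpf] at h h11
  rw [← hpf] at h1 hodd
  have hdvd : p ^ f ∣ 5348063769211699200 := by
    have h2 : p ^ f ∣ Nat.card (PSL2 F) * 2 := h1 ▸ Dvd.intro _ rfl
    have h3 : Nat.Coprime (p ^ f) 2 := (Nat.coprime_two_right).2 hodd
    exact (h3.dvd_of_dvd_mul_right h2).trans hd'
  rcases prime_pow_cases hp hdvd h h11 with h2 | h2
  · rw [h2] at h1
    have h3 : Nat.card (PSL2 F) = 9828 := by omega
    rw [h3] at hd'
    norm_num at hd'
  · rw [h2] at h1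
    have h3 : Nat.card (PSL2 F) = 7174332 := by omega
    rw [h3] at hd'
    norm_num at hd'

end Cfsg.Agent.Omega.Lie.PairOrd.LTwo

end

section


/-!
# (INV5) for `L₂(r)`, `r ≡ ±3 (mod 8)`, `r ≥ 11` (K-fact of (T2), #13389; helper486)

Some involution of `PSL₂(F)` inverts an element of prime order `≥ 5`.
-/

set_option autoImplicit false

namespace Cfsg.Agent.Omega.Lie.PairOrd.LTwo

open Matrix
open Cfsg.Agent.ClassicalGeometry
open Cfsg.Agent.ClassicalGeometry.PSL2Klein (mk mk_eq_mk mk_eq_one mk_neg sq_eq)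

variable {F : Type*} [Field F]

local notation "SL2" => Matrix.SpecialLinearGroup (Fin 2)
local notation "PSL2" => Matrix.ProjectiveSpecialLinearGroup (Fin 2)

/-- A regular semisimple element of `SL₂(q)` is inverted by an element with square `-1`. -/
theorem exists_inverting [Finite F] (h2 : (2 : F) ≠ 0) (X : SL2 F) (hτ : X.1.trace ^ 2 ≠ 4) :
    ∃ A : SL2 F, A.1.trace = 0 ∧ (A * X).1.trace = 0 := by
  classical
  let _ := Fintype.ofFinite F
  have hd := X.2
  rw [det_fin_two] at hd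
  rw [trace_fin_two] at hτ
  generalize ha : X.1 0 0 = a at *
  generalize hb : X.1 0 1 = b at *
  generalize hc : X.1 1 0 = c at *
  generalize hdd : X.1 1 1 = d at *
  have key : ∀ x y z : F, -x ^ 2 - y * z = 1 → x * (a - d) + y * c + z * b = 0 →
      ∃ A : SL2 F, A.1.trace = 0 ∧ (A * X).1.trace = 0 := by
    intro x y z h1 h3
    have hdet : (!![x, y; z, -x] : Matrix (Fin 2) (Fin 2) F).det = 1 := by
      rw [det_fin_two_of]
      linear_combination h1
    obtain ⟨A, hA⟩ : ∃ A : SL2 F, A.1 = !![x, y; z, -x] := ⟨⟨_, hdet⟩, rfl⟩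
    refine ⟨A, ?_, ?_⟩
    · rw [trace_fin_two, hA]
      simp
    · rw [Matrix.SpecialLinearGroup.coe_mul, trace_fin_two, Matrix.mul_apply, Matrix.mul_apply,
        Fin.sum_univ_two, Fin.sum_univ_two, ha, hb, hc, hdd, hA]
      simp
      linear_combination h3
  by_cases hc0 : c = 0
  · subst hc0
    have had : a - d ≠ 0 := by
      intro h
      apply hτ
      linear_combination (a - d) * h + 4 * hd
    refine key (-b / (a - d)) (-1 - (-b / (a - d)) ^ 2) 1 (by ring) ?_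
    field_simp
    ring
  · have hodd : Fintype.card F % 2 = 1 := by
      rw [← Nat.odd_iff]
      exact (PSL2Basic.two_ne_zero_iff_odd F).1 h2
    have h4 : (4 : F) * c ≠ 0 := by
      refine mul_ne_zero ?_ hc0
      have : (4 : F) = 2 * 2 := by norm_num
      rw [this]
      exact mul_ne_zero h2 h2
    have he : ((a + d) ^ 2 - 4) / (4 * c) ≠ 0 := div_ne_zero (sub_ne_zero.2 hτ) h4
    obtain ⟨u, z, huz⟩ := FiniteField.exists_root_sum_quadratic
      (f := Polynomial.C (-c) * Polynomial.X ^ 2 + Polynomial.C 0 * Polynomial.X + Polynomial.C (-c))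
      (g := Polynomial.C (((a + d) ^ 2 - 4) / (4 * c)) * Polynomial.X ^ 2 + Polynomial.C 0 * Polynomial.X +
        Polynomial.C 0)
      (Polynomial.degree_quadratic (neg_ne_zero.2 hc0)) (Polynomial.degree_quadratic he) hodd
    simp only [Polynomial.eval_add, Polynomial.eval_mul, Polynomial.eval_C, Polynomial.eval_pow,
      Polynomial.eval_X] at huz
    have h5 : -c * u ^ 2 - c + ((a + d) ^ 2 - 4) / (4 * c) * z ^ 2 = 0 := by linear_combination huz
    have h6 : (4 * c) * (-c * u ^ 2 - c) + ((a + d) ^ 2 - 4) * z ^ 2 = 0 := by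
      have h7 := congrArg (fun t => (4 * c) * t) h5
      simp only [mul_zero] at h7
      rw [mul_add, ← mul_assoc (4 * c) _ (z ^ 2), mul_div_cancel₀ _ h4] at h7
      exact h7
    refine key (u + (a - d) * z / (2 * c)) (-((u + (a - d) * z / (2 * c)) * (a - d) + z * b) / c) z ?_ ?_
    · have h22 : (2 : F) * c ≠ 0 := mul_ne_zero h2 hc0
      have h7 : (4 * c ^ 2) * (-(u + (a - d) * z / (2 * c)) ^ 2 -
          -((u + (a - d) * z / (2 * c)) * (a - d) + z * b) / c * z - 1) = 0 := by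
        field_simp
        linear_combination 4 * h6 - (16 * z ^ 2) * hd
      have h8 : (4 : F) * c ^ 2 ≠ 0 := by
        rw [pow_two, ← mul_assoc]
        exact mul_ne_zero h4 hc0
      have h9 := (mul_eq_zero.1 h7).resolve_left h8
      linear_combination h9
    · field_simp
      ring

/-- `(r² - 1)` has a prime divisor `≥ 5` for `r ≡ ±3 (mod 8)`, `r ≥ 11`. -/
theorem exists_prime {r : ℕ} (h : r % 8 = 3 ∨ r % 8 = 5) (h11 : 11 ≤ r) :
    ∃ p : ℕ, p.Prime ∧ 5 ≤ p ∧ p ∣ r ^ 2 - 1 := by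
  by_contra hcon
  push Not at hcon
  have hr : r ^ 2 - 1 = (r + 1) * (r - 1) := by
    have := Nat.sq_sub_sq r 1
    simpa using this
  have key : ∀ n : ℕ, n ∣ r ^ 2 - 1 → n % 2 = 1 → 2 ≤ n → 3 ∣ n := by
    intro n hn ho h2
    obtain ⟨p, hp, hpn⟩ := Nat.exists_prime_and_dvd (show n ≠ 1 by omega)
    have h5 : p < 5 := by
      by_contra h5
      exact hcon p hp (by omega) (hpn.trans hn)
    have hp2 := hp.two_le
    interval_cases p
    · omega
    · exact hpn
    · exact absurd hp (by norm_num)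
  rcases h with h | h
  · have h1 := key ((r - 1) / 2) (hr ▸ Dvd.dvd.mul_left (Nat.div_dvd_of_dvd (by omega)) _) (by omega) (by omega)
    have h2 := key ((r + 1) / 4) (hr ▸ Dvd.dvd.mul_right (Nat.div_dvd_of_dvd (by omega)) _) (by omega) (by omega)
    omega
  · have h1 := key ((r + 1) / 2) (hr ▸ Dvd.dvd.mul_right (Nat.div_dvd_of_dvd (by omega)) _) (by omega) (by omega)
    have h2 := key ((r - 1) / 4) (hr ▸ Dvd.dvd.mul_left (Nat.div_dvd_of_dvd (by omega)) _) (by omega) (by omega)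
    omega

/-- Elements of trace `±2` have order dividing the characteristic in `PSL₂`. -/
theorem pow_char_of_trace (p : ℕ) [CharP F p] (hp : p.Prime) (X : SL2 F) (hτ : X.1.trace ^ 2 = 4) :
    mk X ^ p = 1 := by
  have hfp : Fact p.Prime := ⟨hp⟩
  have h1 : (X.1.trace - 2) * (X.1.trace + 2) = 0 := by linear_combination hτ
  obtain ⟨e, he, he2⟩ : ∃ e : F, (e = 1 ∨ e = -1) ∧ X.1.trace = 2 * e := by
    rcases mul_eq_zero.1 h1 with h | h
    · exact ⟨1, Or.inl rfl, by linear_combination h⟩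
    · exact ⟨-1, Or.inr rfl, by linear_combination h⟩
  have hee : e * e = 1 := by rcases he with rfl | rfl <;> ring
  set N : Matrix (Fin 2) (Fin 2) F := X.1 - e • (1 : Matrix (Fin 2) (Fin 2) F) with hN
  have hNN : N * N = 0 := by
    have h3 : N * N = X.1 * X.1 - (2 * e) • X.1 + (e * e) • (1 : Matrix (Fin 2) (Fin 2) F) := by
      rw [hN]
      simp only [sub_mul, mul_sub, smul_mul_assoc, mul_smul_comm, one_mul, mul_one, smul_sub, smul_smul]
      rw [two_mul, add_smul]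
      abel
    rw [h3, sq_eq, he2, hee, one_smul]
    abel
  have hX : X.1 = e • (1 : Matrix (Fin 2) (Fin 2) F) + N := by rw [hN]; abel
  have hcomm : Commute (e • (1 : Matrix (Fin 2) (Fin 2) F)) N := by
    change e • (1 : Matrix (Fin 2) (Fin 2) F) * N = N * e • (1 : Matrix (Fin 2) (Fin 2) F)
    rw [smul_mul_assoc, mul_smul_comm, one_mul, mul_one]
  have hchar : CharP (Matrix (Fin 2) (Fin 2) F) p := inferInstance
  have hNp : N ^ p = 0 := by
    obtain ⟨k, rfl⟩ := Nat.exists_eq_add_of_le hp.two_le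
    rw [pow_add, pow_two, hNN, zero_mul]
  have hXp : X.1 ^ p = (e ^ p) • (1 : Matrix (Fin 2) (Fin 2) F) := by
    rw [hX, add_pow_char_of_commute p hcomm, hNp, add_zero, smul_pow, one_pow]
  have hep : e ^ p = 1 ∨ e ^ p = -1 := by
    rcases he with rfl | rfl
    · left; exact one_pow p
    · exact neg_one_pow_eq_or F p
  have h5 : mk X ^ p = mk (X ^ p) := rfl
  rw [h5, mk_eq_one]
  rcases hep with h | h
  · left
    apply Subtype.ext
    rw [Matrix.SpecialLinearGroup.coe_pow, hXp, h, one_smul, Matrix.SpecialLinearGroup.coe_one]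
  · right
    apply Subtype.ext
    rw [Matrix.SpecialLinearGroup.coe_pow, hXp, h, Matrix.SpecialLinearGroup.coe_neg,
      Matrix.SpecialLinearGroup.coe_one, neg_smul, one_smul]

/-- **(INV5) for `L₂(r)`**, `r ≡ ±3 (mod 8)`, `r ≥ 11`. -/
theorem invFive [Finite F] (h : Nat.card F % 8 = 3 ∨ Nat.card F % 8 = 5) (h11 : 11 ≤ Nat.card F) :
    ∃ (p : ℕ) (y g : PSL2 F), p.Prime ∧ 5 ≤ p ∧ y ≠ 1 ∧ y * y = 1 ∧ y * g * y⁻¹ = g⁻¹ ∧ g ^ p = 1 ∧ g ≠ 1 := by
  let _ := Fintype.ofFinite F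
  have hodd : Odd (Fintype.card F) := by
    rw [← Nat.card_eq_fintype_card, Nat.odd_iff]
    omega
  have h2 : (2 : F) ≠ 0 := (PSL2Basic.two_ne_zero_iff_odd F).2 hodd
  have hcard := PSL2Basic.card_PSL2_odd F hodd
  obtain ⟨p, hp, h5, hd⟩ := exists_prime h h11
  rw [Nat.card_eq_fintype_card (α := F)] at hd
  have hfp : Fact p.Prime := ⟨hp⟩
  have hpd : p ∣ Nat.card (PSL2 F) := by
    have h3 : p ∣ Nat.card (PSL2 F) * 2 := hcard ▸ Dvd.dvd.mul_left hd _
    rcases (hp.dvd_mul).1 h3 with h4 | h4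
    · exact h4
    · have := Nat.le_of_dvd (by norm_num) h4
      omega
  obtain ⟨g, hg⟩ := exists_prime_orderOf_dvd_card' p hpd
  obtain ⟨X, rfl⟩ := QuotientGroup.mk_surjective g
  obtain ⟨ℓ, hℓ⟩ := CharP.exists F
  have hℓp : ℓ.Prime := (CharP.char_is_prime_or_zero F ℓ).resolve_right (CharP.char_ne_zero_of_finite F ℓ)
  have htr : X.1.trace ^ 2 ≠ 4 := by
    intro h3
    have h4 := pow_char_of_trace ℓ hℓp X h3
    have h6 : p ∣ ℓ := hg ▸ orderOf_dvd_of_pow_eq_one h4
    have h7 : p = ℓ := (Nat.prime_dvd_prime_iff_eq hp hℓp).1 h6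
    obtain ⟨n, hn, hcF⟩ := FiniteField.card F ℓ
    have h8 : p ∣ Fintype.card F := by
      rw [hcF, h7]
      exact dvd_pow_self ℓ n.ne_zero
    have h9 : p ∣ Fintype.card F ^ 2 := Dvd.dvd.trans h8 (dvd_pow_self _ (by norm_num))
    have h10 : 1 ≤ Fintype.card F ^ 2 := Nat.one_le_pow _ _ Fintype.card_pos
    have h11 : p ∣ 1 := by
      have := Nat.dvd_sub h9 hd
      rwa [Nat.sub_sub_self h10] at this
    have := Nat.le_of_dvd (by norm_num) h11
    omega
  obtain ⟨A, hA, hAX⟩ := exists_inverting h2 X htr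
  have hsq : ∀ B : SL2 F, B.1.trace = 0 → mk B * mk B = 1 := by
    intro B hB
    have h3 : mk (B * B) = 1 := by
      rw [mk_eq_one]
      right
      apply Subtype.ext
      rw [Matrix.SpecialLinearGroup.coe_mul, sq_eq, hB, zero_smul, zero_sub, Matrix.SpecialLinearGroup.coe_neg,
        Matrix.SpecialLinearGroup.coe_one]
    exact h3
  have h1 := hsq A hA
  have h3 := hsq (A * X) hAX
  have h4 : (mk A * mk X) * (mk A * mk X) = 1 := h3
  have hgne : mk X ≠ 1 := by
    intro h6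
    have h7 : orderOf (mk X) = p := hg
    rw [h6, orderOf_one] at h7
    omega
  have hinv : mk A * mk X * (mk A)⁻¹ = (mk X)⁻¹ := by
    have h6 : (mk A)⁻¹ = mk A := inv_eq_of_mul_eq_one_right h1
    rw [h6]
    refine eq_inv_of_mul_eq_one_left ?_
    rw [← h4]
    simp only [mul_assoc]
  refine ⟨p, mk A, mk X, hp, h5, ?_, h1, hinv, ?_, hgne⟩
  · intro h6
    rw [h6, one_mul, inv_one, mul_one] at hinv
    have h7 : mk X * mk X = 1 := by
      nth_rw 1 [hinv]
      exact inv_mul_cancel _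
    have h8 : p ∣ 2 := by
      have h9 : orderOf (mk X) = p := hg
      rw [← h9]
      exact orderOf_dvd_of_pow_eq_one (by rw [pow_two]; exact h7)
    have := Nat.le_of_dvd (by norm_num) h8
    omega
  · rw [← show orderOf (mk X) = p from hg]
    exact pow_orderOf_eq_one _

/-- `InvFive (PSL₂(F))`. -/
theorem invFive' [Finite F] (h : Nat.card F % 8 = 3 ∨ Nat.card F % 8 = 5) (h11 : 11 ≤ Nat.card F) :
    InvFive.InvFive (PSL2 F) := by
  obtain ⟨p, y, g, h1, h2, -, h3, h4, h5, h6⟩ := invFive h h11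
  exact ⟨y, g, p, h3, h4, h1, h2, h5, h6⟩

end Cfsg.Agent.Omega.Lie.PairOrd.LTwo

end
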