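import Cfsg.Agent.Omega.Lie.CenTwo
import Cfsg.Agent.OddHalf.D4.Spor.Sheet
import Cfsg.Agent.Mrg.Omega.Lie.CenSL
import Cfsg.Agent.OddHalf.D4.Spor.M11
import Cfsg.Agent.OddHalf.D4.Spor.ON
import Cfsg.Agent.OddHalf.D4.Spor.HN
import Cfsg.Agent.OddHalf.D4.Spor.Ru
import Cfsg.Agent.OddHalf.D4.Spor.ThSheet
import Cfsg.Agent.OddHalf.D4.Spor.MonsterFinal
import Cfsg.Agent.OddHalf.D8.RowCo2
import Cfsg.Agent.KFacts.FiTF.SheetF
import Cfsg.Agent.KFacts.J4.SheetJ4
import Cfsg.Agent.ChevalleyStructure.Tits.Main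
import Cfsg.Agent.KFacts.HS.Cent5
import Cfsg.Agent.J2Sylow.SporSylow
import Cfsg.Agent.Schreier.JThreeSylow
import Cfsg.Agent.KFacts.Co3.Syl
import Cfsg.Agent.TypeM.Two
import Cfsg.Agent.TypeM.FactsMcL
import Cfsg.Agent.TypeM.FactsLy
import Cfsg.Agent.OddHalf.D4.Spor.Suz
import Cfsg.Agent.KFacts.He.Hyp
import Cfsg.Agent.KFacts.TwoSix.Sheet
import Cfsg.Agent.KFacts.Baby.RowB
import Cfsg.Agent.Mrg.Omega.KFactsZSLie
import Cfsg.Agent.Mrg.Omega.Lie.Cen.Fi22
import Cfsg.Agent.Mrg.Omega.Lie.LQThm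
import Cfsg.Agent.Walter.Main
import Cfsg.Agent.Walter.StepAll
import Cfsg.Agent.S0205
import Cfsg.Agent.Mrg.Omega.Lie.TwoMain
import Cfsg.Agent.Mrg.Omega.Lie.PairRows
import Cfsg.Agent.Mrg.Omega.BTwo.CoordNat
import Cfsg.Agent.Mrg.Omega.IIa4.Lay
import Cfsg.Agent.Mrg.Omega.BTwo.ModG
import Cfsg.Agent.Mrg.Omega.BTwo.YTor
import Cfsg.Agent.SignalizersComponents.Components
import Cfsg.Agent.Mrg.Omega.BTwo.Count

-- merged: Cfsg.Agent.Omega.Lie.Cen.OfSheet
section

/-!
# (ZS) from the fact sheets of the ODD half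
-/

set_option autoImplicit false

namespace Cfsg.Agent.Omega.Lie.Cen.OfSheet

open Cfsg Cfsg.Agent.Omega.Lie.CenTwo Cfsg.Agent.OddHalf.D4

/-- the field `z1` of the sheet of D4 -/
theorem cenTwo {X : Type*} [Group X] (h : Spor.Sheet X) : CenTwo.CenTwo X := by
  obtain ⟨S⟩ : Nonempty (Sylow 2 X) := inferInstance
  by_cases hz : ∃ a ∈ S, a * a = 1 ∧ a ≠ 1 ∧ ∀ s ∈ S, s * a = a * s
  · obtain ⟨a, ha, haa, ha1, hac⟩ := hz
    refine ⟨S, a, fun u hu hc huu => ?_⟩
    by_cases hu1 : u = 1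
    · exact Or.inl hu1
    · exact Or.inr (h.z1 S u hu huu hu1 hc a ha haa ha1 hac)
  · refine ⟨S, 1, fun u hu hc huu => ?_⟩
    by_contra hne
    exact hz ⟨u, hu, huu, fun h1 => hne (Or.inl h1), hc⟩

/-- the field `z1` of the sheet of D4 -/
theorem noCenMove {X : Type*} [Group X] [Finite X] (h : Spor.Sheet X) : NoCenMove X := (cenTwo h).noCenMove

end Cfsg.Agent.Omega.Lie.Cen.OfSheet

end

-- merged: Cfsg.Agent.Mrg.Omega.Lie.Cen.Sheets
section

section


/-!
# (ZS), sporadic rows from the fact sheets of the ODD half (helper844)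

The sheets of D8 (`syl : Z(S) = ⟨z⟩`) and of D4 (`z1`) give `CenTwo`, hence `NoCenMove`: the rows `m11`, `on`, `hn`, `th`,
`m`, `ru`, `fi24`, `co2`, `j4` of `KFacts.RowsZS`.
-/

set_option autoImplicit false

namespace Cfsg.Agent.Omega.Lie.Cen.Sheets

open Cfsg Cfsg.Agent.Omega.Lie.CenTwo

/-- the field `syl` of the sheets of D8 -/
theorem cenTwo_of_syl {X : Type*} [Group X] {z : X} (h : ∃ S : Sylow 2 X, z ∈ S ∧ (∀ x ∈ S, x * z = z * x) ∧
    ∀ y ∈ S, (∀ x ∈ S, x * y = y * x) → y = 1 ∨ y = z) : CenTwo X := by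
  obtain ⟨S, -, -, h⟩ := h
  exact ⟨S, z, fun u hu hc _ => h u hu hc⟩

variable {X : Type*} [Group X] [Finite X]

theorem m11 (h : Spor.IsoM11 X) : NoCenMove X := OfSheet.noCenMove (OddHalf.D4.Spor.M11.sheet h)

theorem on (h : Spor.IsoON X) : NoCenMove X := OfSheet.noCenMove (OddHalf.D4.Spor.ON.sheet h)

theorem hn (h : Spor.IsoHN X) : NoCenMove X := by
  obtain ⟨e⟩ := h
  exact OfSheet.noCenMove (OddHalf.D4.Spor.HN.sheet_of_equiv e)

theorem th (h : Spor.IsoTh X) : NoCenMove X := OfSheet.noCenMove (OddHalf.D4.Spor.ThSheet.sheet_of_iso h)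

theorem m (h : Spor.IsoM X) : NoCenMove X := OfSheet.noCenMove (OddHalf.D4.Spor.MonsterFinal.sheet h)

theorem ru (h : Spor.IsoRu X) : NoCenMove X := OfSheet.noCenMove (OddHalf.D4.Spor.Ru.sheet h)

theorem fi24 (h : Spor.IsoFi24' X) : NoCenMove X := by
  obtain ⟨e⟩ := h
  have : Finite Spor.Fi24' := Finite.of_equiv X e.toEquiv
  have h1 : CenTwo Spor.Fi24' := cenTwo_of_syl KFacts.FiTF.sheetE.syl
  exact h1.noCenMove.map e.symm

theorem co2 (h : Spor.IsoCo2 X) : NoCenMove X := by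
  obtain ⟨z, P, R, h1, -⟩ := OddHalf.D8.RowCo2.facts X inferInstance h
  exact (cenTwo_of_syl h1.syl).noCenMove

theorem j4 (h : Spor.IsoJ4 X) : NoCenMove X := by
  obtain ⟨z, P, R, h1⟩ := KFacts.J4.SheetJ4.exists_sheet h
  exact (cenTwo_of_syl h1.syl).noCenMove

end Cfsg.Agent.Omega.Lie.Cen.Sheets

end

section


/-!
# (ZS), the row of the Tits group

The centre of a Sylow 2-subgroup of `²F₄(2)'` has order 2: among the 4096 elements of the unipotent group of `²F₄(2)`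
only `1` and `y₃²` commute with `y₀, y₄, y₆, y₁y₃, y₁y₅`.
-/

set_option autoImplicit false

namespace Cfsg.Agent.Omega.Lie.Cen.Tits

open Cfsg Cfsg.Agent.Omega.Lie.CenTwo
open Cfsg.Agent.ChevalleyStructure.Tits.Pack Cfsg.Agent.ChevalleyStructure.Tits.Data
  Cfsg.Agent.ChevalleyStructure.Tits.Sat Cfsg.Agent.ChevalleyStructure.Tits.Final
  Cfsg.Agent.ChevalleyStructure.Tits.Mat Cfsg.Agent.ChevalleyStructure.Tits.Order
  Cfsg.Agent.ChevalleyStructure.Tits.Main

open scoped MatrixGroups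

/-! ### the check -/

/-- the packed matrices differ (and are small) -/
def dif (A B : ℕ) : Bool := Nat.blt A (2 ^ 2704) && Nat.blt B (2 ^ 2704) && !(Nat.beq A B)

/-- `P` does not commute with `g` -/
def nc (P g : ℕ) : Bool := dif (mulP P g) (mulP g P)

/-- the words of the five elements -/
def gs : List (List ℕ) := [[0], [1, 3], [1, 5], [4], [6]]

/-- the check of an element -/
def f (P : ℕ) : Bool :=
  (gs.any fun g => nc P (evalW g)) || Nat.beq P oneP || Nat.beq P (evalW [3, 3])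

/-- all products of powers of `y_{8-n}, …, y₇`, multiplied by `P` -/
def tree : ℕ → ℕ → Bool
  | 0, P => f P
  | n + 1, P => (List.range (od (7 - n))).all fun a => tree n (mulP P (evalW (List.replicate a (7 - n))))

theorem tree_ok : tree 8 oneP = true := by decide +kernel

/-! ### soundness -/

theorem toMat_inj {a b : ℕ} (ha : a < 2 ^ 2704) (hb : b < 2 ^ 2704) (h : toMat a = toMat b) : a = b := by
  apply Nat.eq_of_testBit_eq
  intro p
  by_cases hp : p < 2704
  · have hix : ∀ i < 52, ∃ r : I52, ix r = i := by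
      intro i hi
      by_cases h4 : i < 4
      · exact ⟨Sum.inl ⟨i, h4⟩, rfl⟩
      · refine ⟨Sum.inr ⟨i - 4, by omega⟩, ?_⟩
        rw [ix_inr]
        show 4 + (i - 4) = i
        omega
    obtain ⟨r, hr⟩ := hix (p % 52) (Nat.mod_lt _ (by norm_num))
    obtain ⟨c, hc⟩ := hix (p / 52) (by omega)
    have h1 := congrFun (congrFun h r) c
    rw [toMat_apply, toMat_apply, hr, hc, Nat.div_add_mod] at h1
    revert h1
    cases a.testBit p <;> cases b.testBit p <;> simp [bz]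
  · have h52 : 2 ^ 2704 ≤ 2 ^ p := Nat.pow_le_pow_right (by norm_num) (by omega)
    rw [Nat.testBit_lt_two_pow (lt_of_lt_of_le ha h52), Nat.testBit_lt_two_pow (lt_of_lt_of_le hb h52)]

theorem ne_of_nc {P g : ℕ} (h : nc P g = true) : toMat P * toMat g ≠ toMat g * toMat P := by
  unfold nc dif at h
  rw [Bool.and_eq_true, Bool.and_eq_true, Nat.blt_eq, Nat.blt_eq, Bool.not_eq_true'] at h
  intro h2
  rw [← toMat_mulP, ← toMat_mulP] at h2
  have h3 := h.2
  rw [toMat_inj h.1.1 h.1.2 h2, Nat.beq_refl] at h3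
  exact Bool.noConfusion h3

/-- the words of `gs` as elements -/
theorem eq_of_f {P : ℕ} (h : f P = true) (hc : ∀ g ∈ gs, toMat P * toMat (evalW g) = toMat (evalW g) * toMat P) :
    toMat P = 1 ∨ toMat P = toMat (evalW [3, 3]) := by
  unfold f at h
  rw [Bool.or_eq_true, Bool.or_eq_true, List.any_eq_true] at h
  rcases h with (⟨g, hg, h⟩ | h) | h
  · exact absurd (hc g hg) (ne_of_nc h)
  · left
    rw [Nat.eq_of_beq_eq_true h, toMat_oneP]
  · right
    rw [Nat.eq_of_beq_eq_true h]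

theorem tree_sound : ∀ n ≤ 8, ∀ P, tree n P = true → ∀ u ∈ V yG (8 - n),
    ∃ P', toMat P' = toMat P * ((u : GL I52 (ZMod 2)) : Matrix I52 I52 (ZMod 2)) ∧ f P' = true := by
  intro n
  induction n with
  | zero =>
    intro _ P h u hu
    rw [Nat.sub_zero, V_eight, Subgroup.mem_bot] at hu
    subst hu
    exact ⟨P, by simp, h⟩
  | succ n ih =>
    intro hn P h u hu
    have hk : 8 - (n + 1) < 8 := by omega
    have e1 : 8 - (n + 1) = 7 - n := by omega
    have e2 : 7 - n + 1 = 8 - n := by omega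
    rw [e1] at hu hk
    rw [V_succ yG hk] at hu
    obtain ⟨x, hx, k, hkk, rfl⟩ := mem_sup_fac (V_norm Sat_yG hk) u hu
    rw [e2] at hkk
    have hfin : IsOfFinOrder (yG (7 - n)) := isOfFinOrder_iff_pow_eq_one.mpr ⟨_, od_pos _, pow_od Sat_yG hk⟩
    rw [← hfin.mem_powers_iff_mem_zpowers, hfin.mem_powers_iff_mem_range_orderOf, Finset.mem_image] at hx
    obtain ⟨a, ha, rfl⟩ := hx
    rw [Finset.mem_range] at ha
    have hle : orderOf (yG (7 - n)) ≤ od (7 - n) :=
      Nat.le_of_dvd (od_pos _) (orderOf_dvd_of_pow_eq_one (pow_od Sat_yG hk))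
    unfold tree at h
    rw [List.all_eq_true] at h
    obtain ⟨P', h1, h2⟩ := ih (by omega) _ (h a (List.mem_range.2 (lt_of_lt_of_le ha hle))) k hkk
    refine ⟨P', ?_, h2⟩
    rw [h1, toMat_mulP, toMat_evalW, ← coe_word _ (by
      intro i hi
      rw [List.eq_of_mem_replicate hi]
      omega), Units.val_mul, Matrix.mul_assoc]
    rw [List.map_replicate, List.prod_replicate]

/-- the elements of `V` which commute with the five elements -/
theorem cen_V {u : GL I52 (ZMod 2)} (hu : u ∈ V yG 0)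
    (hc : ∀ g ∈ gs, u * (g.map yG).prod = (g.map yG).prod * u) : u = 1 ∨ u = yG 3 * yG 3 := by
  obtain ⟨P, h1, h2⟩ := tree_sound 8 le_rfl _ tree_ok u (by simpa using hu)
  rw [toMat_oneP, Matrix.one_mul] at h1
  have hlt : ∀ g ∈ gs, ∀ i ∈ g, i < 12 := by decide
  rcases eq_of_f h2 (by
    intro g hg
    rw [h1, toMat_evalW, ← coe_word _ (hlt g hg), ← Units.val_mul, ← Units.val_mul, hc g hg]) with h | h
  · left
    rw [h1] at h
    exact Units.ext h
  · right
    rw [h1, toMat_evalW, ← coe_word _ (by simp)] at h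
    rw [Units.ext h]
    simp

/-! ### the Sylow subgroup of the commutator subgroup -/

theorem index_two : (commutator H0).index = 2 := H0_result.1

theorem mm (a b : H0) : a * b ∈ commutator H0 ↔ (a ∈ commutator H0 ↔ b ∈ commutator H0) :=
  Subgroup.mul_mem_iff_of_index_two index_two

theorem sq_mem (g : H0) : g * g ∈ commutator H0 := (mm g g).2 Iff.rfl

theorem cc {n x z : H0} (h : n * x = z * n) : x ∈ commutator H0 ↔ z ∈ commutator H0 := by
  have e : z = n * x * n⁻¹ := by rw [h]; group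
  rw [e, mm, mm, inv_mem_iff]
  tauto

theorem relH {p : List ℕ × List ℕ} (h1 : chk p = true) (h2 : ∀ i ∈ p.1, i < 10) (h3 : ∀ i ∈ p.2, i < 10) :
    (p.1.map yH).prod = (p.2.map yH).prod := by
  apply Subtype.ext
  rw [coe_list _ h2, coe_list _ h3]
  exact rel_of_chk h1 (fun i hi => by have := h2 i hi; omega) (fun i hi => by have := h3 i hi; omega)

theorem c91 : yH 1 ∈ commutator H0 ↔ yH 5 ∈ commutator H0 := by
  have h := relH (p := ([9, 1], [5, 9])) (by decide +kernel) (by decide) (by decide)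
  simp only [List.map_cons, List.map_nil, List.prod_cons, List.prod_nil, mul_one] at h
  exact cc h

theorem c83 : yH 3 ∈ commutator H0 ↔ yH 5 ∈ commutator H0 := by
  have h := relH (p := ([8, 3], [5, 8])) (by decide +kernel) (by decide) (by decide)
  simp only [List.map_cons, List.map_nil, List.prod_cons, List.prod_nil, mul_one] at h
  exact cc h

theorem m6 : yH 6 ∈ commutator H0 := by
  have h := relH (p := ([6], [1, 7, 1, 7, 1, 7, 7, 7, 1, 7, 7, 7])) (by decide +kernel) (by decide) (by decide)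
  simp only [List.map_cons, List.map_nil, List.prod_cons, List.prod_nil, mul_one] at h
  have e : yH 6 = (yH 1 * yH 7) * (yH 1 * yH 7) * ((yH 1 * yH 7 * yH 7 * yH 7) * (yH 1 * yH 7 * yH 7 * yH 7)) := by
    rw [h]; simp only [mul_assoc]
  rw [e]
  exact mul_mem (sq_mem _) (sq_mem _)

theorem m0 : yH 0 ∈ commutator H0 := by
  have h := relH (p := ([9, 0], [6, 9])) (by decide +kernel) (by decide) (by decide)
  simp only [List.map_cons, List.map_nil, List.prod_cons, List.prod_nil, mul_one] at h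
  exact (cc h).2 m6

theorem m2 : yH 2 ∈ commutator H0 := by
  have h := relH (p := ([2], [0, 1, 3, 4, 0, 1, 3, 4])) (by decide +kernel) (by decide) (by decide)
  simp only [List.map_cons, List.map_nil, List.prod_cons, List.prod_nil, mul_one] at h
  have e : yH 2 = (yH 0 * yH 1 * yH 3 * yH 4) * (yH 0 * yH 1 * yH 3 * yH 4) := by
    rw [h]; simp only [mul_assoc]
  rw [e]
  exact sq_mem _

theorem m4 : yH 4 ∈ commutator H0 := by
  have h := relH (p := ([9, 2], [4, 9])) (by decide +kernel) (by decide) (by decide)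
  simp only [List.map_cons, List.map_nil, List.prod_cons, List.prod_nil, mul_one] at h
  exact (cc h).1 m2

theorem m_gs : ∀ g ∈ gs, (g.map yH).prod ∈ commutator H0 := by
  intro g hg
  simp only [gs, List.mem_cons, List.not_mem_nil, or_false] at hg
  rcases hg with rfl | rfl | rfl | rfl | rfl
  · simpa using m0
  · simp only [List.map_cons, List.map_nil, List.prod_cons, List.prod_nil, mul_one]
    exact (mm _ _).2 (c91.trans c83.symm)
  · simp only [List.map_cons, List.map_nil, List.prod_cons, List.prod_nil, mul_one]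
    exact (mm _ _).2 c91
  · simpa using m4
  · simpa using m6

theorem V_gs : ∀ g ∈ gs, (g.map yH).prod ∈ V yH 0 := by
  intro g hg
  have hlt : ∀ g ∈ gs, ∀ i ∈ g, i < 8 := by decide
  exact list_prod_mem yH g fun i hi => mem_V yH (Nat.zero_le _) (hlt g hg i hi)

theorem cenTwo_abs (T : Subgroup H0) (hidx : T.index = 2) (hcT : Nat.card T = 2 ^ 11 * 3 ^ 3 * 5 ^ 2 * 13)
    (hm : ∀ g ∈ gs, (g.map yH).prod ∈ T) (hsq : yH 3 * yH 3 ∈ T) (hn : T.Normal) : CenTwo.CenTwo T := by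
  have : Fact (Nat.Prime 2) := ⟨Nat.prime_two⟩
  set W : Subgroup T := (V yH 0).subgroupOf T with hW
  have hcV : Nat.card (V yH 0) = 4096 := card_V_yH
  -- the order of `W`
  have hcW : 2048 ≤ Nat.card W := by
    have h1 : Nat.card W = Nat.card (T ⊓ V yH 0 : Subgroup H0) := by
      rw [hW, inf_comm, ← Subgroup.subgroupOf_map_subtype]
      exact (Nat.card_congr (((V yH 0).subgroupOf T).equivMapOfInjective T.subtype T.subtype_injective).toEquiv)
    have h2 : Nat.card (T ⊓ V yH 0 : Subgroup H0) * T.relIndex (V yH 0) = Nat.card (V yH 0) := by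
      have h5 : Nat.card (T.subgroupOf (V yH 0)) * (T.subgroupOf (V yH 0)).index = Nat.card (V yH 0) :=
        Subgroup.card_mul_index _
      have h6 : Nat.card (T.subgroupOf (V yH 0)) = Nat.card (T ⊓ V yH 0 : Subgroup H0) := by
        rw [← Subgroup.subgroupOf_map_subtype]
        exact (Nat.card_congr ((T.subgroupOf (V yH 0)).equivMapOfInjective (V yH 0).subtype
          (V yH 0).subtype_injective).toEquiv)
      rw [← h6]
      exact h5
    have h3 : T.relIndex (V yH 0) ∣ 2 := by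
      have := Subgroup.relIndex_dvd_index_of_normal T (V yH 0)
      rwa [hidx] at this
    have h4 := Nat.le_of_dvd (by norm_num) h3
    rw [h1]
    rw [hcV] at h2
    nlinarith
  have hpW : IsPGroup 2 W := by
    have h1 : IsPGroup 2 (V yH 0) := IsPGroup.of_card (n := 12) (by rw [hcV]; norm_num)
    exact h1.comap_of_injective T.subtype T.subtype_injective
  obtain ⟨S, hS⟩ := hpW.exists_le_sylow
  have hcS : Nat.card S = 2048 := by
    rw [S.card_eq_multiplicity, hcT]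
    have e : (2 ^ 11 * 3 ^ 3 * 5 ^ 2 * 13 : ℕ).factorization 2 = 11 := by
      rw [show (2 ^ 11 * 3 ^ 3 * 5 ^ 2 * 13 : ℕ) = 2 ^ 11 * 8775 by norm_num,
        Nat.factorization_mul (by norm_num) (by norm_num), Finsupp.add_apply,
        Nat.Prime.factorization_pow Nat.prime_two, Nat.factorization_eq_zero_of_not_dvd (by norm_num)]
      simp
    rw [e]; norm_num
  have hWS : W = S := by
    refine Subgroup.eq_of_le_of_card_ge hS ?_
    show Nat.card S ≤ _
    rw [hcS]; exact hcW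
  refine ⟨S, ⟨yH 3 * yH 3, hsq⟩, ?_⟩
  rintro ⟨u, huT⟩ hu hc _
  have huS : (⟨u, huT⟩ : T) ∈ W := by rw [hWS]; exact hu
  have huV : u ∈ V yH 0 := huS
  have hmS : ∀ x : H0, x ∈ V yH 0 → ∀ hx : x ∈ T, (⟨x, hx⟩ : T) ∈ S := by
    intro x hx hxT
    have : (⟨x, hxT⟩ : T) ∈ W := hx
    rw [hWS] at this
    exact this
  have key : ((u : H0) : GL I52 (ZMod 2)) = 1 ∨ ((u : H0) : GL I52 (ZMod 2)) = yG 3 * yG 3 := by
    apply cen_V
    · rw [← map_V]
      exact ⟨u, huV, rfl⟩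
    · intro g hg
      have h1 := hc _ (hmS _ (V_gs g hg) (hm g hg))
      have h2 : (g.map yH).prod * u = u * (g.map yH).prod := by
        have h3 := Subtype.ext_iff.1 h1
        rw [Subgroup.coe_mul, Subgroup.coe_mul] at h3
        exact h3
      have hlt : ∀ g ∈ gs, ∀ i ∈ g, i < 10 := by decide +kernel
      rw [← coe_list g (hlt g hg), ← Subgroup.coe_mul, ← Subgroup.coe_mul, h2]
  rcases key with h | h
  · left
    apply Subtype.ext
    exact Subtype.ext h
  · right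
    apply Subtype.ext
    apply Subtype.ext
    show (u : GL I52 (ZMod 2)) = ((yH 3 * yH 3 : H0) : GL I52 (ZMod 2))
    rw [h, Subgroup.coe_mul, coe_yH (by norm_num)]

theorem cenTwo_H0 : CenTwo.CenTwo (commutator H0) :=
  cenTwo_abs (commutator H0) index_two H0_result.2.2.2 m_gs (sq_mem _) inferInstance

theorem of_iso {Y : Type*} [Group Y] [Finite Y] (h : CenTwo.CenTwo Y) {X : Type*} [Group X]
    (e : Nonempty (X ≃* Y)) : NoCenMove X := by
  obtain ⟨e⟩ := e
  have : Finite X := Finite.of_equiv Y e.symm.toEquiv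
  exact h.noCenMove.map e.symm

theorem cenTwo_aux (K : Subgroup (GL I52 (ZMod 2))) (hK : K = H0) : CenTwo.CenTwo (commutator K) := by
  subst hK
  exact cenTwo_H0

theorem finite_aux (K : Subgroup (GL I52 (ZMod 2))) : Finite (commutator K) := by
  have : Finite K := Subgroup.instFiniteSubtypeMem K
  exact Subgroup.instFiniteSubtypeMem _

theorem finite_tits : Finite Cfsg.Lie.TitsGroup := finite_aux (Cfsg.Lie.twistedF4 (ZMod 2) 1)

/-- The centre of a Sylow 2-subgroup of the Tits group has at most one involution. -/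
theorem cenTwo_tits : CenTwo.CenTwo Cfsg.Lie.TitsGroup := cenTwo_aux (Cfsg.Lie.twistedF4 (ZMod 2) 1) T0_eq_H0

end Cfsg.Agent.Omega.Lie.Cen.Tits

namespace Cfsg.Agent.Omega.Lie.Cen

open Cfsg Cfsg.Agent.Omega.Lie.CenTwo

/-- **(ZS), the Tits group** -/
theorem tits {X : Type*} [Group X] (h : Cfsg.Lie.IsoTits X) : NoCenMove X := by
  have hf := Tits.finite_tits
  exact Tits.of_iso Tits.cenTwo_tits h

end Cfsg.Agent.Omega.Lie.Cen

end

section


/-!
# (ZS), the row `HS` (helper484)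
-/

set_option autoImplicit false

namespace Cfsg.Agent.Omega.Lie.Cen

open Cfsg Cfsg.Agent.Omega.Lie.CenTwo Cfsg.Agent.KFacts.HS Cfsg.Agent.KFacts.HS.Cent
open Cfsg.Agent.HN Cfsg.Agent.HN.Pres Cfsg.Agent.HN.HS100 Cfsg.Agent.HN.H0Basic
open Cfsg.Agent.HN.P1408 hiding U
open Cfsg.Agent.HN.XMat Cfsg.Agent.HN.WMask

theorem sg_sq (e : Bool) : sg e * sg e = 1 := by
  rw [sg_mul]; cases e <;> rfl

theorem b_ne : (b : H0) ≠ 1 := by
  intro h
  have h1 : sg true = sg false := h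
  exact absurd (sg_inj h1) (by decide)

theorem b_ne_τ : (b : H0) ≠ τ := by
  intro h
  apply bτ_ne
  rw [h, τ_mul_τ]

theorem cenTwo_hs {L : Type*} [Group L] [Finite L] (D : Cfsg.Agent.KFacts.HS.Mod L) : CenTwo.CenTwo L := by
  have hE : IsPGroup 2 ((Rt.subgroupOf K).map D.π) := by
    apply IsPGroup.map
    intro x
    refine ⟨2, Subtype.ext (Subtype.ext ?_)⟩
    obtain ⟨m, hm, -, e, he⟩ := mem_Rt.1 (Subgroup.mem_subgroupOf.1 x.2)
    show ((x : K) : H0) ^ (2 ^ 2) = 1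
    rw [he]
    obtain ⟨e1, h1⟩ := R_sq m
    calc (R m * sg e) ^ (2 ^ 2) = (R m * (sg e * R m) * sg e) * (R m * (sg e * R m) * sg e) := by
          rw [show (2 : ℕ) ^ 2 = 4 by norm_num, pow_succ, pow_succ, pow_succ, pow_one]; group
      _ = ((R m * R m) * (sg e * sg e)) * ((R m * R m) * (sg e * sg e)) := by rw [R_sg]; group
      _ = 1 := by rw [h1, sg_sq, mul_one, sg_sq]
  refine cenTwo_of_centralizer hE (z := D.π ⟨b, b_mem_K⟩) ?_
  intro u hu huu
  obtain ⟨h, rfl⟩ := D.surj u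
  have key : ∀ r ∈ Rt, (h : H0) * r * (h : H0)⁻¹ = r ∨ (h : H0) * r * (h : H0)⁻¹ = r * τ := by
    intro r hr
    have hrK : r ∈ K := hr.2
    have h1 := hu (D.π ⟨r, hrK⟩) ⟨⟨r, hrK⟩, hr, rfl⟩
    rw [← map_mul, ← map_mul, eq_comm, D.eq_iff] at h1
    rcases h1 with h1 | h1
    · left
      have h2 : (h : H0) * r = r * h := h1
      rw [h2]; group
    · right
      have h2 : (h : H0) * r = r * h * τ := h1
      rw [h2, mul_assoc (r * (h : H0)), ← τ_comm]
      group
  have hU := key U U_mem_Rt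
  have hb : (h : H0) * b = b * h := by
    rw [← mul_inv_eq_iff_eq_mul]
    have e : (h : H0) * b * (h : H0)⁻¹ = ((h : H0) * U * (h : H0)⁻¹) * ((h : H0) * U * (h : H0)⁻¹) := by
      rw [← U_sq]; group
    rw [e]
    rcases hU with h1 | h1 <;> rw [h1]
    · exact U_sq
    · calc U * τ * (U * τ) = U * (τ * U) * τ := by group
        _ = U * (U * τ) * τ := by rw [← τ_comm]
        _ = (U * U) * (τ * τ) := by group
        _ = b := by rw [τ_mul_τ, mul_one, U_sq]
  have huu' : (h : H0) * h = 1 ∨ (h : H0) * h = τ := by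
    rw [← map_mul] at huu
    exact (D.ker _).1 huu
  have hUU : ∀ e : Bool, U * sg e * (U * sg e) = b := by
    intro e
    have h1 : sg e * U = U * sg e := R_sg 28 e
    calc U * sg e * (U * sg e) = U * (sg e * U) * sg e := by group
      _ = (U * U) * (sg e * sg e) := by rw [h1]; group
      _ = b := by rw [sg_sq, mul_one, U_sq]
  have hbad : (h : H0) * h ≠ b := by
    intro h1
    rcases huu' with h2 | h2
    · exact b_ne (h1.symm.trans h2)
    · exact b_ne_τ (h1.symm.trans h2)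
  have fin : ∀ e : Bool, (h : H0) = sg e ∨ (h : H0) = sg e * τ → D.π h = 1 ∨ D.π h = D.π ⟨b, b_mem_K⟩ := by
    intro e he
    cases e
    · left
      rw [← map_one D.π, D.eq_iff]
      exact he
    · right
      rw [D.eq_iff]
      exact he
  obtain ⟨e, h1 | h1 | h1 | h1⟩ := fixR hb key
  · exact fin e (Or.inl h1)
  · exact fin e (Or.inr (by rw [h1, τ_comm]))
  · exact absurd (by rw [h1]; exact hUU e) hbad
  · refine absurd ?_ hbad
    rw [h1]
    calc U * τ * sg e * (U * τ * sg e) = U * (τ * (sg e * U)) * τ * sg e := by group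
      _ = U * ((sg e * U) * τ) * τ * sg e := by rw [τ_comm (sg e * U)]
      _ = U * sg e * (U * (τ * τ) * sg e) := by group
      _ = b := by rw [τ_mul_τ, mul_one, hUU e]

theorem hs {X : Type*} [Group X] (h : Spor.IsoHS X) : NoCenMove X := by
  obtain ⟨D⟩ := exists_mod h
  have hf : Finite X := Nat.finite_of_card_ne_zero (by rw [Cfsg.Agent.KFacts.HS.card h]; norm_num)
  exact (cenTwo_hs D).noCenMove

end Cfsg.Agent.Omega.Lie.Cen

end

end

-- merged: Cfsg.Agent.Mrg.Omega.Lie.Cen.J2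
section

section


/-!
# (ZS), the row `J2` (helper484)
-/

set_option autoImplicit false

namespace Cfsg.Agent.Omega.Lie.Cen

open Cfsg Cfsg.Agent.Omega.Lie.CenTwo

theorem finite_j2 : Finite Spor.J2 := Nat.finite_of_card_ne_zero (by
  rw [Cfsg.Agent.J2Sylow.SporSylow.card_J2]; norm_num)

theorem cenTwo_j2 : CenTwo.CenTwo Spor.J2 := by
  obtain ⟨S⟩ : Nonempty (Sylow 2 Spor.J2) := inferInstance
  obtain ⟨f⟩ := J2Sylow.SporSylow.exists_equiv S
  exact cenTwo_of_typeJTwo f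

theorem j2 {X : Type*} [Group X] (h : Spor.IsoJ2 X) : NoCenMove X :=
  have := finite_j2
  noCenMove_of_iso cenTwo_j2 h

end Cfsg.Agent.Omega.Lie.Cen

end

section


/-!
# (ZS), the row `J3` (helper484)
-/

set_option autoImplicit false

namespace Cfsg.Agent.Omega.Lie.Cen

open Cfsg Cfsg.Agent.Omega.Lie.CenTwo

theorem j3 {X : Type*} [Group X] (h : Spor.IsoJ3 X) : NoCenMove X := by
  obtain ⟨F, _, _, ω, hF, hω, h⟩ := h
  have H := Cfsg.Agent.J3.Core.good_of_card hF hω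
  have hc := Cfsg.Agent.J3.Simple.card_J3 hF H
  have hfin : Finite (Cfsg.Spor.J3 F ω) := Nat.finite_of_card_ne_zero (by rw [hc]; norm_num)
  obtain ⟨S⟩ : Nonempty (Sylow 2 (Cfsg.Spor.J3 F ω)) := inferInstance
  obtain ⟨f⟩ := Schreier.JThreeSylow.exists_equiv hF H S
  exact noCenMove_of_iso (cenTwo_of_typeJTwo f) h

end Cfsg.Agent.Omega.Lie.Cen

end

end

-- merged: Cfsg.Agent.Mrg.Omega.Lie.Cen.Co3
section

/-!
# (ZS), the row `Co3` (helper484)
-/

set_option autoImplicit false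

namespace Cfsg.Agent.Omega.Lie.Cen

open Cfsg Cfsg.Agent.Omega.Lie.CenTwo Cfsg.Agent.SporRec.Co3.Chain

theorem map_G3 : G3.map Co0.subtype = Spor.Co3 := by
  ext g
  constructor
  · rintro ⟨x, hx, rfl⟩
    exact ⟨x.2, hx⟩
  · rintro ⟨h1, h2⟩
    exact ⟨⟨g, h1⟩, h2, rfl⟩

theorem co3 {X : Type*} [Group X] (h : Spor.IsoCo3 X) : NoCenMove X := by
  have hf := KFacts.Co3.Syl.finite_G3
  obtain ⟨S, -, -, hS⟩ := KFacts.Co3.Syl.syl
  have h1 : CenTwo.CenTwo G3 := ⟨S, _, fun u hu hc _ => hS u hu hc⟩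
  obtain ⟨e⟩ := h
  exact noCenMove_of_iso h1 ⟨e.trans ((Subgroup.equivMapOfInjective G3 Co0.subtype Subtype.val_injective).trans
    (MulEquiv.subgroupCongr map_G3)).symm⟩

end Cfsg.Agent.Omega.Lie.Cen

end

-- merged: Cfsg.Agent.Mrg.Omega.Lie.CenCover
section

/-!
# `CenTwo` for the double covers of `A_n`, for groups with involution centraliser `2.A_n` (helper484)

* `not_cen_of_conj`: `z` a central involution, `u` conjugate to `u z`: then `u` does not centralise a Sylow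
  2-subgroup;
* `cenTwo_of_cover`: double covers of `A_n`;
* `cenTwo_of_mt`: groups of type `MT n` (`McL`, `Ly`).
-/

set_option autoImplicit false
set_option linter.dupNamespace false

namespace Cfsg.Agent.Omega.Lie.CenTwo

open Subgroup Cfsg.Agent.SporRec.TwoAn Cfsg.Agent.TypeM.Two

/-- an element conjugate to its product with a central involution does not centralise a Sylow 2-subgroup -/
theorem not_cen_of_conj {C : Type*} [Group C] [Finite C] {z u w : C} (hz : ∀ x : C, x * z = z * x) (hzz : z * z = 1)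
    (hz1 : z ≠ 1) (hw : w * u * w⁻¹ = u * z) (S : Sylow 2 C) (hS : ∀ x ∈ S, x * u = u * x) : False := by
  have : Fact (Nat.Prime 2) := ⟨Nat.prime_two⟩
  -- `N` = the centraliser of `u` modulo `z`
  let N : Subgroup C :=
    { carrier := {x | x * u * x⁻¹ = u ∨ x * u * x⁻¹ = u * z}
      one_mem' := Or.inl (by group)
      mul_mem' := by
        intro x y hx hy
        have e : x * y * u * (x * y)⁻¹ = x * (y * u * y⁻¹) * x⁻¹ := by group
        show x * y * u * (x * y)⁻¹ = u ∨ x * y * u * (x * y)⁻¹ = u * z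
        rw [e]
        have hxz : x * z * x⁻¹ = z := by rw [hz x]; group
        rcases hy with hy | hy <;> rw [hy]
        · exact hx
        · have e2 : x * (u * z) * x⁻¹ = (x * u * x⁻¹) * (x * z * x⁻¹) := by group
          rw [e2, hxz]
          rcases hx with hx | hx <;> rw [hx]
          · right; rfl
          · left; rw [mul_assoc, hzz, mul_one]
      inv_mem' := by
        intro x hx
        show x⁻¹ * u * x⁻¹⁻¹ = u ∨ x⁻¹ * u * x⁻¹⁻¹ = u * z
        rcases hx with hx | hx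
        · left
          calc x⁻¹ * u * x⁻¹⁻¹ = x⁻¹ * (x * u * x⁻¹) * x⁻¹⁻¹ := by rw [hx]
            _ = u := by group
        · right
          have h1 : x * (u * z) * x⁻¹ = u := by
            calc x * (u * z) * x⁻¹ = (x * u * x⁻¹) * (x * z * x⁻¹) := by group
              _ = u * z * z := by rw [hx, hz x]; group
              _ = u := by rw [mul_assoc, hzz, mul_one]
          calc x⁻¹ * u * x⁻¹⁻¹ = x⁻¹ * (x * (u * z) * x⁻¹) * x⁻¹⁻¹ := by rw [h1]
            _ = u * z := by group }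
  have hmem : ∀ x, x ∈ N ↔ x * u * x⁻¹ = u ∨ x * u * x⁻¹ = u * z := fun x => Iff.rfl
  have huz : u * z ≠ u := fun h => hz1 (mul_eq_left.1 h)
  have hcen : ∀ x, x ∈ centralizer ({u} : Set C) ↔ x * u * x⁻¹ = u := by
    intro x
    rw [mem_centralizer_singleton_iff, mul_inv_eq_iff_eq_mul]
  have hle : centralizer ({u} : Set C) ≤ N := fun x hx => Or.inl ((hcen x).1 hx)
  have hrel : (centralizer ({u} : Set C)).relIndex N = 2 := by
    rw [relIndex, index_eq_two_iff]
    refine ⟨⟨w, Or.inr hw⟩, ?_⟩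
    rintro ⟨b, hb⟩
    rw [mem_subgroupOf, mem_subgroupOf]
    show Xor (b * w ∈ centralizer ({u} : Set C)) (b ∈ centralizer ({u} : Set C))
    rw [hcen, hcen]
    have e : b * w * u * (b * w)⁻¹ = (b * u * b⁻¹) * z := by
      calc b * w * u * (b * w)⁻¹ = b * (w * u * w⁻¹) * b⁻¹ := by group
        _ = b * u * (z * b⁻¹) := by rw [hw]; group
        _ = b * u * (b⁻¹ * z) := by rw [hz b⁻¹]
        _ = _ := by group
    rw [e]
    rcases (hmem b).1 hb with h | h
    · rw [h]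
      exact Or.inr ⟨rfl, huz⟩
    · rw [h]
      refine Or.inl ⟨by rw [mul_assoc, hzz, mul_one], huz⟩
  have h1 : (S : Subgroup C) ≤ centralizer ({u} : Set C) := fun x hx =>
    mem_centralizer_singleton_iff.2 (hS x hx)
  have h2 : (centralizer ({u} : Set C)).index ∣ (S : Subgroup C).index := index_dvd_of_le h1
  have h3 : (centralizer ({u} : Set C)).relIndex N * N.index = (centralizer ({u} : Set C)).index :=
    relIndex_mul_index hle
  rw [hrel] at h3
  have h4 : ¬ 2 ∣ (S : Subgroup C).index := S.not_dvd_index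
  exact h4 ((Dvd.intro _ h3).trans h2)

/-- the double covers of the alternating groups -/
theorem cenTwo_of_cover {n : ℕ} {C : Type*} [Group C] [Finite C] (K : Cover (Fin n) C) : CenTwo C := by
  obtain ⟨S⟩ : Nonempty (Sylow 2 C) := inferInstance
  refine ⟨S, K.z, ?_⟩
  intro u _ hc huu
  by_contra hne
  have h1 : K.π u ≠ 1 := fun h => hne ((K.ker u).1 h)
  have h2 : K.π u * K.π u = 1 := by rw [← map_mul, huu, map_one]
  obtain ⟨w, hw⟩ := K.exists_conj_mul_z h2 h1
  exact not_cen_of_conj (fun x => K.z_comm x) K.z_mul_z K.z_ne hw S hc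

/-- with one class of involutions the centraliser of an involution has odd index -/
theorem odd_index_of_one {X : Type*} [Group X] [Finite X] {t : X} (htt : t * t = 1) (ht1 : t ≠ 1)
    (one : ∀ s : X, s * s = 1 → s ≠ 1 → ∃ g, g * t * g⁻¹ = s) : ¬ 2 ∣ (centralizer ({t} : Set X)).index := by
  have : Fact (Nat.Prime 2) := ⟨Nat.prime_two⟩
  obtain ⟨S⟩ : Nonempty (Sylow 2 X) := inferInstance
  have hcard : 2 ∣ Nat.card X := by
    have h1 : orderOf t = 2 := orderOf_eq_prime (by rw [pow_two, htt]) ht1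
    rw [← h1]; exact orderOf_dvd_natCard t
  -- the Sylow subgroup is not trivial
  have hS : (S : Subgroup X) ≠ ⊥ := by
    intro h
    have h2 := S.not_dvd_index
    rw [show ((S : Subgroup X)).index = Nat.card X by rw [h, index_bot]] at h2
    exact h2 hcard
  obtain ⟨y, hy, hy1⟩ := (nontrivial_iff_exists_ne_one _).1 ((nontrivial_iff_ne_bot _).2 hS)
  obtain ⟨u, hu, hu1, huu, hc⟩ := exists_central (S := (S : Subgroup X)) S.isPGroup' le_rfl
    (fun g hg y hy => mul_mem (mul_mem hg hy) (inv_mem hg)) hy hy1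
  obtain ⟨g, hg⟩ := one u huu hu1
  have h1 : (S : Subgroup X) ≤ centralizer ({u} : Set X) := fun x hx => mem_centralizer_singleton_iff.2 (hc x hx)
  have h2 : ¬ 2 ∣ (centralizer ({u} : Set X)).index := fun h => S.not_dvd_index (h.trans (index_dvd_of_le h1))
  have h3 : (centralizer ({u} : Set X)).index = (centralizer ({t} : Set X)).index := by
    have e : centralizer ({u} : Set X) = (centralizer ({t} : Set X)).map (MulAut.conj g).toMonoidHom := by
      ext x
      rw [mem_centralizer_singleton_iff]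
      constructor
      · intro hx
        refine ⟨g⁻¹ * x * g, mem_centralizer_singleton_iff.2 ?_, ?_⟩
        · rw [← hg] at hx
          calc g⁻¹ * x * g * t = g⁻¹ * (x * (g * t * g⁻¹)) * g := by group
            _ = g⁻¹ * (g * t * g⁻¹ * x) * g := by rw [hx]
            _ = _ := by group
        · show g * (g⁻¹ * x * g) * g⁻¹ = x
          group
      · rintro ⟨y, hy, rfl⟩
        have hy' := mem_centralizer_singleton_iff.1 hy
        show g * y * g⁻¹ * u = u * (g * y * g⁻¹)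
        rw [← hg]
        calc g * y * g⁻¹ * (g * t * g⁻¹) = g * (y * t) * g⁻¹ := by group
          _ = g * (t * y) * g⁻¹ := by rw [hy']
          _ = _ := by group
    rw [e]
    exact index_map_equiv _ (MulAut.conj g)
  rwa [h3] at h2

/-- **groups with one class of involutions and involution centraliser `2.A_n`** -/
theorem cenTwo_of_mt {n : ℕ} {X : Type*} [Group X] [Finite X] (L : MT n X) : CenTwo X :=
  cenTwo_of_subgroup (odd_index_of_one L.t_mul_t L.t_ne L.one) (cenTwo_of_cover L.K)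

end Cfsg.Agent.Omega.Lie.CenTwo

end

-- merged: Cfsg.Agent.Mrg.Omega.Lie.Cen.McL
section

section


/-!
# (ZS), the row `McL` (helper484)
-/

set_option autoImplicit false

namespace Cfsg.Agent.Omega.Lie.Cen

open Cfsg Cfsg.Agent.Omega.Lie.CenTwo

theorem mcL {X : Type*} [Group X] (h : Spor.IsoMcL X) : NoCenMove X := by
  obtain ⟨hf, -, -, ⟨L⟩⟩ := TypeM.FactsMcL.facts h
  exact (cenTwo_of_mt L).noCenMove

end Cfsg.Agent.Omega.Lie.Cen

end

section


/-!
# (ZS), the row `Ly` (helper484)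
-/

set_option autoImplicit false

namespace Cfsg.Agent.Omega.Lie.Cen

open Cfsg Cfsg.Agent.Omega.Lie.CenTwo

theorem ly {X : Type*} [Group X] (h : Spor.IsoLy X) : NoCenMove X := by
  obtain ⟨hf, -, -, ⟨L⟩⟩ := TypeM.FactsLy.facts h
  exact (cenTwo_of_mt L).noCenMove

end Cfsg.Agent.Omega.Lie.Cen

end

end

-- merged: Cfsg.Agent.Omega.Lie.Cen.Suz
section

/-!
# (ZS), the row `Suz` (helper415)
-/

set_option autoImplicit false

namespace Cfsg.Agent.Omega.Lie.Cen

open Cfsg Cfsg.Agent.Omega.Lie.CenTwo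

theorem suz {X : Type*} [Group X] (h : Spor.IsoSuz X) : NoCenMove X := by
  have : Finite Cfsg.Spor.Suz := OddHalf.D4.Spor.Suz.fin
  have hX := OfSheet.noCenMove OddHalf.D4.Spor.Suz.sheet
  obtain ⟨e⟩ := h
  have : Finite X := Finite.of_equiv Cfsg.Spor.Suz e.symm.toEquiv
  exact NoCenMove.map e.symm hX

end Cfsg.Agent.Omega.Lie.Cen

end

-- merged: Cfsg.Agent.Mrg.Omega.Lie.Cen.He
section

/-!
# (ZS), the row `He` (helper484)
-/

set_option autoImplicit false

namespace Cfsg.Agent.Omega.Lie.Cen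

open Cfsg Cfsg.Agent.Omega.Lie.CenTwo Cfsg.Agent.KFacts.He.Hyp Cfsg.Agent.SporadicRecognition.HeldModel
open Cfsg.Agent.KFacts.TwoSix.SheetDef Cfsg.Agent.KFacts.TwoSix.Sheet

theorem cenTwo_he : CenTwo.CenTwo Spor.He := by
  have := finHe
  have hs := sheet_of hyp.inj
  refine cenTwo_of_centralizer (E := im iota QQ) (IsPGroup.of_card (n := 7) (by rw [hs.cardR]; norm_num))
    (z := iota zC) ?_
  intro u hu _
  refine hs.cR u ?_ fun r hr => (hu r hr).symm
  rw [hyp.range, Subgroup.mem_centralizer_singleton_iff]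
  have h1 := hu _ (hs.h1.ER hs.h1.zE)
  rw [hyp.map_zz] at h1
  exact h1.symm

theorem he {X : Type*} [Group X] (h : Spor.IsoHe X) : NoCenMove X :=
  have := finHe
  noCenMove_of_iso cenTwo_he h

end Cfsg.Agent.Omega.Lie.Cen

end

-- merged: Cfsg.Agent.Mrg.Omega.Lie.Cen.B
section

/-!
# (ZS), the row `B` (helper918)
-/

set_option autoImplicit false

namespace Cfsg.Agent.Omega.Lie.Cen

open Cfsg Cfsg.Agent.Omega.Lie.CenTwo Cfsg.Agent.BabyM Cfsg.Agent.BabyM.Model Cfsg.Agent.BabyU.ClosLane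

theorem cenTwo_b : CenTwo.CenTwo Inst.M.G :=
  have := A.finite_G
  cenTwo_of_large (KFacts.Baby.Inst.large A)

theorem b {X : Type*} [Group X] (h : Spor.IsoB X) : NoCenMove X := by
  obtain ⟨e⟩ := KFacts.Baby.RowB.exists_iso h
  have := A.finite_G
  exact noCenMove_of_iso cenTwo_b ⟨e.symm⟩

end Cfsg.Agent.Omega.Lie.Cen

end

-- merged: Cfsg.Agent.Mrg.Omega.KFactsZSDone
section

/-!
# `(ZS)`: all the rows (collected by helper844)

`rowsZS : RowsZS` (without hypotheses), `zs_known`: a finite known simple group, not of prime order, is of Lie type in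
characteristic 2, or has `NoCenMove`, or is `L₂(r)` (`r ≡ 3, 5 mod 8`, `r ≥ 11`), `J₁` or `²G₂(r)`; `zs_cover`: the same for
components.

Rows: `psl` helper584, `psp` helper155, `psu` helper138, `om*` helper676, `chev` `twisted` helper679, `tits` helper74,
`m12 m22 m23 m24 j2 j3 co3 mcl hs he ly` helper484, `suz` helper415, `co1` helper856, `fi22 fi23 b` helper918, the others
from the sheets of the ODD half (helper844).
-/

set_option autoImplicit false

namespace Cfsg.Agent.Omega.KFacts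

open Subgroup Cfsg Cfsg.Agent.Omega.Lie.CenTwo

universe u

/-- **The rows of `(ZS)`.** -/
theorem rowsZS : RowsZS.{u} where
  psl := zs_psl
  psp := zs_psp
  psu := zs_psu
  omOdd := zs_omOdd
  omPlus := zs_omPlus
  omMinus := zs_omMinus
  chev := zs_chev
  twisted := zs_twisted
  tits := fun _ _ _ h => Lie.Cen.tits h
  m11 := fun _ _ _ h => Lie.Cen.Sheets.m11 h
  m12 := fun _ _ _ h => Lie.Cen.m12 h
  m22 := fun _ _ _ h => Lie.Cen.m22 h
  m23 := fun _ _ _ h => Lie.Cen.m23 h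
  m24 := fun _ _ _ h => Lie.Cen.m24 h
  j2 := fun _ _ _ h => Lie.Cen.j2 h
  j3 := fun _ _ _ h => Lie.Cen.j3 h
  j4 := fun _ _ _ h => Lie.Cen.Sheets.j4 h
  co1 := fun _ _ _ h => Lie.Cen.co1 h
  co2 := fun _ _ _ h => Lie.Cen.Sheets.co2 h
  co3 := fun _ _ _ h => Lie.Cen.co3 h
  mcl := fun _ _ _ h => Lie.Cen.mcL h
  hs := fun _ _ _ h => Lie.Cen.hs h
  suz := fun _ _ _ h => Lie.Cen.suz h
  he := fun _ _ _ h => Lie.Cen.he h
  ru := fun _ _ _ h => Lie.Cen.Sheets.ru h
  on := fun _ _ _ h => Lie.Cen.Sheets.on h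
  ly := fun _ _ _ h => Lie.Cen.ly h
  fi22 := fun _ _ _ h => Lie.Cen.fi22 h
  fi23 := fun _ _ _ h => Lie.Cen.fi23 h
  fi24 := fun _ _ _ h => Lie.Cen.Sheets.fi24 h
  hn := fun _ _ _ h => Lie.Cen.Sheets.hn h
  th := fun _ _ _ h => Lie.Cen.Sheets.th h
  b := fun _ _ _ h => Lie.Cen.b h
  m := fun _ _ _ h => Lie.Cen.Sheets.m h

/-- **(ZS)** for the known simple groups. -/
theorem zs_known {K : Type u} [Group K] [Finite K] (h : IsKnownSimple' K) (hc : ¬ IsPrimeCyclic K) :
    IsLieTypeChar 2 K ∨ NoCenMove K ∨ OutZS K := rowsZS.main h hc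

/-- **(ZS)** for components. -/
theorem zs_cover {L : Type u} [Group L] [Finite L] (hodd : Odd (Nat.card (center L)))
    (h : IsKnownSimple' (L ⧸ center L)) (hc : ¬ IsPrimeCyclic (L ⧸ center L)) :
    IsLieTypeChar 2 (L ⧸ center L) ∨ NoCenMove L ∨ OutZS (L ⧸ center L) := rowsZS.cover hodd h hc

end Cfsg.Agent.Omega.KFacts

end

-- merged: Cfsg.Agent.Mrg.Omega.Lie.KRowsPlug
section

section


/-!
# NODE LIE: the K-facts `LayerMain.KRows`

`walterThm` (Walter's theorem, S0506), `oddOrd` (the odd order theorem, S0205), `kRows` : `KRows` from the table of the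
outer automorphism groups (helper898, helper126).
-/

set_option autoImplicit false

namespace Cfsg.Agent.Omega.Lie.KRowsPlug

open Cfsg Cfsg.Agent.Omega.KFacts

universe u

/-- Walter's theorem (S0506), centraliser form. -/
theorem walterThm : InvFiveAll.WalterThm.{u} := fun L _ _ hs hna S hS =>
  Cfsg.Agent.Walter.Main.wType_of_step Cfsg.Agent.Walter.StepAll.step L hs hna S hS

/-- The odd order theorem (S0205). -/
theorem oddOrd : LayerMain.OddOrd.{u} := fun _ _ _ h => Cfsg.Agent.S0205.result h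

/-- **The K-facts of the component theorem of NODE LIE**, from the outer automorphism groups. -/
theorem kRows (out : ∀ (L : Type u) [Group L] [Finite L], IsLieTypeChar 2 L ∨ OutZS L → OutT.OutNil L) :
    LayerMain.KRows.{u} where
  zs := KFacts.rowsZS
  walter := walterThm
  odd := oddOrd
  out := out

end Cfsg.Agent.Omega.Lie.KRowsPlug

end

section


/-!
# NODE LIE: the component theorem in `H = N(R i)/O₂(N(R i))`, over `BTC V R`

For a component `K ≤ H⁰` of `H`, `K / Z(K)` known, with `[K, A] ≠ 1`: `hyp`: `CompB.Hyp` holds and `K / Z(K)` is of Lie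
type in characteristic 2.  `perf`: hence `IIa4.Perf`.
-/

set_option autoImplicit false
set_option linter.unusedSectionVars false

namespace Cfsg.Agent.Omega.Lie.LayerMain

open Subgroup Cfsg Cfsg.Agent.Omega.BTwo Cfsg.Agent.Omega.Lie Cfsg.Agent.Omega.Lie.Quot
open Cfsg.Agent.Omega.Lie.CompB Cfsg.Agent.Omega.Lie.CompT Cfsg.Agent.Omega.Lie.Layer
open Cfsg.Agent.Omega.Lie.OutT Cfsg.Agent.Omega.Lie.InvFiveAll Cfsg.Agent.Omega.KFacts
open Cfsg.Agent.Transfer.FusionBasic

universe u v w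

variable {G : Type u} [Group G] [Finite G] {ι : Type w} {V : Subgroup G} {R : ι → Subgroup G} {F : Type v} [Field F]
  [Finite F] [CharP F 2] {i j : ι} {vv : F → F → G} {t : F → G} {w1 w2 : F → G}

/-- (T2): the exceptional case is impossible. -/
theorem three_false (b : BTC V R) (c : Coord V R i j vv w1 w2) (τ : TorD V R i j vv t)
    (hF : 4 ≤ Nat.card F) (S₁ : Sylow 2 G) (hV : (S₁ : Subgroup G) ≤ normalizer (V : Set G))
    (hR : (S₁ : Subgroup G) ≤ normalizer (R i : Set G)) {K : Subgroup (HQ (R i))} (hK : IsComponent K)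
    (hK0 : K ≤ H0 R i) (h2 : 2 ∣ Nat.card K) (h3 : Three (AA V R i j) (TT τ) K (SS R i S₁ ⊓ K))
    (h5 : InvFive.InvFive K) : False := by
  have sit := ExoBT.sit b.toBT τ (CrdOf.crd c) S₁ c.ne hF hV hR
  have hO := pCore_HQ (R i)
  have hsyl := sit.sylK hK.1 hK0
  have hfM : Finite (CubQ.MM b.toBT i) := by unfold CubQ.MM; infer_instance
  refine TwoMain.three_false (CubQ.cub b hF c τ) (CubQ.card_eV b.toBT c τ) sit.scal.sq hK.2 (fun z hz hc hz2 => ?_)
    (fun a ha x hx => (mem_normalizer_iff.1 (sit.A_le hO hK hK0 h2 ha) x).1 hx) sit.syl.isPGroup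
    (fun Q hQK hQ2 hSQ => ?_) h3 h5
  · exact LQ.eq_one_of_sq_odd (ExoComp.Sit.zodd hO hK z hz hc) hz2
  · rw [hsyl.2.2 Q hSQ hQK hQ2]
    exact inf_le_left

/-- [O(H⁰), A] = 1 -/
theorem oddC (b : BTC V R) (c : Coord V R i j vv w1 w2) (τ : TorD V R i j vv t) (hF : 4 ≤ Nat.card F) :
    OddC V R i j := by
  intro N hN hN0 hnil hodd x hx a ha
  have h1 : normalizer (N : Set (HQ (R i))) = ⊤ := Subgroup.normalizer_eq_top _
  have := hnil
  exact OddAll.centralizes b c τ hF hN0 hodd inferInstance (h1 ▸ le_top) (h1 ▸ le_top) x hx a ha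

/-- **The components `K` with `[K, A] ≠ 1`**: `CompB.Hyp` (so `T` normalises `K`, `A` is inner on `K`), and `K / Z(K)` is
of Lie type in characteristic 2. -/
theorem hyp (KR : KRows.{u}) (b : BTC V R) (c : Coord V R i j vv w1 w2) (τ : TorD V R i j vv t)
    (hF : 4 ≤ Nat.card F) (S₁ : Sylow 2 G) (hV : (S₁ : Subgroup G) ≤ normalizer (V : Set G))
    (hR : (S₁ : Subgroup G) ≤ normalizer (R i : Set G)) {K : Subgroup (HQ (R i))} (hK : IsComponent K)
    (hK0 : K ≤ H0 R i) (hk : IsKnownSimple' (K ⧸ center K)) (hne : ∃ a ∈ AA V R i j, ∃ k ∈ K, a * k ≠ k * a) :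
    Hyp (SS R i S₁) (AA V R i j) (TT τ) K ∧ IsLieTypeChar 2 (K ⧸ center K) :=
  hyp_bt KR b.toBT (CrdOf.crd c) τ c.ne hF S₁ hV hR hK hK0 hk hne
    (fun h h5 => three_false b c τ hF S₁ hV hR hK hK0 (two_dvd KR.odd hK.2) h h5)
    (fun h hZ => LQRows.false_of_outZS_real b hF c τ h hK.2 hne hZ)

/-- `A` acts on every component in `H⁰` as `A ⊓ K`. -/
theorem innC (KR : KRows.{u}) (b : BTC V R) (c : Coord V R i j vv w1 w2) (τ : TorD V R i j vv t)
    (hF : 4 ≤ Nat.card F) (S₁ : Sylow 2 G) (hV : (S₁ : Subgroup G) ≤ normalizer (V : Set G))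
    (hR : (S₁ : Subgroup G) ≤ normalizer (R i : Set G))
    (hk : ∀ K : Subgroup (HQ (R i)), IsComponent K → IsKnownSimple' (K ⧸ center K)) : InnC V R i j := by
  intro K hK hK0
  by_cases hne : ∃ a ∈ AA V R i j, ∃ k ∈ K, a * k ≠ k * a
  · exact InnA.of_hyp (hyp KR b c τ hF S₁ hV hR hK hK0 (hk K hK) hne).1
  · push Not at hne
    exact InnA.of_comm hne

/-- **`U j ≤ [N, N] Q i`, `N = ⟨(U j)^{N(R i)}⟩`.** -/
theorem perf (KR : KRows.{u}) (b : BTC V R) (c : Coord V R i j vv w1 w2) (τ : TorD V R i j vv t)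
    (hF : 4 ≤ Nat.card F) (S₁ : Sylow 2 G) (hV : (S₁ : Subgroup G) ≤ normalizer (V : Set G))
    (hR : (S₁ : Subgroup G) ≤ normalizer (R i : Set G))
    (hk : ∀ K : Subgroup (HQ (R i)), IsComponent K → IsKnownSimple' (K ⧸ center K)) :
    UU V R j ≤ ⁅NU V R i j, NU V R i j⁆ ⊔ QQ (R i) :=
  perf_of b.toBT c.ne (oddC b c τ hF) (innC KR b c τ hF S₁ hV hR hk)

end Cfsg.Agent.Omega.Lie.LayerMain

end

section


/-!
# NODE LIE, LAYER: `LayP` (`Node/LeafA4.lean`) from the K-facts `KRows`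
-/

set_option autoImplicit false
set_option linter.unusedSectionVars false

namespace Cfsg.Agent.Omega.Lie.LayerSit

open Subgroup Cfsg Cfsg.Agent.ZN Cfsg.Agent.Omega.NatPair Cfsg.Agent.Omega.BTwo
open Cfsg.Agent.Omega.Frame Cfsg.Agent.Omega.FrameFF Cfsg.Agent.Omega.Lie Cfsg.Agent.Omega.Lie.Quot
open Cfsg.Agent.Omega.IIa4 Cfsg.Agent.Omega.Lie.LayerMain

universe u

variable {G : Type u} [Group G] [Finite G] {S : Sylow 2 G} {P : Subgroup G} {g : G} {F : Type} [Field F]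
  [Finite F] [CharP F 2] {M : NatMod F (zl (S : Subgroup G) P)}

theorem normalizer_ne_top (h : Sit S P g M) (i : Pt M) : normalizer (pt M i : Set G) ≠ ⊤ := by
  intro h1
  have hs := h.ctx.simple
  have h2 : (pt M i).Normal := normalizer_eq_top_iff.mp h1
  have h3 : pt M i = ⊤ := h2.eq_bot_or_eq_top.resolve_left (h.bt.R_ne i)
  have h4 : zl (S : Subgroup G) P = ⊤ := top_le_iff.1 (h3 ▸ h.bt.R_le i)
  exact h.ctx.nonComm ⟨⟨fun a b => h.bt.V_comm a (h4 ▸ mem_top a) b (h4 ▸ mem_top b)⟩⟩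

/-- the components of `N(R i)/O₂(N(R i))` are known -/
theorem known (h : Sit S P g M) (i : Pt M) (K : Subgroup (HQ (pt M i))) (hK : IsComponent K) :
    IsKnownSimple' (K ⧸ center K) :=
  LayerKnown.known h.ctx.kproper (normalizer_ne_top h i) hK.2

/-- **LAYER at every pair of points.** -/
theorem layAll (KR : KRows.{u}) (h : Sit S P g M) : LayAll (zl (S : Subgroup G) P) (pt M) F := by
  intro i j hij v w1 w2 t c τ S₁ hV hR
  refine ⟨oddC h.btc c τ h.four, fun K hK => ?_, fun K hK => ?_⟩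
  · exact (hyp KR h.btc c τ h.four S₁ hV hR hK.1 hK.2.1 (known h i K hK.1) hK.2.2).1
  · exact (hyp KR h.btc c τ h.four S₁ hV hR hK.1 hK.2.1 (known h i K hK.1) hK.2.2).2

/-- **LAYER**, the interface of `Node/LeafA4.lean`, for every class. -/
theorem layP {K : Cls.{u}} (KR : KRows.{u}) : LayP K := fun _ _ _ _ _ _ _ _ _ _ _ _ h => layAll KR h

end Cfsg.Agent.Omega.Lie.LayerSit

end

section


/-!
# The leaf II.a, `q ≥ 4`: current state (assembler helper978)

`leafA4_main` : `LeafA4 K` from S1143, S1144, the K-facts `LayerMain.KRows`, `SEP K`, `LieBNP K`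
(`Node/LeafA4.lean`); the parts `LayP` (helper287), `TIRP` (helper450) and `AllP` are plugged in.
-/

set_option autoImplicit false

namespace Cfsg.Agent.Omega.IIa4

open Cfsg.Agent.Omega.Frame Cfsg.Agent.Omega.FrameFF

universe u

theorem leafA4_main {K : Cls.{u}} (h43 : Exits.St1143.{u}) (h44 : Exits.St1144.{u})
    (hK : Lie.LayerMain.KRows.{u}) (hse : SEP K) (hbn : LieBNP K) : LeafA4 K :=
  leafA4_of h43 h44 (Lie.LayerSit.layP hK) hse tirp hbn

end Cfsg.Agent.Omega.IIa4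

end

section


/-!
# THEOREM D, LEMMA C, (L8) (bb OMEGA #15015, #15752) for the real module `M = W i / R i`

`FQ` = `FMod` together with the action of `H = HQ (R i) = N(R i)/O₂(N(R i))`.

* `FQ.bas` : `LemC.Bas` for `H⁰ = C(R i)/O₂`, `A = U j O₂/O₂`, `e₀ = p (v 0 1)`, `D̄ = D/R i`;
* `FQ.torB`, `FQ.tor` : the torus data `LemC.TorB`, `ThmD.Tor`;
* `FQ.fix` : a component of `H⁰` centralised by `A` fixes `e₀`;
* `normal_of_lay` : the product of the moved components is normal in `H` ((L8)).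
-/

set_option autoImplicit false
set_option linter.unusedSectionVars false

namespace Cfsg.Agent.Omega.Lie.BasOf

open Subgroup Cfsg Cfsg.Agent.Omega.BTwo Cfsg.Agent.Omega.Lie Cfsg.Agent.Omega.Lie.Quot Cfsg.Agent.Omega.IIa4

universe u v w

section

variable {G : Type u} [Group G] {ι : Type w} {V : Subgroup G} {R : ι → Subgroup G} {i j : ι}
variable {F : Type v} [Field F] [CharP F 2] {v : F → F → G} {w1 w2 : F → G}
variable {M B : Type u} [AddCommGroup M] [AddCommGroup B] [DistribMulAction (NR R i) M]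
  [DistribMulAction (NR R i) B] [Module F M] [DistribMulAction (HQ (R i)) M] {p : G → M} {r : G → B}
  {f : M →+ M →+ B} {φ : M →ₗ[F] M →ₗ[F] F} {s : NR R i → (F ≃+* F)}

/-- the `F`-space `M = W i / R i` with the action of `H = N(R i)/O₂(N(R i))` -/
structure FQ (V : Subgroup G) (R : ι → Subgroup G) (i j : ι) (v : F → F → G) (w1 w2 : F → G)
    (M B : Type u) [AddCommGroup M] [AddCommGroup B] [DistribMulAction (NR R i) M]
    [DistribMulAction (NR R i) B] [Module F M] [DistribMulAction (HQ (R i)) M] (p : G → M) (r : G → B)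
    (f : M →+ M →+ B) (φ : M →ₗ[F] M →ₗ[F] F) (s : NR R i → (F ≃+* F)) : Prop
    extends FMod V R i j v w1 w2 M B p r f φ s where
  pr_smul : ∀ (g : NR R i) (m : M), pr (R i) g • m = g • m

end

section

variable {G : Type u} [Group G] {ι : Type w} {V : Subgroup G} {R : ι → Subgroup G} {i j : ι}
variable {F : Type v} [Field F] [CharP F 2] {v : F → F → G} {w1 w2 : F → G}

/-- **existence of `FQ`** -/
theorem exists_FQ {M B : Type u} [AddCommGroup M] [AddCommGroup B] [DistribMulAction (NR R i) M]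
    [DistribMulAction (NR R i) B] [Module F M] {p : G → M} {r : G → B}
    {f : M →+ M →+ B} {φ : M →ₗ[F] M →ₗ[F] F} {s : NR R i → (F ≃+* F)}
    (h : FMod V R i j v w1 w2 M B p r f φ s) :
    ∃ _ : DistribMulAction (HQ (R i)) M, FQ V R i j v w1 w2 M B p r f φ s := by
  obtain ⟨act, hact⟩ := exists_quot_action (M := M) (pCore 2 ↥(normalizer (R i : Set G))) (by
    intro k hk a
    exact h.fr.Q_act h.bt (h := k) ⟨k, hk, rfl⟩ a)
  exact ⟨act, { h with pr_smul := hact }⟩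

/-- the torus in `H` -/
noncomputable def tq {t : F → G} (τ : TorD V R i j v t) (a : F) : HQ (R i) :=
  open Classical in if ha : a ≠ 0 then pr (R i) (tT τ (Units.mk0 a ha)) else 1

theorem tq_of {t : F → G} (τ : TorD V R i j v t) {a : F} (ha : a ≠ 0) :
    tq τ a = pr (R i) (tT τ (Units.mk0 a ha)) := by
  unfold tq
  rw [dif_pos ha]

theorem tq_eq {t : F → G} (τ : TorD V R i j v t) {a : F} (ha : a ≠ 0) :
    tq τ a = pr (R i) ⟨t a, τ.normR ha⟩ := tq_of τ ha

theorem tq_mem {t : F → G} (τ : TorD V R i j v t) {a : F} (ha : a ≠ 0) : tq τ a ∈ TT τ := by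
  rw [mem_TT τ]
  exact ⟨a, ha, (tq_eq τ ha).symm⟩

end

namespace FQ

variable {G : Type u} [Group G] {ι : Type w} {V : Subgroup G} {R : ι → Subgroup G} {i j : ι}
variable {F : Type v} [Field F] [CharP F 2] {v : F → F → G} {w1 w2 : F → G}
variable {M B : Type u} [AddCommGroup M] [AddCommGroup B] [DistribMulAction (NR R i) M]
  [DistribMulAction (NR R i) B] [Module F M] [DistribMulAction (HQ (R i)) M] {p : G → M} {r : G → B}
  {f : M →+ M →+ B} {φ : M →ₗ[F] M →ₗ[F] F} {s : NR R i → (F ≃+* F)}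
variable (h : FQ V R i j v w1 w2 M B p r f φ s)
include h

theorem exists_A {a : HQ (R i)} (ha : a ∈ AA V R i j) : ∃ g : NR R i, (g : G) ∈ UU V R j ∧ pr (R i) g = a := by
  obtain ⟨u, hu, rfl⟩ := (mem_AA h.bt).1 ha
  exact ⟨⟨u, U_le_N h.bt i j hu⟩, hu, rfl⟩

theorem lin_H0 {g : HQ (R i)} (hg : g ∈ H0 R i) (c : F) (x : M) : g • c • x = c • g • x := by
  obtain ⟨g, hg', rfl⟩ := ModQ.exists_H0 hg
  rw [h.pr_smul, h.pr_smul, h.lin_cen hg']

theorem phi_H0 {g : HQ (R i)} (hg : g ∈ H0 R i) (x y : M) : φ (g • x) (g • y) = φ x y := by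
  obtain ⟨g, hg', rfl⟩ := ModQ.exists_H0 hg
  rw [h.pr_smul, h.pr_smul, h.phi_cen hg']

theorem normal_H0 : (H0 R i).Normal := by
  have _ := h
  have h1 : ((centralizer (R i : Set G)).subgroupOf (normalizer (R i : Set G))).Normal := by
    refine ⟨fun x hx g => ?_⟩
    rw [mem_subgroupOf, mem_centralizer_iff] at hx ⊢
    intro z hz
    have h2 : (g : G)⁻¹ * z * g ∈ R i := conj_inv_mem_of_normalizer g.2 hz
    have h3 := hx _ h2
    change z * ((g : G) * x * (g : G)⁻¹) = (g : G) * x * (g : G)⁻¹ * z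
    calc z * ((g : G) * x * (g : G)⁻¹) = g * ((g : G)⁻¹ * z * g * x) * (g : G)⁻¹ := by group
      _ = g * (x * ((g : G)⁻¹ * z * g)) * (g : G)⁻¹ := by rw [h3]
      _ = (g : G) * x * (g : G)⁻¹ * z := by group
  exact h1.map (pr (R i)) (pr_surjective (R i))

theorem ne_zero_of_map (g : NR R i) {c : F} (hc : c ≠ 0) : s g c ≠ 0 := by
  have _ := h
  exact (map_ne_zero_iff _ (s g).injective).2 hc

theorem sg_zero (g : NR R i) : h.fr.sg h.co h.bt g 0 = 0 := h.fr.sg_zero h.co h.bt g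

/-- a line normalised: `h` normalises `V` -/
theorem mem_NV [Finite G] {n : NR R i} {c : F} (hc : pr (R i) n • p (v 0 1) = c • p (v 0 1)) :
    (n : G) ∈ normalizer (V : Set G) := by
  have hVW := V_le_WW V (R i)
  refine mem_normalizer_of_conj fun z hz => ?_
  have h1 : p z ∈ h.fr.sb V := h.fr.p_mem (hVW hz) hz
  obtain ⟨γ, hγ⟩ := h.mem_V.1 h1
  have h2 : n • p z ∈ h.fr.sb V := by
    rw [← hγ, h.semi, ← h.pr_smul, hc, smul_smul]
    exact h.mem_V.2 ⟨_, rfl⟩
  rw [h.fr.p_act n z (hVW hz)] at h2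
  exact (h.fr.p_mem_iff (conj_mem_of_normalizer (normalizer_le_WW V (R i) n.2) (hVW hz)) (h.bt.R_le i)).1 h2

theorem line_of_NV {n : NR R i} (hn : (n : G) ∈ normalizer (V : Set G)) :
    ∃ c : F, pr (R i) n • p (v 0 1) = c • p (v 0 1) := by
  have h1 : n • p (v 0 1) ∈ h.fr.sb V := h.fr.sb_smul hn (h.mem_V.2 ⟨1, one_smul _ _⟩)
  obtain ⟨c, hc⟩ := h.mem_V.1 h1
  exact ⟨c, by rw [h.pr_smul, hc]⟩

section eig

variable [Finite G] [Finite F] {t : F → G} (τ : TorD V R i j v t) {N : Type u}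
  [AddCommGroup N] [Module F N] {P1 P2 : G → N} (y : YPair V R i j w1 w2 N P1 P2)

/-- `D̄` as a subspace -/
def D : Submodule F M where
  carrier := h.fr.sb (DD V R)
  zero_mem' := zero_mem _
  add_mem' := fun ha hb => add_mem ha hb
  smul_mem' := fun c _ hx => h.D_smul τ y hx c

theorem mem_D' (x : M) : x ∈ h.D τ y ↔ x ∈ h.fr.sb (DD V R) := Iff.rfl

theorem notU {x : M} (hx : φ x (p (v 0 1)) ≠ 0) : x ∉ h.fr.sb (UU V R i) := fun h1 => hx (h.mem_U.1 h1)

/-- **the module data** -/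
theorem bas : LemC.Bas (H0 R i) (AA V R i j) (p (v 0 1)) (h.D τ y) φ where
  normal := h.normal_H0
  A_le := ModQ.A_le_H0 h.bt j
  lin := fun g hg => h.lin_H0 hg
  semi := fun g => by
    obtain ⟨g, rfl⟩ := pr_surjective (R i) g
    exact ⟨s g, fun c hc => h.ne_zero_of_map g hc, fun c x => by rw [h.pr_smul, h.pr_smul, h.semi]⟩
  refl := fun x z e => by rw [h.phi_symm]; exact e
  nd := ⟨fun x hx => h.ext (a' := 0) fun z => by rw [hx, map_zero, LinearMap.zero_apply],
    fun x hx => h.ext (a' := 0) fun z => by rw [h.phi_symm, hx, map_zero, LinearMap.zero_apply]⟩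
  BE := fun g hg x z => h.phi_H0 hg x z
  BH := fun g x z e => by
    obtain ⟨g, rfl⟩ := pr_surjective (R i) g
    rw [h.pr_smul, h.pr_smul, h.phi_act, e, h.sg_zero]
  ne := h.e_ne
  A2 := fun a ha x hx => by
    obtain ⟨a, ha', rfl⟩ := h.exists_A ha
    rw [h.pr_smul]
    exact h.fr.A_U h.bt ha' (h.mem_U.2 hx)
  A3 := fun a ha x hx => by
    obtain ⟨a, ha', rfl⟩ := h.exists_A ha
    rw [h.pr_smul, Submodule.mem_span_singleton]
    exact h.mem_V.1 (h.fr.A_D h.bt ha' hx)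
  A4 := fun a ha => by
    obtain ⟨a, ha', rfl⟩ := h.exists_A ha
    rw [h.pr_smul]
    exact h.fr.cen_e h.bt (UU_le_cen j ha') (h.mem_V.2 ⟨1, one_smul _ _⟩)
  ker0 := fun x hx hA => by
    rw [Submodule.mem_span_singleton]
    refine h.mem_V.1 (h.fr.C_A_D h.btc h.co.ne hx fun a ha => ?_)
    have := hA (pr (R i) a) ((mem_AA h.bt).2 ⟨a, ha, rfl⟩)
    rwa [h.pr_smul] at this
  inj := fun m hm a ha hD => by
    obtain ⟨a, ha', rfl⟩ := h.exists_A ha
    rw [h.pr_smul] at hD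
    have h1 := h.fr.A_inj h.bt h.co.ne ha' (h.notU hm) hD
    exact (pr_eq_one a.2).2 ((U_inf_Q h.bt h.co.ne ha').2 h1)
  surj := fun m hm x hx => by
    obtain ⟨a, ha, hD⟩ := h.fr.A_surj h.bt h.co.ne (h.notU hm) (h.mem_U.2 hx)
    refine ⟨pr (R i) a, (mem_AA h.bt).2 ⟨a, ha, rfl⟩, ?_⟩
    rw [h.pr_smul, h.mem_D']
    have h1 := neg_mem hD
    have e : -(a • m - m - x) = x - (a • m - m) := by abel
    rwa [e] at h1
  span := fun L hL => by
    let L₀ : AddSubgroup M := AddSubgroup.closure {x | ∃ g : HQ (R i), ∃ c : F, x = c • g • p (v 0 1)}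
    have h1 : L₀ = ⊤ := by
      apply h.fr.gen
      · intro g x hx
        induction hx using AddSubgroup.closure_induction with
        | mem x hx =>
          obtain ⟨k, c, rfl⟩ := hx
          refine AddSubgroup.subset_closure ⟨pr (R i) g * k, s g c, ?_⟩
          rw [h.semi, mul_smul, h.pr_smul]
        | zero => rw [smul_zero]; exact zero_mem _
        | add x z _ _ hx hz => rw [smul_add]; exact add_mem hx hz
        | neg x _ hx => rw [smul_neg]; exact neg_mem hx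
      · intro x hx
        obtain ⟨γ, rfl⟩ := h.mem_V.1 hx
        exact AddSubgroup.subset_closure ⟨1, γ, by rw [one_smul]⟩
    have h2 : L₀ ≤ L.toAddSubgroup := by
      rw [AddSubgroup.closure_le]
      rintro _ ⟨g, c, rfl⟩
      exact L.smul_mem c (hL g)
    rw [eq_top_iff]
    intro x _
    exact h2 (h1 ▸ AddSubgroup.mem_top x)

end eig

section torus

variable [Finite G] [Finite F] {t : F → G} {τ : TorD V R i j v t} {N : Type u}
  [AddCommGroup N] [Module F N] {P1 P2 : G → N} {y : YPair V R i j w1 w2 N P1 P2} {n : N →ₗ[F] M}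
  {sf : N →ₗ[F] N →ₗ[F] M} {q : N → N →ₗ[F] F} (E : Eig h.toFMod τ y n sf q)
include E

/-- the torus on `e^⊥` -/
theorem T_perp (a : Fˣ) {x : M} (hx : φ x (p (v 0 1)) = 0) : tT τ a • x - (a : F) • x ∈ h.fr.sb (DD V R) := by
  obtain ⟨γ, d, hd, g, rfl⟩ := (E.mem_U x).1 hx
  have h1 : tT τ a • (γ • p (v 0 1) + d + n g) - (a : F) • (γ • p (v 0 1) + d + n g) =
      (γ * (a : F)⁻¹ - a * γ) • p (v 0 1) + ((1 : F) - a) • d := by
    rw [smul_add, smul_add, h.T_smul_e τ, hd a, E.n_mem g a, smul_add, smul_add, smul_smul, sub_smul, sub_smul,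
      one_smul]
    abel
  rw [h1]
  exact (E.mem_D _).2 ⟨_, _, (h.M0 τ).smul_mem _ hd, rfl⟩

/-- **the torus data of LEMMA C** -/
theorem torB : LemC.TorB (AA V R i j) (tq τ) (p (v 0 1)) (h.D τ y) φ where
  lin := fun a ha c x => by rw [tq_of τ ha, h.pr_smul, h.pr_smul, h.T_lin τ]
  e := fun a ha => by rw [tq_of τ ha, h.pr_smul, h.T_e τ]; rfl
  P := fun a ha x hx => by
    rw [tq_of τ ha, h.pr_smul]
    exact h.T_perp E (Units.mk0 a ha) hx
  D := fun a ha x hx => by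
    rw [tq_of τ ha, h.pr_smul, Submodule.mem_span_singleton]
    exact h.mem_V.1 (h.fr.X_D h.bt (h := tT τ (Units.mk0 a ha)) (τ.memX a ha) hx)
  form := fun a ha x z => by
    rw [tq_of τ ha, h.pr_smul, h.pr_smul, h.phi_T τ]; rfl
  norm := fun a ha => by
    have h1 : ∀ x ∈ TT τ, ∀ a ∈ AA V R i j, x * a * x⁻¹ ∈ AA V R i j := fun x hx a ha => TA_mem h.bt τ hx ha
    exact mem_normalizer_of_conj fun x hx => h1 _ (tq_mem τ ha) x hx

end torus

section sylow

variable [Finite G] [Finite F] {t : F → G} (τ : TorD V R i j v t) {N : Type u}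
  [AddCommGroup N] [Module F N] {P1 P2 : G → N} (y : YPair V R i j w1 w2 N P1 P2)

include y in
/-- the torus under `N(V) ∩ N(R i)` -/
theorem conj_tq {n : NR R i} (hn : (n : G) ∈ normalizer (V : Set G)) {a : F} (ha : a ≠ 0) :
    ∃ b, b ≠ 0 ∧ ∃ a' ∈ AA V R i j, pr (R i) n * tq τ a * (pr (R i) n)⁻¹ = tq τ b * a' := by
  have b := h.bt
  have c := h.co
  obtain ⟨M', _, _, p1, p2, y'⟩ := c.exists_yMod b
  obtain ⟨x, hx⟩ : ∃ x, x = (n : G) * t a * (n : G)⁻¹ := ⟨_, rfl⟩
  have hxX : x ∈ XX V R := by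
    rw [hx]
    exact conj_mem_of_normalizer (b.NV_le_NX hn) (τ.memX a ha)
  have hxR : x ∈ normalizer (R i : Set G) := by
    rw [hx]
    exact mul_mem (mul_mem n.2 (τ.normR ha)) (inv_mem n.2)
  obtain ⟨k, hk⟩ := b.perm x (b.X_le_NV hxX) j
  have hki : k ≠ i := by
    rintro rfl
    exact c.ne (b.R_index (cj_injective ((cj_eq_self_iff.2 hxR).trans hk.symm)))
  obtain ⟨w, hw, ew⟩ := b.trans i hki c.ne.symm
  have hX' : w * x ∈ XX V R := mul_mem (W_le_X V R i hw) hxX
  have hR' : w * x ∈ normalizer (R i : Set G) := mul_mem (b.W_le_N i hw) hxR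
  have hj' : w * x ∈ normalizer (R j : Set G) := by
    rw [← cj_eq_self_iff, cj_mul, hk, ew]
  obtain ⟨β, hβ, hact, -, -⟩ := SQEnd.Tor.exists_tor y' b c hX' hR' hj'
  have hY : (t β)⁻¹ * (w * x) ∈ YY V R := by
    rw [← y.cen_X_V c h.btc, mem_inf]
    refine ⟨mul_mem (inv_mem (τ.memX β hβ)) hX', ?_⟩
    rw [mem_centralizer_iff]
    intro z hz
    obtain ⟨e, f, rfl⟩ := (c.mem_V z).1 hz
    have h1 := τ.act β e f hβ
    have h2 := hact e f
    calc v e f * ((t β)⁻¹ * (w * x))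
        = (t β)⁻¹ * (t β * v e f * (t β)⁻¹) * (w * x) := by group
      _ = (t β)⁻¹ * (w * x * v e f * (w * x)⁻¹) * (w * x) := by rw [h1, h2]
      _ = (t β)⁻¹ * (w * x) * v e f := by group
  obtain ⟨u1, hu1, u2, hu2, e⟩ := b.exists_mul_Y c.ne hY
  have hu1N : u1 ∈ normalizer (R i : Set G) := b.W_le_N i (UU_le_WW i hu1)
  have hu2N : u2 ∈ normalizer (R i : Set G) := U_le_N b i j hu2
  have hwN : w ∈ normalizer (R i : Set G) := b.W_le_N i hw
  refine ⟨β, hβ, pr (R i) ⟨u2, hu2N⟩, (mem_AA b).2 ⟨u2, hu2, rfl⟩, ?_⟩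
  have e1 : pr (R i) ⟨w, hwN⟩ = 1 := (pr_eq_one hwN).2 (b.W_le_Q i hw)
  have e2 : pr (R i) ⟨u1, hu1N⟩ = 1 := (pr_eq_one hu1N).2 (b.W_le_Q i (UU_le_WW i hu1))
  have e3 : (⟨w, hwN⟩ : NR R i) * (n * ⟨t a, τ.normR ha⟩ * n⁻¹) =
      ⟨t β, τ.normR hβ⟩ * (⟨u1, hu1N⟩ * ⟨u2, hu2N⟩) := by
    apply Subtype.ext
    change w * ((n : G) * t a * (n : G)⁻¹) = t β * (u1 * u2)
    rw [← hx, ← e, mul_inv_cancel_left]
  have e4 := congrArg (pr (R i)) e3
  rw [map_mul, map_mul, map_mul, map_mul, map_mul, map_inv, e1, e2, one_mul, one_mul] at e4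
  rw [tq_eq τ ha, tq_eq τ hβ]
  exact e4

/-- `SS = S ∩ H⁰` -/
theorem SS_eq (S₁ : Sylow 2 G) (hR : (S₁ : Subgroup G) ≤ normalizer (R i : Set G)) :
    SS R i S₁ = im (R i) S₁ ⊓ H0 R i :=
  im_inf (QQ_le_sylow S₁ hR) (Q_le_C h.bt i)

/-- a 2-element of `H⁰` normalising the line of `e₀` fixes `e₀` -/
theorem fix_of_two {g : HQ (R i)} (hg : g ∈ H0 R i) {k : ℕ} (hk : g ^ 2 ^ k = 1) {c : F}
    (hc : g • p (v 0 1) = c • p (v 0 1)) : g • p (v 0 1) = p (v 0 1) := by
  have h3 : ∀ m : ℕ, g ^ m • p (v 0 1) = c ^ m • p (v 0 1) := by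
    intro m
    induction m with
    | zero => rw [pow_zero, pow_zero, one_smul, one_smul]
    | succ m ih => rw [pow_succ', mul_smul, ih, h.lin_H0 hg, hc, smul_smul, pow_succ]
  have h4 := h3 (2 ^ k)
  rw [hk, one_smul] at h4
  have h5 : c ^ 2 ^ k = 1 := by
    have h6 : (c ^ 2 ^ k - 1) • p (v 0 1) = 0 := by rw [sub_smul, one_smul, ← h4, sub_self]
    exact sub_eq_zero.1 (h.e_smul_eq_zero h6)
  have h6 : (c - 1) ^ 2 ^ k = 0 := by rw [sub_pow_char_pow, h5, one_pow, sub_self]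
  have h7 : c = 1 := sub_eq_zero.1 (pow_eq_zero_iff (by positivity) |>.1 h6)
  rw [hc, h7, one_smul]

end sylow

section tor

variable [Finite G] [Finite F] {t : F → G} {τ : TorD V R i j v t} {N : Type u}
  [AddCommGroup N] [Module F N] {P1 P2 : G → N} {y : YPair V R i j w1 w2 N P1 P2} {n : N →ₗ[F] M}
  {sf : N →ₗ[F] N →ₗ[F] M} {q : N → N →ₗ[F] F} (E : Eig h.toFMod τ y n sf q)
include E

/-- **the torus data of THEOREM D** -/
theorem tor (S₁ : Sylow 2 G) (hV : (S₁ : Subgroup G) ≤ normalizer (V : Set G))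
    (hR : (S₁ : Subgroup G) ≤ normalizer (R i : Set G)) {S : Sylow 2 (HQ (R i))}
    (hS : (S : Subgroup (HQ (R i))) = im (R i) S₁) {K : Subgroup (HQ (R i))} (hK : K.Normal) (hK0 : K ≤ H0 R i) :
    ThmD.Tor (S : Subgroup (HQ (R i))) K (AA V R i j) (tq τ) (p (v 0 1)) (h.D τ y) φ := by
  have hSK : ((S : Subgroup (HQ (R i))) ⊓ K) = SS R i S₁ ⊓ K := by
    rw [h.SS_eq S₁ hR, hS, inf_assoc, inf_eq_right.2 hK0]
  have B := h.torB E
  have hline : ∀ s ∈ (S : Subgroup (HQ (R i))), ∃ c : F, s • p (v 0 1) = c • p (v 0 1) := by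
    intro s hs
    rw [hS] at hs
    obtain ⟨g, hg, hgS, rfl⟩ := mem_im.1 hs
    exact h.line_of_NV (n := ⟨g, hg⟩) (hV hgS)
  exact
    { lin := B.lin
      norm := fun a ha => by
        rw [hSK]
        refine mem_normalizer_of_conj fun x hx => ?_
        exact mem_inf.2 ⟨TS_mem h.bt τ (CrdOf.crd h.co) S₁ hV hR (tq_mem τ ha) hx.1, hK.conj_mem x hx.2 _⟩
      e := B.e
      P := B.P
      comm := fun a b ha hb => T_comm τ (tq_mem τ ha) (tq_mem τ hb)
      N := fun g hg a ha => by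
        obtain ⟨g, rfl⟩ := pr_surjective (R i) g
        obtain ⟨c, hc⟩ := hg
        exact h.conj_tq τ y (h.mem_NV hc) ha
      Se := hline
      SEe := fun s hs => by
        obtain ⟨c, hc⟩ := hline s hs.1
        obtain ⟨k, hk⟩ := S.isPGroup' ⟨s, hs.1⟩
        exact h.fix_of_two (hK0 hs.2) (congrArg Subtype.val hk) hc
      AS := by
        refine (A_le_S h.bt S₁ i j hV).trans ?_
        rw [h.SS_eq S₁ hR, hS]
        exact inf_le_left }

end tor

section lay

variable [Finite G] [Finite F] {t : F → G} {τ : TorD V R i j v t} {N : Type u}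
  [AddCommGroup N] [Module F N] {P1 P2 : G → N} {y : YPair V R i j w1 w2 N P1 P2} {n : N →ₗ[F] M}
  {sf : N →ₗ[F] N →ₗ[F] M} {q : N → N →ₗ[F] F} (E : Eig h.toFMod τ y n sf q)
  (S₁ : Sylow 2 G) (hV : (S₁ : Subgroup G) ≤ normalizer (V : Set G))
  (hR : (S₁ : Subgroup G) ≤ normalizer (R i : Set G))
include E hV hR

/-- **LEMMA C** for components: a component `K ≤ H⁰` of even order centralised by `A ≠ 1` fixes `e₀` -/
theorem fix_comp (hA1 : ∃ a ∈ AA V R i j, a ≠ 1) {K : Subgroup (HQ (R i))} (hK : IsComponent K)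
    (hK0 : K ≤ H0 R i) (h2 : 2 ∣ Nat.card K) (hc : ∀ k ∈ K, ∀ a ∈ AA V R i j, a * k = k * a) :
    ∀ k ∈ K, k • p (v 0 1) = p (v 0 1) := by
  have b := h.bt
  have C := CrdOf.crd h.co
  refine (h.bas τ y).fixes (h.torB E) h.four hK0 hc hA1 (S' := SS R i S₁ ⊓ K) inf_le_right
    ((S_isPGroup S₁).to_le inf_le_left) ?_ ?_
  · intro a ha x hx
    exact ST_mem b τ C S₁ h.co.ne hV hR (tq_mem τ ha) hx.1
  · intro L hLK hL hSL
    have hn : (L.subgroupOf K).Normal := by
      refine ⟨fun x hx g => ?_⟩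
      exact mem_subgroupOf.2 (hL g g.2 x (mem_subgroupOf.1 hx))
    rcases SignalizersComponents.Components.quasisimple_normal hK.2 _ hn with h1 | h1
    · intro x hx
      have h2 : (⟨x, hx⟩ : K) ∈ L.subgroupOf K := by rw [h1]; trivial
      exact mem_subgroupOf.1 h2
    · exfalso
      apply S_inf_ne_bot b τ C S₁ hR hK hK0 h2
      rw [eq_bot_iff]
      intro x hx
      rw [mem_bot]
      refine S_inf_cen b τ C S₁ hK hx fun z hz => ?_
      have h3 : (⟨x, hx.2⟩ : K) ∈ center K := h1 (mem_subgroupOf.2 (hSL hx))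
      exact (congrArg Subtype.val (mem_center_iff.1 h3 ⟨z, hz⟩)).symm

/-- **(L8)**: the moved components are permuted by `H` -/
theorem mcomp_conj (l : Lay V R i j (TT τ) (SS R i S₁)) (g : HQ (R i)) {K : Subgroup (HQ (R i))}
    (hK : MComp V R i j K) : MComp V R i j (K.map (MulAut.conj g).toMonoidHom) := by
  have b := h.bt
  have hne : ∀ K : Subgroup (HQ (R i)), MComp V R i j K → ∃ a ∈ AA V R i j, a ∈ K ∧ a ≠ 1 := by
    intro K hK
    obtain ⟨x, hx⟩ := ne_bot_iff_exists_ne_one.1 ((l.hyp K hK).inf_ne_bot hK.2.2)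
    exact ⟨x, x.2.1, x.2.2, fun h0 => hx (Subtype.ext h0)⟩
  have hself : ∀ (g : HQ (R i)) (K : Subgroup (HQ (R i))), (∀ x ∈ K, g * x * g⁻¹ ∈ K) →
      (∀ x ∈ K, g⁻¹ * x * g ∈ K) → K.map (MulAut.conj g).toMonoidHom = K := by
    intro g K h1 h2
    apply le_antisymm
    · rintro _ ⟨x, hx, rfl⟩
      exact h1 x hx
    · intro x hx
      refine ⟨g⁻¹ * x * g, h2 x hx, ?_⟩
      change g * (g⁻¹ * x * g) * g⁻¹ = x
      group
  refine (h.bas τ y).stable (h.torB E) h.four (Λ := {K | MComp V R i j K}) hne ?_ ?_ ?_ g K hK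
  · intro g K hK
    have hc : IsComponent (K.map (MulAut.conj g).toMonoidHom) :=
      SignalizersComponents.Components.isComponent_conj g hK.1
    have h0 : K.map (MulAut.conj g).toMonoidHom ≤ H0 R i := by
      rintro _ ⟨x, hx, rfl⟩
      exact h.normal_H0.conj_mem x (hK.2.1 hx) g
    by_cases hm : ∃ a ∈ AA V R i j, ∃ k ∈ K.map (MulAut.conj g).toMonoidHom, a * k ≠ k * a
    · exact Or.inl ⟨hc, h0, hm⟩
    · right
      push Not at hm
      obtain ⟨a, ha, haK, ha1⟩ := hne K hK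
      have h2 : 2 ∣ Nat.card K := by
        have h3 : orderOf (⟨a, haK⟩ : K) = 2 := by
          refine orderOf_eq_prime ?_ fun h4 => ha1 (congrArg Subtype.val h4)
          rw [pow_two]
          exact Subtype.ext (A_sq b h.co.ne ha)
        have h4 := orderOf_dvd_natCard (⟨a, haK⟩ : K)
        rwa [h3] at h4
      have h3 : Nat.card (K.map (MulAut.conj g).toMonoidHom) = Nat.card K :=
        Nat.card_congr (K.equivMapOfInjective _ (MulAut.conj g).injective).symm.toEquiv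
      intro k hk
      exact h.fix_comp E S₁ hV hR ⟨a, ha, ha1⟩ hc h0 (h3 ▸ h2) (fun k hk a ha => hm a ha k hk) _
        ⟨k, hk, rfl⟩
  · intro a ha K hK
    have h1 := (l.hyp K hK).AK
    have h2 : K.map (MulAut.conj a).toMonoidHom = K :=
      hself a K (h1 a ha) fun x hx => by
        have := h1 a⁻¹ (inv_mem ha) x hx
        rwa [inv_inv] at this
    rw [h2]
    exact hK
  · intro a ha K hK
    have h1 := (l.hyp K hK).TK
    have ht := tq_mem τ ha
    refine ⟨?_, ?_⟩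
    · rw [hself (tq τ a) K (h1 _ ht) fun x hx => by
        have := h1 _ (inv_mem ht) x hx
        rwa [inv_inv] at this]
      exact hK
    · rw [hself (tq τ a)⁻¹ K (h1 _ (inv_mem ht)) fun x hx => by
        rw [inv_inv]
        exact h1 _ ht x hx]
      exact hK

omit E in
omit h hV hR in
/-- `1 ≠ A ∩ K` for the moved components -/
theorem _root_.Cfsg.Agent.Omega.Lie.BasOf.exists_inf {T S : Subgroup (HQ (R i))} (l : Lay V R i j T S) {K : Subgroup (HQ (R i))}
    (hK : MComp V R i j K) : ∃ a ∈ AA V R i j, a ∈ K ∧ a ≠ 1 := by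
  obtain ⟨x, hx⟩ := ne_bot_iff_exists_ne_one.1 ((l.hyp K hK).inf_ne_bot hK.2.2)
  exact ⟨x, x.2.1, x.2.2, fun h0 => hx (Subtype.ext h0)⟩

/-- **(L8)**: the product `E` of the moved components is normal -/
theorem normal_EE (l : Lay V R i j (TT τ) (SS R i S₁)) :
    (⨆ K ∈ {K : Subgroup (HQ (R i)) | MComp V R i j K}, K).Normal := by
  refine ⟨fun x hx g => ?_⟩
  have h1 : (⨆ K ∈ {K : Subgroup (HQ (R i)) | MComp V R i j K}, K) ≤
      (⨆ K ∈ {K : Subgroup (HQ (R i)) | MComp V R i j K}, K).comap (MulAut.conj g).toMonoidHom := by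
    refine iSup₂_le fun K hK => ?_
    rw [← map_le_iff_le_comap]
    exact le_iSup₂ (f := fun (K : Subgroup (HQ (R i))) (_ : K ∈ {K : Subgroup (HQ (R i)) | MComp V R i j K}) => K)
      _ (h.mcomp_conj E S₁ hV hR l g hK)
  exact h1 hx

end lay

section thmD

variable [Finite G] [Finite F] {t : F → G} {τ : TorD V R i j v t} {N : Type u}
  [AddCommGroup N] [Module F N] {P1 P2 : G → N} {y : YPair V R i j w1 w2 N P1 P2} {n : N →ₗ[F] M}
  {sf : N →ₗ[F] N →ₗ[F] M} {q : N → N →ₗ[F] F} (E : Eig h.toFMod τ y n sf q)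
  (S₁ : Sylow 2 G) (hV : (S₁ : Subgroup G) ≤ normalizer (V : Set G))
  (hR : (S₁ : Subgroup G) ≤ normalizer (R i : Set G)) (l : Lay V R i j (TT τ) (SS R i S₁))
include E hV hR l

/-- the data of THEOREM D -/
theorem dat (hA1 : ∃ a ∈ AA V R i j, a ≠ 1) :
    ThmD.Dat (⨆ K ∈ {K : Subgroup (HQ (R i)) | MComp V R i j K}, K) (AA V R i j) (p (v 0 1)) (h.D τ y) φ := by
  refine (h.bas τ y).dat (h.normal_EE E S₁ hV hR l) (iSup₂_le fun K hK => hK.2.1) ?_ hA1 ?_
  · exact (l.A_le h.bt h.co.ne).trans (iSup₂_mono fun K _ => inf_le_right)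
  · intro L hAL hL
    refine iSup₂_le fun K hK => ?_
    have hKE : K ≤ ⨆ K ∈ {K : Subgroup (HQ (R i)) | MComp V R i j K}, K :=
      le_iSup₂ (f := fun (K : Subgroup (HQ (R i))) (_ : K ∈ {K : Subgroup (HQ (R i)) | MComp V R i j K}) => K) K hK
    have hn : ((L ⊓ K).subgroupOf K).Normal := by
      refine ⟨fun x hx g => ?_⟩
      exact mem_subgroupOf.2 ⟨hL g (hKE g.2) x (mem_subgroupOf.1 hx).1, K.mul_mem (K.mul_mem g.2 x.2) (K.inv_mem g.2)⟩
    rcases SignalizersComponents.Components.quasisimple_normal hK.1.2 _ hn with h1 | h1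
    · intro x hx
      have h2 : (⟨x, hx⟩ : K) ∈ (L ⊓ K).subgroupOf K := by rw [h1]; trivial
      exact (mem_subgroupOf.1 h2).1
    · exfalso
      obtain ⟨a, ha, haK, ha1⟩ := exists_inf l hK
      apply ha1
      refine center_eq_one (pCore_HQ (R i)) hK.1 haK (fun z hz => ?_) (A_sq h.bt h.co.ne ha)
      have h2 : (⟨a, haK⟩ : K) ∈ center K := h1 (mem_subgroupOf.2 ⟨hAL ha, haK⟩)
      exact (congrArg Subtype.val (mem_center_iff.1 h2 ⟨z, hz⟩)).symm

omit E hV hR l in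
theorem finite_M : Finite M :=
  Finite.of_surjective (fun x : WW V (R i) => p x) fun a => by
    obtain ⟨x, hx, rfl⟩ := h.fr.p_surj a
    exact ⟨⟨x, hx⟩, rfl⟩

/-- **THEOREM D** for the real module: LEMMA CEN ⇒ `C_M(S_E) = e`, `M = ⟨e^E⟩`, `N(S_E) ≤ N(e)`, `H = E N(e)` -/
theorem thmD (hA1 : ∃ a ∈ AA V R i j, a ≠ 1)
    (hc : ThmD.Cen F (SS R i S₁ ⊓ ⨆ K ∈ {K : Subgroup (HQ (R i)) | MComp V R i j K}, K)
      (ThmD.sp F (⨆ K ∈ {K : Subgroup (HQ (R i)) | MComp V R i j K}, K) (p (v 0 1)))) :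
    ThmD.sp F (⨆ K ∈ {K : Subgroup (HQ (R i)) | MComp V R i j K}, K) (p (v 0 1)) = ⊤ ∧
      (∀ x : M, (∀ s ∈ SS R i S₁ ⊓ ⨆ K ∈ {K : Subgroup (HQ (R i)) | MComp V R i j K}, K, s • x = x) →
        ∃ c : F, x = c • p (v 0 1)) ∧
      (∀ n ∈ normalizer ((SS R i S₁ ⊓ ⨆ K ∈ {K : Subgroup (HQ (R i)) | MComp V R i j K}, K :
        Subgroup (HQ (R i))) : Set (HQ (R i))), ∃ c : F, n • p (v 0 1) = c • p (v 0 1)) ∧
      ∀ g : HQ (R i), ∃ e ∈ (⨆ K ∈ {K : Subgroup (HQ (R i)) | MComp V R i j K}, K), ∃ n,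
        n ∈ normalizer ((SS R i S₁ ⊓ ⨆ K ∈ {K : Subgroup (HQ (R i)) | MComp V R i j K}, K :
          Subgroup (HQ (R i))) : Set (HQ (R i))) ∧ (∃ c : F, n • p (v 0 1) = c • p (v 0 1)) ∧ g = e * n := by
  have hM := h.finite_M
  obtain ⟨S, hS⟩ := exists_sylow S₁ hR
  have hE0 : (⨆ K ∈ {K : Subgroup (HQ (R i)) | MComp V R i j K}, K) ≤ H0 R i := iSup₂_le fun K hK => hK.2.1
  have hSE : ((S : Subgroup (HQ (R i))) ⊓ ⨆ K ∈ {K : Subgroup (HQ (R i)) | MComp V R i j K}, K) =
      SS R i S₁ ⊓ ⨆ K ∈ {K : Subgroup (HQ (R i)) | MComp V R i j K}, K := by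
    rw [h.SS_eq S₁ hR, hS, inf_assoc, inf_eq_right.2 hE0]
  rw [← hSE] at hc ⊢
  exact ThmD.main S (h.dat E S₁ hV hR l hA1)
    (h.tor E S₁ hV hR hS (h.normal_EE E S₁ hV hR l) hE0) h.four hc

/-- **`C_M(S₁ ∩ C(R)) = e`** from LEMMA CEN -/
theorem cenSE (hA1 : ∃ a ∈ AA V R i j, a ≠ 1)
    (hc : ThmD.Cen F (SS R i S₁ ⊓ ⨆ K ∈ {K : Subgroup (HQ (R i)) | MComp V R i j K}, K)
      (ThmD.sp F (⨆ K ∈ {K : Subgroup (HQ (R i)) | MComp V R i j K}, K) (p (v 0 1)))) {x : G}
    (hx : x ∈ WW V (R i))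
    (hs : ∀ s ∈ (S₁ : Subgroup G), s ∈ centralizer (R i : Set G) → s * x * s⁻¹ * x⁻¹ ∈ R i) : x ∈ V := by
  obtain ⟨-, h1, -, -⟩ := h.thmD E S₁ hV hR l hA1 hc
  obtain ⟨c, hc⟩ := h1 (p x) fun s hs' => by
    obtain ⟨g, hg, hgS, rfl⟩ := mem_im.1 hs'.1
    rw [h.pr_smul, h.fr.p_act _ x hx]
    exact (h.fr.p_eq_iff (conj_mem_of_normalizer (normalizer_le_WW V (R i) hg) hx) hx).2 (hs g hgS.1 hgS.2)
  have h2 : p x ∈ h.fr.sb V := h.mem_V.2 ⟨c, hc.symm⟩
  exact (h.fr.p_mem_iff hx (h.bt.R_le i)).1 h2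

end thmD

end FQ

/-- **(L8)** from the structures: the product of the moved components is normal in `H` -/
theorem normal_of_lay {G : Type u} [Group G] [Finite G] {ι : Type w} {V : Subgroup G} {R : ι → Subgroup G} {i j : ι}
    {F : Type v} [Field F] [Finite F] [CharP F 2] {v : F → F → G} {w1 w2 : F → G} {t : F → G} (b : BTC V R)
    (c : Coord V R i j v w1 w2) (τ : TorD V R i j v t) (hF : ∃ a : F, a ≠ 0 ∧ a ≠ 1)
    (hC : centralizer (WW V (R i) : Set G) ≤ R i) (S₁ : Sylow 2 G)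
    (hV : (S₁ : Subgroup G) ≤ normalizer (V : Set G)) (hR : (S₁ : Subgroup G) ≤ normalizer (R i : Set G))
    (l : Lay V R i j (TT τ) (SS R i S₁)) :
    (⨆ K ∈ {K : Subgroup (HQ (R i)) | MComp V R i j K}, K).Normal := by
  obtain ⟨M, B, _, _, _, _, _, p, r, f, φ, s, hM⟩ := b.exists_fMod c hF hC
  obtain ⟨N, _, _, P1, P2, y⟩ := c.exists_yPair b.toBT
  obtain ⟨n, sf, q, E⟩ := hM.exists_eig τ y
  obtain ⟨_, h⟩ := exists_FQ hM
  exact h.normal_EE (E : Eig h.toFMod τ y n sf q) S₁ hV hR l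

end Cfsg.Agent.Omega.Lie.BasOf

end

section


/-!
# NODE LIE, LEMMA CEN (#14596): `C_M(S_E) = e`

Abstract: a group `H` acts on an additive group `M`, `e ≤ M`, `cl P e = ⟨e^P⟩`.

* `Rk e Sm X Xm Sr` (one rank one group `⟨X, Xm⟩`): `Sm = Sr Xm`, `X` normalises `Sr` and `⟨e^Xm⟩`;
  `Rk.of_fix` (`X`, `Xm` fix `e`), `Rk.of_quad` (`(1+a)(1+b) M ≤ e` for some `a ≠ b` in `X`, rank one Bruhat
  relations);
* `cl_inv`: `⟨e^Sm⟩` is invariant under all `X`'s, so `⟨e^E⟩ = ⟨e^Sm⟩` for `E = ⟨Sm, X's⟩`;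
* `cen_inj`, `cen_eq`: if `M = ⟨e^Sm⟩` and the form is nondegenerate, then `C_M(Sm) ∩ e^⊥ = 0` and
  `C_M(S) = e` for a conjugate `S` of `Sm` fixing `e`.
-/

set_option autoImplicit false
set_option linter.unusedSectionVars false

namespace Cfsg.Agent.Omega.Lie.SE

open Subgroup Cfsg.Agent.Omega.BTwo Cfsg.Agent.Omega.Lie.Quot Cfsg.Agent.Omega.Lie.LemN
open scoped Pointwise

universe u v w

section abs

variable {H : Type v} {M : Type u} [Group H] [AddCommGroup M] [DistribMulAction H M]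

/-- `⟨e^P⟩` -/
def cl (P : Subgroup H) (e : AddSubgroup M) : AddSubgroup M := ⨆ g : P, (g : H) • e

theorem smul_le_cl {P : Subgroup H} {e : AddSubgroup M} {g : H} (hg : g ∈ P) : g • e ≤ cl P e :=
  le_iSup (fun g : P => (g : H) • e) ⟨g, hg⟩

theorem le_cl (P : Subgroup H) (e : AddSubgroup M) : e ≤ cl P e := by
  have := smul_le_cl (e := e) (one_mem P)
  rwa [one_smul] at this

theorem cl_le {P : Subgroup H} {e Y : AddSubgroup M} (h : ∀ g ∈ P, g • e ≤ Y) : cl P e ≤ Y :=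
  iSup_le fun g => h g g.2

theorem smul_mono {h : H} {X Y : AddSubgroup M} (hXY : X ≤ Y) : h • X ≤ h • Y :=
  AddSubgroup.pointwise_smul_le_pointwise_smul_iff.2 hXY

theorem smul_le_iff {h : H} {X Y : AddSubgroup M} : h • X ≤ Y ↔ X ≤ h⁻¹ • Y := by
  constructor
  · intro hX x hx
    have := hX (AddSubgroup.smul_mem_pointwise_smul x h X hx)
    have h2 := AddSubgroup.smul_mem_pointwise_smul _ h⁻¹ Y this
    rwa [inv_smul_smul] at h2
  · rintro hX _ ⟨x, hx, rfl⟩
    have h2 := AddSubgroup.smul_mem_pointwise_smul _ h _ (hX hx)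
    rw [smul_inv_smul] at h2
    exact h2

theorem smul_iSup_le {ι : Type*} {h : H} {X : ι → AddSubgroup M} {Y : AddSubgroup M} (hX : ∀ i, h • X i ≤ Y) :
    h • (⨆ i, X i) ≤ Y := by
  rw [smul_le_iff]
  exact iSup_le fun i => smul_le_iff.1 (hX i)

theorem smul_cl_le {P : Subgroup H} {e Y : AddSubgroup M} {h : H} (hh : ∀ g ∈ P, h • g • e ≤ Y) :
    h • cl P e ≤ Y := smul_iSup_le fun g => hh g g.2

theorem cl_mono {P Q : Subgroup H} (e : AddSubgroup M) (h : P ≤ Q) : cl P e ≤ cl Q e :=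
  cl_le fun _ hg => smul_le_cl (h hg)

theorem smul_cl_self {P : Subgroup H} {e : AddSubgroup M} {h : H} (hh : h ∈ P) : h • cl P e ≤ cl P e :=
  smul_cl_le fun g hg => by rw [smul_smul]; exact smul_le_cl (mul_mem hh hg)

/-- one rank one group `⟨X, Xm⟩`, with `Sm = Sr Xm` -/
structure Rk (e : AddSubgroup M) (Sm X Xm Sr : Subgroup H) : Prop where
  Xm_le : Xm ≤ Sm
  Sr_le : Sr ≤ Sm
  fact : ∀ g ∈ Sm, ∃ s ∈ Sr, ∃ x ∈ Xm, g = s * x
  norm : ∀ a ∈ X, ∀ s ∈ Sr, a * s * a⁻¹ ∈ Sr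
  inv : ∀ a ∈ X, a • cl Xm e ≤ cl Xm e

variable {e : AddSubgroup M} {Sm X Xm Sr : Subgroup H}

/-- `⟨e^Sm⟩` is invariant under `X` -/
theorem Rk.smul_le (r : Rk e Sm X Xm Sr) {a : H} (ha : a ∈ X) : a • cl Sm e ≤ cl Sm e := by
  refine smul_cl_le fun g hg => ?_
  obtain ⟨s, hs, x, hx, rfl⟩ := r.fact g hg
  have e1 : a • (s * x) • e = (a * s * a⁻¹) • (a • (x • e)) := by
    rw [smul_smul, smul_smul, smul_smul]
    congr 1
    group
  rw [e1]
  have h1 : a • (x • e) ≤ cl Xm e := (smul_mono (smul_le_cl hx)).trans (r.inv a ha)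
  refine (smul_mono h1).trans (smul_cl_le fun y hy => ?_)
  rw [smul_smul]
  exact smul_le_cl (mul_mem (r.Sr_le (r.norm a ha s hs)) (r.Xm_le hy))

/-- the case where the rank one group fixes `e` -/
theorem inv_of_fix (hX : ∀ a ∈ X, a • e = e) (hXm : ∀ a ∈ Xm, a • e = e) : ∀ a ∈ X, a • cl Xm e ≤ cl Xm e := by
  intro a ha
  refine smul_cl_le fun g hg => ?_
  rw [hXm g hg, hX a ha]
  exact le_cl _ _

/-- the case where the rank one group acts with `(1 + a)(1 + b) M ≤ e` -/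
theorem inv_of_quad {n : H} (hX : ∀ a ∈ X, a • e = e)
    (h1 : ∀ a ∈ X, a ≠ 1 → ∃ x ∈ Xm, a • n • e = x • e)
    (h2 : ∀ x ∈ Xm, x ≠ 1 → ∃ a ∈ X, x • e = a • n • e)
    {a b : H} (ha : a ∈ X) (hb : b ∈ X) (ha1 : a ≠ 1) (hb1 : b ≠ 1) (hab : a * b ≠ 1)
    (hq : ∀ m : M, m + a • m + b • m + (a * b) • m ∈ e) : ∀ c ∈ X, c • cl Xm e ≤ cl Xm e := by
  have h3 : ∀ c ∈ X, c ≠ 1 → c • n • e ≤ cl Xm e := by
    intro c hc hc1
    obtain ⟨x, hx, e1⟩ := h1 c hc hc1
    rw [e1]
    exact smul_le_cl hx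
  have h4 : n • e ≤ cl Xm e := by
    intro y hy
    have k1 := h3 a ha ha1 (AddSubgroup.smul_mem_pointwise_smul y a _ hy)
    have k2 := h3 b hb hb1 (AddSubgroup.smul_mem_pointwise_smul y b _ hy)
    have k3 := h3 (a * b) (mul_mem ha hb) hab (AddSubgroup.smul_mem_pointwise_smul y (a * b) _ hy)
    have k4 := le_cl Xm e (hq y)
    have e1 : y = (y + a • y + b • y + (a * b) • y) - a • y - b • y - (a * b) • y := by abel
    rw [e1]
    exact sub_mem (sub_mem (sub_mem k4 k1) k2) k3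
  intro c hc
  refine smul_cl_le fun x hx => ?_
  by_cases hx1 : x = 1
  · rw [hx1, one_smul, hX c hc]
    exact le_cl _ _
  · obtain ⟨d, hd, e1⟩ := h2 x hx hx1
    rw [e1, smul_smul]
    by_cases hcd : c * d = 1
    · rw [hcd, one_smul]; exact h4
    · exact h3 _ (mul_mem hc hd) hcd

/-- **(C1)** `⟨e^Sm⟩` is invariant under the group generated by `Sm` and the `X i` -/
theorem cl_inv {I : Type*} {X Xm Sr : I → Subgroup H} (r : ∀ i, Rk e Sm (X i) (Xm i) (Sr i)) {E : Subgroup H}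
    (hE : E ≤ Sm ⊔ ⨆ i, X i) : ∀ h ∈ E, h • cl Sm e ≤ cl Sm e := by
  -- `h • Y ≤ Y` and `h⁻¹ • Y ≤ Y`
  let N : Subgroup H :=
    { carrier := {h | h • cl Sm e = cl Sm e}
      one_mem' := one_smul _ _
      mul_mem' := by
        intro a b ha hb
        change (a * b) • cl Sm e = cl Sm e
        rw [mul_smul, show b • cl Sm e = cl Sm e from hb]
        exact ha
      inv_mem' := by
        intro a ha
        change a⁻¹ • cl Sm e = cl Sm e
        rw [inv_smul_eq_iff]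
        exact (show a • cl Sm e = cl Sm e from ha).symm }
  have key : ∀ {P : Subgroup H}, (∀ h ∈ P, h • cl Sm e ≤ cl Sm e) → P ≤ N := by
    intro P hP h hh
    refine le_antisymm (hP h hh) ?_
    have := hP h⁻¹ (inv_mem hh)
    rwa [smul_le_iff, inv_inv] at this
  have h1 : E ≤ N := hE.trans (sup_le (key fun h hh => smul_cl_self hh)
    (iSup_le fun i => key fun h hh => (r i).smul_le hh))
  exact fun h hh => (show h • cl Sm e = cl Sm e from h1 hh).le

/-- **(C1)** `⟨e^E⟩ ≤ ⟨e^Sm⟩` -/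
theorem cl_E_le {I : Type*} {X Xm Sr : I → Subgroup H} (r : ∀ i, Rk e Sm (X i) (Xm i) (Sr i)) {E : Subgroup H}
    (hE : E ≤ Sm ⊔ ⨆ i, X i) : cl E e ≤ cl Sm e :=
  cl_le fun h hh => (smul_mono (le_cl Sm e)).trans (cl_inv r hE h hh)

variable {B : Type*} [AddCommGroup B] {f : M →+ M →+ B}

/-- **(C2)** if `M = ⟨e^Sm⟩`, a vector fixed by `Sm` and perpendicular to `e` is 0 -/
theorem cen_inj (hf : ∀ h ∈ Sm, ∀ x y : M, f (h • x) (h • y) = f x y) (hnd : ∀ x, (∀ y, f x y = 0) → x = 0)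
    (hM : cl Sm e = ⊤) {x : M} (hx : ∀ h ∈ Sm, h • x = x) (he : ∀ y ∈ e, f x y = 0) : x = 0 := by
  apply hnd
  have h1 : cl Sm e ≤ (f x).ker := by
    refine cl_le fun g hg => ?_
    rintro _ ⟨y, hy, rfl⟩
    change f x (g • y) = 0
    have h2 := hf g hg x y
    rw [hx g hg] at h2
    rw [h2]
    exact he y hy
  intro y
  exact h1 (hM ▸ AddSubgroup.mem_top y)

/-- the fixed points -/
def fix (P : Subgroup H) : AddSubgroup M where
  carrier := {x | ∀ h ∈ P, h • x = x}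
  zero_mem' := fun h _ => smul_zero h
  add_mem' := by
    intro x y hx hy h hh
    rw [smul_add, hx h hh, hy h hh]
  neg_mem' := by
    intro x hx h hh
    rw [smul_neg, hx h hh]

theorem mem_fix {P : Subgroup H} {x : M} : x ∈ (fix P : AddSubgroup M) ↔ ∀ h ∈ P, h • x = x := Iff.rfl

theorem card_fix_conj {P : Subgroup H} (g : H) :
    Nat.card (fix (M := M) (P.map (MulAut.conj g).toMonoidHom)) = Nat.card (fix (M := M) P) := by
  symm
  refine Nat.card_congr ⟨fun x => ⟨g • x, ?_⟩, fun x => ⟨g⁻¹ • x, ?_⟩, fun x => ?_, fun x => ?_⟩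
  · rintro _ ⟨h, hh, rfl⟩
    change (g * h * g⁻¹) • g • (x : M) = g • (x : M)
    rw [smul_smul, inv_mul_cancel_right, mul_smul, x.2 h hh]
  · intro h hh
    have := x.2 (g * h * g⁻¹) ⟨h, hh, rfl⟩
    rw [mul_smul, mul_smul, ← eq_inv_smul_iff] at this
    exact this
  · apply Subtype.ext
    change g⁻¹ • g • (x : M) = x
    rw [inv_smul_smul]
  · apply Subtype.ext
    change g • g⁻¹ • (x : M) = x
    rw [smul_inv_smul]

/-- **LEMMA CEN**: `C_M(S) = e` for a conjugate `S` of `Sm` which fixes `e` -/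
theorem cen_eq [Finite M] (hf : ∀ h ∈ Sm, ∀ x y : M, f (h • x) (h • y) = f x y)
    (hnd : ∀ x, (∀ y, f x y = 0) → x = 0) (hM : cl Sm e = ⊤) {U : AddSubgroup M}
    (hU : ∀ x, x ∈ U ↔ ∀ y ∈ e, f x y = 0) (hidx : U.index ≤ Nat.card e) {g : H}
    (hS : ∀ h ∈ Sm.map (MulAut.conj g).toMonoidHom, ∀ y ∈ e, h • y = y) {x : M}
    (hx : ∀ h ∈ Sm.map (MulAut.conj g).toMonoidHom, h • x = x) : x ∈ e := by
  have hbot : (fix Sm : AddSubgroup M) ⊓ U = ⊥ := by
    rw [eq_bot_iff]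
    rintro y ⟨hy, hy'⟩
    exact AddSubgroup.mem_bot.2 (cen_inj hf hnd hM hy ((hU y).1 hy'))
  have h1 : Nat.card (fix (M := M) Sm) ≤ U.index := by
    have h2 : Function.Injective (fun y : fix (M := M) Sm => (QuotientAddGroup.mk (y : M) : M ⧸ U)) := by
      intro y z hyz
      have h3 : -(y : M) + z ∈ U := QuotientAddGroup.eq.1 hyz
      have h4 : -(y : M) + z ∈ (fix Sm : AddSubgroup M) ⊓ U := ⟨AddSubgroup.add_mem _ (AddSubgroup.neg_mem _ y.2) z.2, h3⟩
      rw [hbot, AddSubgroup.mem_bot, neg_add_eq_zero] at h4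
      exact Subtype.ext h4
    exact Nat.card_le_card_of_injective _ h2
  have h5 : e ≤ fix (M := M) (Sm.map (MulAut.conj g).toMonoidHom) := fun y hy h hh => hS h hh y hy
  have h6 : Nat.card (fix (M := M) (Sm.map (MulAut.conj g).toMonoidHom)) ≤ Nat.card e := by
    rw [card_fix_conj]
    exact h1.trans hidx
  have h7 : e = fix (M := M) (Sm.map (MulAut.conj g).toMonoidHom) :=
    by
    refine le_antisymm h5 ?_
    intro y hy
    by_contra hne
    have h8 : (e : Set M) ⊂ (fix (M := M) (Sm.map (MulAut.conj g).toMonoidHom) : Set M) :=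
      ⟨h5, fun hle => hne (hle hy)⟩
    have h9 := Set.ncard_lt_ncard h8 (Set.toFinite _)
    exact absurd h6 (not_le.2 h9)
  rw [h7]
  exact hx

/-! ### Rank one data in the group -/

/-- group theoretic data of a rank one group `⟨X, Xm⟩`: `N` is the stabiliser of `e`, `A`, `T` as in NODE LIE.
Either `X`, `Xm` fix `e`, or `X ≤ A` is moved by `T` and the rank one Bruhat relations hold (`n e = e'`). -/
structure RkG (N A T Sm X Xm Sr : Subgroup H) : Prop where
  Xm_le : Xm ≤ Sm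
  Sr_le : Sr ≤ Sm
  fact : ∀ g ∈ Sm, ∃ s ∈ Sr, ∃ x ∈ Xm, g = s * x
  norm : ∀ a ∈ X, ∀ s ∈ Sr, a * s * a⁻¹ ∈ Sr
  X_le : X ≤ N
  alt : Xm ≤ N ∨ (X ≤ A ∧ (∃ a ∈ X, ∃ t ∈ T, t * a * t⁻¹ ∈ X ∧ a ≠ 1 ∧ a * (t * a * t⁻¹) ≠ 1) ∧
    ∃ n : H, (∀ a ∈ X, a ≠ 1 → ∃ x ∈ Xm, x⁻¹ * a * n ∈ N) ∧ (∀ x ∈ Xm, x ≠ 1 → ∃ a ∈ X, x⁻¹ * a * n ∈ N))

theorem RkG.rk {N A T Sm X Xm Sr : Subgroup H} (r : RkG N A T Sm X Xm Sr) (hN : ∀ h ∈ N, h • e = e)
    (hq : ∀ a ∈ A, ∀ t ∈ T, ∀ m : M, m + a • m + (t * a * t⁻¹) • m + (a * (t * a * t⁻¹)) • m ∈ e) :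
    Rk e Sm X Xm Sr where
  Xm_le := r.Xm_le
  Sr_le := r.Sr_le
  fact := r.fact
  norm := r.norm
  inv := by
    have hX : ∀ a ∈ X, a • e = e := fun a ha => hN a (r.X_le ha)
    have key : ∀ {a x n : H}, x⁻¹ * a * n ∈ N → a • n • e = x • e := by
      intro a x n h
      have h1 := hN _ h
      rw [mul_assoc, mul_smul, inv_smul_eq_iff, mul_smul] at h1
      exact h1
    rcases r.alt with h | ⟨hXA, ⟨a, ha, t, ht, hb, ha1, hab⟩, n, h1, h2⟩
    · exact inv_of_fix hX fun a ha => hN a (h ha)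
    · refine inv_of_quad (n := n) hX (fun a ha ha1 => ?_) (fun x hx hx1 => ?_) ha hb ha1 ?_ hab
        (hq a (hXA ha) t ht)
      · obtain ⟨x, hx, h⟩ := h1 a ha ha1
        exact ⟨x, hx, key h⟩
      · obtain ⟨a, ha, h⟩ := h2 x hx hx1
        exact ⟨a, ha, (key h).symm⟩
      · intro h
        rw [mul_inv_eq_one, mul_eq_left] at h
        exact ha1 h

end abs

/-! ### The real situation -/

section real

variable {G : Type u} [Group G] {ι : Type w} {V : Subgroup G} {R : ι → Subgroup G} {i : ι} {M B : Type u}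
  [AddCommGroup M] [AddCommGroup B] [DistribMulAction (NR R i) M] [DistribMulAction (NR R i) B]
  [DistribMulAction (HQ (R i)) M] {p : G → M} {r : G → B} {f : M →+ M →+ B}

/-- the stabiliser of `e = V / R i` in `H` -/
def NE (V : Subgroup G) (R : ι → Subgroup G) (i : ι) : Subgroup (HQ (R i)) := im (R i) (normalizer (V : Set G))

theorem NE_smul (m : ModQ V R i M B p r f) {h : HQ (R i)} (hh : h ∈ NE V R i) : h • m.sb V = m.sb V := by
  have key : ∀ h ∈ NE V R i, h • m.sb V ≤ m.sb V := by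
    intro h hh
    obtain ⟨g, hg, hgV, rfl⟩ := mem_im.1 hh
    rintro _ ⟨y, hy, rfl⟩
    change pr (R i) ⟨g, hg⟩ • y ∈ m.sb V
    rw [m.pr_smul]
    exact m.toModFr.sb_smul (h := ⟨g, hg⟩) hgV hy
  refine le_antisymm (key h hh) ?_
  have := key h⁻¹ (inv_mem hh)
  rwa [smul_le_iff, inv_inv] at this

/-- `S = (S₁ ∩ C(R i)) / O₂(N(R i))` centralises `e` -/
theorem fix_SS [Finite G] {F : Type v} [Field F] {j : ι} {vv : F → F → G} {w1 w2 : F → G} (b : BT V R)
    (m : ModQ V R i M B p r f) (C : Crd V R i j vv w1 w2) (S₁ : Sylow 2 G)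
    (hV : (S₁ : Subgroup G) ≤ normalizer (V : Set G)) (hR : (S₁ : Subgroup G) ≤ normalizer (R i : Set G))
    {h : HQ (R i)} (hh : h ∈ SS R i S₁) {y : M} (hy : y ∈ m.sb V) : h • y = y := by
  obtain ⟨g, hg, hgS, rfl⟩ := mem_im.1 hh
  obtain ⟨y, hyV, hyW, rfl⟩ := hy
  rw [S_eq b C S₁ hV hR] at hgS
  -- the elements which act trivially on `V / R i`
  let K : Subgroup G :=
    { carrier := {g | g ∈ normalizer (R i : Set G) ∧ ∀ v ∈ V, g * v * g⁻¹ * v⁻¹ ∈ R i}
      one_mem' := ⟨one_mem _, fun v _ => by rw [one_mul, inv_one, mul_one, mul_inv_cancel]; exact one_mem _⟩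
      mul_mem' := by
        rintro a c ⟨ha, ha'⟩ ⟨hc, hc'⟩
        refine ⟨mul_mem ha hc, fun v hv => ?_⟩
        have h1 := conj_mem_of_normalizer ha (hc' v hv)
        have e : a * c * v * (a * c)⁻¹ * v⁻¹ = (a * (c * v * c⁻¹ * v⁻¹) * a⁻¹) * (a * v * a⁻¹ * v⁻¹) := by group
        rw [e]
        exact mul_mem h1 (ha' v hv)
      inv_mem' := by
        rintro a ⟨ha, ha'⟩
        refine ⟨inv_mem ha, fun v hv => ?_⟩
        have h1 := conj_inv_mem_of_normalizer ha (ha' v hv)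
        have h2 : a⁻¹ * v * a ∈ V := by
          have h3 : a⁻¹ * (a * v * a⁻¹ * v⁻¹)⁻¹ * a ∈ R i := conj_inv_mem_of_normalizer ha (inv_mem (ha' v hv))
          have e : a⁻¹ * v * a = (a⁻¹ * (a * v * a⁻¹ * v⁻¹)⁻¹ * a) * v := by group
          rw [e]
          exact mul_mem (b.R_le i h3) hv
        have e : a⁻¹ * v * a⁻¹⁻¹ * v⁻¹ = a⁻¹ * (a * v * a⁻¹ * v⁻¹)⁻¹ * a := by group
        rw [e]
        exact conj_inv_mem_of_normalizer ha (inv_mem (ha' v hv)) }
  have hle : (S₁ : Subgroup G) ⊓ centralizer (V : Set G) ⊔ WW V (R i) ≤ K := by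
    refine sup_le ?_ ?_
    · rintro x ⟨-, hx⟩
      refine ⟨b.cen_le_N i hx, fun v hv => ?_⟩
      rw [← mem_centralizer_iff.1 hx v hv, mul_inv_cancel_right, mul_inv_cancel]
      exact one_mem _
    · intro x hx
      have hxQ := b.W_le_Q i hx
      exact ⟨b.Q_le i hxQ, fun v hv => b.QV i x hxQ v hv⟩
  have h1 := (hle hgS).2 y hyV
  rw [m.act hg hyW, m.p_eq_iff (conj_mem_of_normalizer (normalizer_le_WW V (R i) hg) hyW) hyW]
  exact h1

end real

end Cfsg.Agent.Omega.Lie.SE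

end

end
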