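import Cfsg.Agent.Omega.Lie.LQ
import Cfsg.Agent.Omega.Lie.CompB
import Cfsg.Agent.SignalizersComponents.QsBasic
import Cfsg.Agent.Transfer.ElemAbAut
import Cfsg.Agent.Omega.Lie.HeisCover
import Cfsg.Agent.Mrg.Omega.Lie.ExoComp
import Cfsg.Agent.Walter.Types
import Cfsg.Agent.S0252
import Cfsg.Agent.S0253
import Cfsg.Agent.Mrg.Omega.Lie.LayerPerf
import Cfsg.Agent.Mrg.Omega.Lie.LemmaTComp
import Cfsg.Agent.Omega.Lie.OutT
import Cfsg.Agent.Mrg.Omega.Lie.LemN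
import Cfsg.Agent.Mrg.Omega.BTwo.CoordNat
import Cfsg.Agent.Mrg.Omega.BTwo.Mod
import Cfsg.Agent.Mrg.Omega.BTwo.QuadGrp

section


/-!
# NODE LIE, TEXT LIE-2 (#12707): THEOREM LQ in `H` and the THEOREM on components with (PAIR), (ORD)

`ρ : H → Aut M`, `A`, `T ≤ H`, `e ≤ M`: the structure `Cub` collects what the cubic structure of
`W₁ / R₁` gives ((N0), (N1) Cor., Lemma N, `A` normal in `N_H(e)`, the order of `M`).
-/

set_option autoImplicit false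

namespace Cfsg.Agent.Omega.Lie.LQ

open Subgroup Cfsg.Agent.Omega.Lie.CompT

/-! ### orders -/

/-- `|GL_n(2)|` -/
def gl2 (n : ℕ) : ℕ := ∏ i ∈ Finset.range n, (2 ^ n - 2 ^ i)

theorem gl2_succ (n : ℕ) : gl2 (n + 1) = (2 ^ (n + 1) - 1) * (2 ^ n * gl2 n) := by
  rw [gl2, Finset.prod_range_succ', pow_zero, mul_comm]
  congr 1
  have : ∀ i ∈ Finset.range n, (2 ^ (n + 1) - 2 ^ (i + 1) : ℕ) = 2 * (2 ^ n - 2 ^ i) := by
    intro i _
    rw [pow_succ, pow_succ, Nat.mul_sub, mul_comm, mul_comm (2 ^ i)]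
  rw [Finset.prod_congr rfl this, Finset.prod_mul_distrib, Finset.prod_const, Finset.card_range, gl2]

theorem gl2_dvd {m n : ℕ} (h : m ≤ n) : gl2 m ∣ gl2 n := by
  induction n, h using Nat.le_induction with
  | base => exact dvd_rfl
  | succ n _ ih =>
    rw [gl2_succ]
    exact (ih.mul_left _).mul_left _

/-- K-FACT (PAIR) -/
def Pair (K : Type*) [Group K] : Prop :=
  ∀ b b' : K, b ≠ 1 → b' ≠ 1 → b ≠ b' → b * b = 1 → b' * b' = 1 → b * b' = b' * b →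
    ∃ x : K, x ≠ 1 ∧ Odd (orderOf x) ∧ b * x = x⁻¹ * b ∧ x * b' = b' * x

/-- K-FACT (ORD) -/
def Ord (K : Type*) [Group K] (n : ℕ) : Prop := ¬ Nat.card (K ⧸ center K) ∣ gl2 n

theorem eq_one_of_sq_odd {G : Type*} [Group G] {x : G} (h : Odd (orderOf x)) (h2 : x * x = 1) : x = 1 := by
  have h1 : orderOf x ∣ 2 := orderOf_dvd_of_pow_eq_one (by rw [pow_two, h2])
  rcases (Nat.dvd_prime Nat.prime_two).1 h1 with h3 | h3
  · exact orderOf_eq_one_iff.1 h3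
  · rw [h3] at h
    exact absurd h (by decide)

/-- (PAIR) lifts from `K / Z(K)` to `K` when `|Z(K)|` is odd. -/
theorem Pair.of_quot {K : Type*} [Group K] [Finite K] (hZ : Odd (Nat.card (center K)))
    (h : Pair (K ⧸ center K)) : Pair K := by
  intro b b' hb hb' hbb hb2 hb2' hc
  have hzodd : ∀ z ∈ center K, z * z = 1 → z = 1 := by
    intro z hz hz2
    refine eq_one_of_sq_odd ?_ hz2
    exact Odd.of_dvd_nat hZ (Subgroup.orderOf_dvd_natCard _ hz)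
  have hm : ∀ {u v : K}, (u : K ⧸ center K) = v ↔ u⁻¹ * v ∈ center K := QuotientGroup.eq
  have i1 : b⁻¹ = b := inv_eq_of_mul_eq_one_left hb2
  have i2 : b'⁻¹ = b' := inv_eq_of_mul_eq_one_left hb2'
  have h1 : ∀ {u : K}, (u : K ⧸ center K) = 1 ↔ u ∈ center K := fun {u} => QuotientGroup.eq_one_iff u
  obtain ⟨x, hx1, hxo, hbx, hxb⟩ := h b b' (fun h' => hb (hzodd _ (h1.1 h') hb2))
    (fun h' => hb' (hzodd _ (h1.1 h') hb2')) (fun h' => by
      have h2 := hm.1 h'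
      rw [i1] at h2
      have h3 := hzodd _ h2 (by
        calc b * b' * (b * b') = b * (b' * b) * b' := by group
          _ = (b * b) * (b' * b') := by rw [← hc]; group
          _ = 1 := by rw [hb2, hb2', one_mul])
      exact hbb (by rw [← i2]; exact (eq_inv_of_mul_eq_one_left h3))) (by
      rw [← QuotientGroup.mk_mul, hb2]; rfl) (by rw [← QuotientGroup.mk_mul, hb2']; rfl) (by
      rw [← QuotientGroup.mk_mul, hc, QuotientGroup.mk_mul])
  induction x using QuotientGroup.induction_on with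
  | H x =>
    set y := b * x * b⁻¹ * x⁻¹ with hy
    have hyx : (y : K ⧸ center K) = (x : K ⧸ center K)⁻¹ * (x : K ⧸ center K)⁻¹ := by
      rw [hy, QuotientGroup.mk_mul, QuotientGroup.mk_mul, QuotientGroup.mk_mul, hbx, QuotientGroup.mk_inv,
        QuotientGroup.mk_inv]
      group
    have hyo : Odd (orderOf (y : K ⧸ center K)) := by
      rw [hyx]
      have e : (x : K ⧸ center K)⁻¹ * (x : K ⧸ center K)⁻¹ = (x : K ⧸ center K)⁻¹ ^ 2 := (pow_two _).symm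
      rw [e]
      exact Odd.of_dvd_nat hxo ((orderOf_pow_dvd 2).trans (by rw [orderOf_inv]))
    refine ⟨y, ?_, ?_, ?_, ?_⟩
    · intro h'
      rw [h', QuotientGroup.mk_one] at hyx
      apply hx1
      have h2 : (x : K ⧸ center K) * (x : K ⧸ center K) = 1 := by
        have h3 := congrArg (·⁻¹) hyx
        simpa using h3.symm
      exact eq_one_of_sq_odd hxo h2
    · have h2 : y ^ orderOf (y : K ⧸ center K) ∈ center K := by
        rw [← h1, QuotientGroup.mk_pow, pow_orderOf_eq_one]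
      have h3 : orderOf (y ^ orderOf (y : K ⧸ center K)) ∣ Nat.card (center K) :=
        Subgroup.orderOf_dvd_natCard _ h2
      have h4 : y ^ (orderOf (y : K ⧸ center K) * Nat.card (center K)) = 1 := by
        rw [pow_mul]
        exact orderOf_dvd_iff_pow_eq_one.1 h3
      exact Odd.of_dvd_nat (hyo.mul hZ) (orderOf_dvd_of_pow_eq_one h4)
    · rw [hy]
      have e : (b * x * b⁻¹ * x⁻¹)⁻¹ = x * b * x⁻¹ * b⁻¹ := by group
      rw [e]
      calc b * (b * x * b⁻¹ * x⁻¹) = (b * b) * x * b⁻¹ * x⁻¹ := by group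
        _ = x * b * x⁻¹ * b⁻¹ * b := by rw [hb2, one_mul, inv_mul_cancel_right, i1]
    · -- `b'` centralises `y` modulo the centre
      have h2 : (b' : K ⧸ center K) * y = y * b' := by
        rw [hyx]
        have h3 : Commute (x : K ⧸ center K) b' := hxb
        exact ((h3.inv_left.mul_left h3.inv_left).eq).symm
      rw [← QuotientGroup.mk_mul, ← QuotientGroup.mk_mul] at h2
      have h3 := hm.1 h2
      have hz := mem_center_iff.1 h3
      set z := (b' * y)⁻¹ * (y * b') with hzd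
      have h4 : b' * y * z = y * b' := by rw [hzd]; group
      have h5 : z * z = 1 := by
        have h6 : b' * (b' * y * z) * z = b' * (y * b') * z := by rw [h4]
        have h7 : b' * (b' * y * z) * z = y * (z * z) := by
          calc b' * (b' * y * z) * z = (b' * b') * y * (z * z) := by group
            _ = y * (z * z) := by rw [hb2', one_mul]
        have h8 : b' * (y * b') * z = y := by
          calc b' * (y * b') * z = b' * y * (b' * z) := by group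
            _ = b' * y * z * b' := by rw [hz]; group
            _ = y * (b' * b') := by rw [h4]; group
            _ = y := by rw [hb2', mul_one]
        rw [h7, h8] at h6
        exact mul_left_cancel (h6.trans (mul_one y).symm)
      have h9 := hzodd z h3 h5
      rw [h9, mul_one] at h4
      exact h4.symm

theorem Pair.of_pairOrd {K : Type*} [Group K] (h : PairOrd.Pair K) : Pair K := by
  intro b b' h1 h1' hne hbb hbb' hc
  obtain ⟨x, hx, ho, hi, hf⟩ := h b b' h1 h1' hne hbb hbb' hc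
  exact ⟨x, hx, ho, mul_inv_eq_iff_eq_mul.1 hi, (mul_inv_eq_iff_eq_mul.1 hf).symm⟩

universe u v w

/-- `K` acts trivially on every elementary abelian 2-group of order at most `2 ^ n`. -/
def NoAct (K : Type u) [Group K] (n : ℕ) : Prop :=
  ∀ (M : Type v) [CommGroup M] [Finite M], (∀ m : M, m * m = 1) → Nat.card M ≤ 2 ^ n →
    ∀ φ : K →* MulAut M, ∀ k m, φ k m = m

/-- from the order of `K / Z(K)` -/
theorem NoAct.of_ord {K : Type u} [Group K] [Finite K] (hK : Cfsg.IsQuasisimple K) {n : ℕ} (h : Ord K n) :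
    NoAct.{u, v} K n := by
  intro M _ _ h2 hM f k m
  by_contra hkm
  apply h
  have : Fact (Nat.Prime 2) := ⟨Nat.prime_two⟩
  have hM2 : IsPGroup 2 M := fun m => ⟨1, by rw [pow_one, pow_two, h2]⟩
  obtain ⟨j, hj⟩ := IsPGroup.iff_card.1 hM2
  have hjn : j ≤ n := by
    rw [hj] at hM
    exact (Nat.pow_le_pow_iff_right (by norm_num)).1 hM
  have hG : Nat.card (MulAut M) = gl2 j := by
    rw [Cfsg.Agent.Transfer.ElemAbAut.card_mulAut 2 j mul_comm (fun x => by rw [pow_two, h2]) hj, gl2,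
      Finset.prod_range]
  have hker : f.ker ≤ center K := by
    refine Cfsg.Agent.SignalizersComponents.QsBasic.normal_le_center_of_ne_top hK f.ker ?_
    intro h
    apply hkm
    have h1 : k ∈ f.ker := by rw [h]; exact mem_top _
    rw [MonoidHom.mem_ker.1 h1, MulAut.one_apply]
  have h1 : Nat.card (K ⧸ center K) ∣ Nat.card (K ⧸ f.ker) := by
    rw [← index_eq_card, ← index_eq_card]
    exact index_dvd_of_le hker
  have h2 : Nat.card (K ⧸ f.ker) ∣ Nat.card (MulAut M) :=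
    Subgroup.card_dvd_of_injective _ (QuotientGroup.kerLift_injective f)
  rw [hG] at h2
  exact (h1.trans h2).trans (gl2_dvd hjn)

/-- from a lower bound for the covers of `K / Z(K)` -/
theorem NoAct.of_lb {K : Type u} [Group K] [Finite K] (hK : Cfsg.IsQuasisimple K)
    (hZ : Odd (Nat.card (center K))) {n m : ℕ} (hnm : n < m) (h : Heis.LB.{u, u, v} (K ⧸ center K) m) :
    NoAct.{u, v} K n := by
  intro M _ _ h2 hM f k x
  by_contra hkm
  have hM2 : IsPGroup 2 M := fun m => ⟨1, by rw [pow_one, pow_two, h2]⟩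
  have hk : (QuotientGroup.mk' (center K)).ker = center K := QuotientGroup.ker_mk' _
  have h3 := h K (QuotientGroup.mk' (center K)) (QuotientGroup.mk'_surjective _) hk.le (by rw [hk]; exact hZ)
    hK.1.commutator_eq_top M hM2 f (fun hf => hkm (by rw [hf]; rfl))
  have h4 := h3.trans hM
  have h5 := (Nat.pow_le_pow_iff_right (by norm_num : 1 < 2)).1 h4
  omega

theorem odd_card_center {G : Type*} [Group G] [Finite G] {K : Subgroup G}
    (h : ∀ x ∈ K, (∀ y ∈ K, x * y = y * x) → Odd (orderOf x)) : Odd (Nat.card (center K)) := by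
  by_contra hc
  rw [Nat.not_odd_iff_even, even_iff_two_dvd] at hc
  have : Fact (Nat.Prime 2) := ⟨Nat.prime_two⟩
  obtain ⟨z, hz⟩ := exists_prime_orderOf_dvd_card' 2 hc
  have h1 := h ((z : K) : G) (z : K).2 (fun y hy => by
    have := mem_center_iff.1 z.2 ⟨y, hy⟩
    exact (congrArg Subtype.val this).symm)
  rw [Subgroup.orderOf_coe, Subgroup.orderOf_coe, hz] at h1
  exact absurd h1 (by decide)

/-! ### the interface -/

variable {H : Type u} {M : Type v} [Group H] [CommGroup M]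

/-- The cubic module `M = W₁ / R₁` for `H = N(R₁) / Q₁`, `A = U₂ Q₁ / Q₁`, `T` the torus, `e = V / R₁`. -/
structure Cub (ρ : H →* MulAut M) (A T : Subgroup H) (e : Subgroup M) : Prop where
  /-- `M` has exponent two -/
  sq2 : ∀ m : M, m * m = 1
  /-- `A` centralises `e` -/
  Ae : ∀ a ∈ A, ∀ m ∈ e, ρ a m = m
  /-- (N0): `[M, a, a^t] ≤ e` -/
  line0 : ∀ a ∈ A, ∀ t ∈ T, ∀ m, br (ρ (t * a * t⁻¹)) (br (ρ a) m) ∈ e
  /-- `[M, a, b, b^t] = 1` -/
  line1 : ∀ a ∈ A, ∀ b ∈ A, ∀ t ∈ T, ∀ m,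
    ρ (t * b * t⁻¹) (br (ρ b) (br (ρ a) m)) = br (ρ b) (br (ρ a) m)
  /-- (N1) Cor.: `[M, a, b] ≠ 1 ⇒ e ≤ [M, a, b]` -/
  full : ∀ a ∈ A, ∀ b ∈ A, (∃ m, br (ρ b) (br (ρ a) m) ≠ 1) → ∀ y ∈ e, ∃ m, y = br (ρ b) (br (ρ a) m)
  /-- (N1) Cor.: `[M, a, b] ≠ 1 ≠ [M, a, b^t] ⇒ [M, a, b] ≤ [M, a, b^t]` -/
  same : ∀ a ∈ A, ∀ b ∈ A, ∀ t ∈ T, (∃ m, br (ρ b) (br (ρ a) m) ≠ 1) →
    (∃ m, br (ρ (t * b * t⁻¹)) (br (ρ a) m) ≠ 1) →
    ∀ m, ∃ m', br (ρ b) (br (ρ a) m) = br (ρ (t * b * t⁻¹)) (br (ρ a) m')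
  /-- LEMMA N -/
  lemN : ∀ a ∈ A, a ≠ 1 → ∀ h ∈ normalClosure (A : Set H),
    (∀ m, ρ h (br (ρ a) m) = br (ρ a) m) → ∀ m ∈ e, ρ h m = m
  /-- `A` is normal in the centraliser of `e` -/
  nrm : ∀ h : H, (∀ m ∈ e, ρ h m = m) → ∀ a ∈ A, h * a * h⁻¹ ∈ A
  /-- `|M| ≤ q⁴` if `A` is one line -/
  card : (∃ a ∈ A, ∀ b ∈ A, b ≠ 1 → ∃ t ∈ T, b = t * a * t⁻¹) → Nat.card M ≤ (Nat.card T + 1) ^ 4

namespace Cub

variable {ρ : H →* MulAut M} {A T : Subgroup H} {e : Subgroup M}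

theorem rho_comm (ρ : H →* MulAut M) {g h : H} (hc : g * h = h * g) : ρ g * ρ h = ρ h * ρ g := by
  rw [← map_mul, hc, map_mul]

/-- **THEOREM LQ** in `H`. -/
theorem lq (c : Cub ρ A T e) {a b b' x : H} (ha : a ∈ A) (hb : b ∈ A) (hb' : b' ∈ A) (hx : Odd (orderOf x))
    (xa : x * a = a * x) (bx : b * x = x⁻¹ * b) (xb' : x * b' = b' * x)
    (hor : (∃ t ∈ T, b' = t * b * t⁻¹) ∨ ∃ t ∈ T, b = t * a * t⁻¹)
    (hne : ∃ m, br (ρ b') (br (ρ a) m) ≠ 1) (m : M) : ρ x (br (ρ a) m) = br (ρ a) m := by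
  refine LQ.lq c.sq2 (b := ρ b) (b' := ρ b') (hx.of_dvd_nat (orderOf_map_dvd ρ x)) (rho_comm ρ xa)
    (rho_comm ρ xb') ?_ ?_ ?_ m
  · rw [← map_inv, ← map_mul, ← map_mul, bx]
  · rcases hor with ⟨t, ht, rfl⟩ | ⟨t, ht, rfl⟩
    · exact c.line1 a ha b hb t ht
    · intro m
      exact c.Ae b' hb' _ (c.line0 a ha t ht m)
  · rcases hor with ⟨t, ht, rfl⟩ | ⟨t, ht, rfl⟩
    · intro m
      by_cases h : ∃ m, br (ρ b) (br (ρ a) m) ≠ 1
      · exact c.same a ha b hb t ht h hne m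
      · push Not at h
        exact ⟨1, by rw [h, map_one, map_one]⟩
    · intro m
      exact c.full a ha b' hb' hne _ (c.line0 a ha t ht m)

/-- the centraliser in `K` of `[M, a]`, `a` commuting with `K`, is normal -/
def cenBr (ρ : H →* MulAut M) (a : H) (K : Subgroup H) : Subgroup K where
  carrier := {k | ∀ m, ρ (k : H) (br (ρ a) m) = br (ρ a) m}
  one_mem' := fun m => by simp
  mul_mem' := by
    intro k l hk hl m
    rw [coe_mul, map_mul, MulAut.mul_apply, hl, hk]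
  inv_mem' := by
    intro k hk m
    rw [coe_inv, map_inv]
    have h1 := congrArg (fun z => (ρ (k : H))⁻¹ z) (hk m)
    have h2 : (ρ (k : H))⁻¹ (ρ (k : H) (br (ρ a) m)) = br (ρ a) m := by
      rw [← MulAut.mul_apply, inv_mul_cancel, MulAut.one_apply]
    exact (h2.symm.trans h1).symm

theorem cenBr_normal (ρ : H →* MulAut M) {a : H} {K : Subgroup H} (haK : ∀ k ∈ K, a * k = k * a) :
    (cenBr ρ a K).Normal := by
  constructor
  intro n hn g m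
  have h1 : (ρ (g : H)⁻¹) (br (ρ a) m) = br (ρ a) (ρ (g : H)⁻¹ m) :=
    apply_br (rho_comm ρ (haK _ (K.inv_mem g.2)).symm) m
  have h2 : ρ (g : H) (br (ρ a) (ρ (g : H)⁻¹ m)) = br (ρ a) m := by
    rw [apply_br (rho_comm ρ (haK _ g.2).symm), ← MulAut.mul_apply, ← map_mul, mul_inv_cancel, map_one,
      MulAut.one_apply]
  rw [coe_mul, coe_mul, coe_inv, map_mul, map_mul, MulAut.mul_apply, MulAut.mul_apply, h1, hn, h2]

/-- `K` is a perfect group, `[a, K] ≤ Z(K)`: then `a` centralises `K`. -/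
theorem comm_of_central {K : Subgroup H} (hK : Cfsg.IsQuasisimple K) {a : H}
    (h : ∀ k ∈ K, a * k * a⁻¹ * k⁻¹ ∈ K ∧ ∀ y ∈ K, (a * k * a⁻¹ * k⁻¹) * y = y * (a * k * a⁻¹ * k⁻¹)) :
    ∀ k ∈ K, a * k = k * a := by
  let N : Subgroup K :=
    { carrier := {k | a * (k : H) = k * a}
      one_mem' := by simp
      mul_mem' := by
        intro k l hk hl
        have hk' : a * (k : H) = k * a := hk
        have hl' : a * (l : H) = l * a := hl
        change a * ((k : H) * l) = k * l * a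
        rw [← mul_assoc, hk', mul_assoc, hl', mul_assoc]
      inv_mem' := by
        intro k hk
        have hk' : a * (k : H) = k * a := hk
        change a * (k : H)⁻¹ = (k : H)⁻¹ * a
        rw [eq_inv_mul_iff_mul_eq, ← mul_assoc, ← hk', mul_assoc, mul_inv_cancel, mul_one] }
  have hN : commutator K ≤ N := by
    rw [commutator_def, commutator_le]
    intro k _ l _
    change a * (((k * l * k⁻¹ * l⁻¹ : K)) : H) = ((k * l * k⁻¹ * l⁻¹ : K) : H) * a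
    rw [coe_mul, coe_mul, coe_mul, coe_inv, coe_inv]
    obtain ⟨-, h2⟩ := h k k.2
    obtain ⟨-, h4⟩ := h l l.2
    set c := a * (k : H) * a⁻¹ * (k : H)⁻¹ with hc
    set d := a * (l : H) * a⁻¹ * (l : H)⁻¹ with hd
    have e1 : a * (k : H) * a⁻¹ = c * k := by rw [hc]; group
    have e2 : a * (l : H) * a⁻¹ = d * l := by rw [hd]; group
    have e3 : a * (k : H)⁻¹ * a⁻¹ = (k : H)⁻¹ * c⁻¹ := by
      calc a * (k : H)⁻¹ * a⁻¹ = (a * (k : H) * a⁻¹)⁻¹ := by group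
        _ = (k : H)⁻¹ * c⁻¹ := by rw [e1]; group
    have e4 : a * (l : H)⁻¹ * a⁻¹ = (l : H)⁻¹ * d⁻¹ := by
      calc a * (l : H)⁻¹ * a⁻¹ = (a * (l : H) * a⁻¹)⁻¹ := by group
        _ = (l : H)⁻¹ * d⁻¹ := by rw [e2]; group
    have hd' : ∀ y ∈ K, d * y = y * d := h4
    have hc' : ∀ y ∈ K, c * y = y * c := h2
    have e5 : a * ((k : H) * l * (k : H)⁻¹ * (l : H)⁻¹) * a⁻¹ = (k : H) * l * (k : H)⁻¹ * (l : H)⁻¹ := by
      calc a * ((k : H) * l * (k : H)⁻¹ * (l : H)⁻¹) * a⁻¹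
          = (a * (k : H) * a⁻¹) * (a * (l : H) * a⁻¹) * (a * (k : H)⁻¹ * a⁻¹) * (a * (l : H)⁻¹ * a⁻¹) := by
            group
        _ = c * k * (d * l) * ((k : H)⁻¹ * c⁻¹) * ((l : H)⁻¹ * d⁻¹) := by rw [e1, e2, e3, e4]
        _ = c * (k * d) * l * (k : H)⁻¹ * c⁻¹ * (l : H)⁻¹ * d⁻¹ := by group
        _ = c * (d * k) * l * (k : H)⁻¹ * c⁻¹ * (l : H)⁻¹ * d⁻¹ := by rw [hd' k k.2]
        _ = c * (d * (k * l * (k : H)⁻¹)) * c⁻¹ * (l : H)⁻¹ * d⁻¹ := by group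
        _ = c * ((k * l * (k : H)⁻¹) * d) * c⁻¹ * (l : H)⁻¹ * d⁻¹ := by
            rw [hd' _ (K.mul_mem (K.mul_mem k.2 l.2) (K.inv_mem k.2))]
        _ = (c * (k * l * (k : H)⁻¹)) * d * c⁻¹ * (l : H)⁻¹ * d⁻¹ := by group
        _ = ((k * l * (k : H)⁻¹) * c) * d * c⁻¹ * (l : H)⁻¹ * d⁻¹ := by
            rw [hc' _ (K.mul_mem (K.mul_mem k.2 l.2) (K.inv_mem k.2))]
        _ = (k * l * (k : H)⁻¹) * (c * d) * c⁻¹ * (l : H)⁻¹ * d⁻¹ := by group
        _ = (k * l * (k : H)⁻¹) * (d * c) * c⁻¹ * (l : H)⁻¹ * d⁻¹ := by rw [hc' d (h l l.2).1]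
        _ = (k * l * (k : H)⁻¹) * (d * (l : H)⁻¹) * d⁻¹ := by group
        _ = (k * l * (k : H)⁻¹) * ((l : H)⁻¹ * d) * d⁻¹ := by rw [hd' _ (K.inv_mem l.2)]
        _ = _ := by group
    calc a * ((k : H) * l * (k : H)⁻¹ * (l : H)⁻¹)
        = a * ((k : H) * l * (k : H)⁻¹ * (l : H)⁻¹) * a⁻¹ * a := by group
      _ = _ := by rw [e5]
  rw [hK.1.commutator_eq_top] at hN
  intro k hk
  exact hN (mem_top (⟨k, hk⟩ : K))

/-- A normal subgroup of the quasisimple `K` is `K` or central. -/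
theorem normal_or {K : Subgroup H} (hK : Cfsg.IsQuasisimple K) (N : Subgroup K) [N.Normal] :
    (∀ k : K, k ∈ N) ∨ ∀ k ∈ N, ∀ y ∈ K, (k : H) * y = y * k := by
  by_cases h : N = ⊤
  · left
    intro k
    rw [h]
    exact mem_top k
  · right
    intro k hk y hy
    have h1 := Cfsg.Agent.SignalizersComponents.QsBasic.normal_le_center_of_ne_top hK N h hk
    have h2 := mem_center_iff.1 h1 ⟨y, hy⟩
    exact (congrArg Subtype.val h2).symm

/-- **Corollary of LEMMA N**: `K ≤ ⟨A^H⟩` and `K` does not centralise `e`. -/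
theorem not_cen (c : Cub ρ A T e) (hA : ∀ a ∈ A, a * a = 1) {K : Subgroup H} (hK : Cfsg.IsQuasisimple K)
    (hZ : ∀ z ∈ K, (∀ y ∈ K, z * y = y * z) → z * z = 1 → z = 1)
    (hAK : ∀ a ∈ A, ∀ x ∈ K, a * x * a⁻¹ ∈ K) (hne : ∃ a ∈ A, ∃ x ∈ K, a * x ≠ x * a) :
    K ≤ normalClosure (A : Set H) ∧ ∃ k ∈ K, ∃ m ∈ e, ρ k m ≠ m := by
  obtain ⟨a, ha, x, hx, hax⟩ := hne
  constructor
  · rcases normal_or hK ((normalClosure (A : Set H)).subgroupOf K) with h | h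
    · intro k hk
      exact h ⟨k, hk⟩
    · exfalso
      apply hax
      refine comm_of_central hK (a := a) ?_ x hx
      intro k hk
      have h1 : a * k * a⁻¹ * k⁻¹ ∈ K := K.mul_mem (hAK a ha k hk) (K.inv_mem hk)
      refine ⟨h1, h ⟨_, h1⟩ ?_⟩
      rw [mem_subgroupOf]
      have h2 : a ∈ normalClosure (A : Set H) := subset_normalClosure ha
      have e1 : a * k * a⁻¹ * k⁻¹ = a * (k * a⁻¹ * k⁻¹) := by group
      change a * k * a⁻¹ * k⁻¹ ∈ _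
      rw [e1]
      exact mul_mem h2 (normalClosure_normal.conj_mem _ (inv_mem h2) k)
  · by_contra hcon
    push Not at hcon
    have hKA : ∀ k ∈ K, ∀ a ∈ A, k * a * k⁻¹ ∈ A := fun k hk => c.nrm k (hcon k hk)
    have hcommA : ∀ a ∈ A, ∀ b ∈ A, a * b = b * a := by
      intro a ha b hb
      have i1 : a⁻¹ = a := inv_eq_of_mul_eq_one_left (hA a ha)
      have i2 : b⁻¹ = b := inv_eq_of_mul_eq_one_left (hA b hb)
      have i3 : (a * b)⁻¹ = a * b := inv_eq_of_mul_eq_one_left (hA _ (A.mul_mem ha hb))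
      rw [mul_inv_rev, i1, i2] at i3
      exact i3.symm
    have hn : (A.subgroupOf K).Normal := ⟨fun n hn g => hKA g g.2 n hn⟩
    have h1 : ∀ k ∈ K, k ∈ A → k = 1 := by
      intro k hk hkA
      rcases normal_or hK (A.subgroupOf K) with h | h
      · refine hZ k hk (fun y hy => ?_) (hA k hkA)
        exact hcommA k hkA y (h ⟨y, hy⟩)
      · exact hZ k hk (h ⟨k, hk⟩ hkA) (hA k hkA)
    apply hax
    have h2 : a * x * a⁻¹ * x⁻¹ = 1 := by
      refine h1 _ (K.mul_mem (hAK a ha x hx) (K.inv_mem hx)) ?_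
      have e1 : a * x * a⁻¹ * x⁻¹ = a * (x * a⁻¹ * x⁻¹) := by group
      rw [e1]
      exact A.mul_mem ha (hKA x hx _ (A.inv_mem ha))
    calc a * x = a * x * a⁻¹ * x⁻¹ * (x * a) := by group
      _ = x * a := by rw [h2, one_mul]

/-- an element of `K` centralising `[M, a]`, `1 ≠ a ∈ C_A(K)`, is central in `K` -/
theorem central_of_cen (c : Cub ρ A T e) (hA : ∀ a ∈ A, a * a = 1) {K : Subgroup H}
    (hK : Cfsg.IsQuasisimple K) (hZ : ∀ z ∈ K, (∀ y ∈ K, z * y = y * z) → z * z = 1 → z = 1)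
    (hAK : ∀ a ∈ A, ∀ x ∈ K, a * x * a⁻¹ ∈ K) (hne : ∃ a ∈ A, ∃ x ∈ K, a * x ≠ x * a)
    {a : H} (ha : a ∈ A) (ha1 : a ≠ 1) (haK : ∀ k ∈ K, a * k = k * a) {x : H} (hx : x ∈ K)
    (h : ∀ m, ρ x (br (ρ a) m) = br (ρ a) m) : ∀ y ∈ K, x * y = y * x := by
  obtain ⟨h1, k, hk, m, hm, hkm⟩ := c.not_cen hA hK hZ hAK hne
  have := cenBr_normal ρ haK
  rcases normal_or hK (cenBr ρ a K) with h2 | h2
  · exact absurd (c.lemN a ha ha1 k (h1 hk) (h2 ⟨k, hk⟩) m hm) hkm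
  · exact h2 ⟨x, hx⟩ h

/-- inverted by an involution of `K`, central, odd: trivial -/
theorem eq_one_of_inv {K : Subgroup H} {b x : H} (hb : b ∈ K) (hxo : Odd (orderOf x)) (bx : b * x = x⁻¹ * b)
    (hc : ∀ y ∈ K, x * y = y * x) : x = 1 := by
  rw [← hc b hb] at bx
  have h1 : x = x⁻¹ := mul_right_cancel bx
  refine eq_one_of_sq_odd hxo ?_
  nth_rewrite 1 [h1]
  exact inv_mul_cancel x

/-- **(alpha)** of the THEOREM, in the general form: `b`, `b' = b^t` distinct involutions of `A ⊓ K`. -/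
theorem alpha (c : Cub ρ A T e) (hA : ∀ a ∈ A, a * a = 1) {K : Subgroup H}
    (hK : Cfsg.IsQuasisimple K) (hZ : ∀ z ∈ K, (∀ y ∈ K, z * y = y * z) → z * z = 1 → z = 1)
    (hAK : ∀ a ∈ A, ∀ x ∈ K, a * x * a⁻¹ ∈ K) (hp : Pair K)
    {b t : H} (hb : b ∈ A) (hbK : b ∈ K) (hb1 : b ≠ 1) (ht : t ∈ T) (hb' : t * b * t⁻¹ ∈ A)
    (hbK' : t * b * t⁻¹ ∈ K) (hbb : t * b * t⁻¹ ≠ b)
    {a : H} (ha : a ∈ A) (ha1 : a ≠ 1) (haK : ∀ k ∈ K, a * k = k * a) : False := by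
  have hcomm : b * (t * b * t⁻¹) = t * b * t⁻¹ * b := by
    have i1 : b⁻¹ = b := inv_eq_of_mul_eq_one_left (hA b hb)
    have i2 : (t * b * t⁻¹)⁻¹ = t * b * t⁻¹ := inv_eq_of_mul_eq_one_left (hA _ hb')
    have i3 : (b * (t * b * t⁻¹))⁻¹ = b * (t * b * t⁻¹) := inv_eq_of_mul_eq_one_left (hA _ (A.mul_mem hb hb'))
    rw [_root_.mul_inv_rev, i1, i2] at i3
    exact i3.symm
  have hne : ∃ a ∈ A, ∃ x ∈ K, a * x ≠ x * a := by
    by_contra hcon
    push Not at hcon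
    exact hb1 (hZ b hbK (hcon b hb) (hA b hb))
  have hb1' : t * b * t⁻¹ ≠ 1 := fun h => hb1 (conj_eq_one_iff.1 h)
  obtain ⟨x, hx1, hxo, hbx, hxb⟩ := hp ⟨b, hbK⟩ ⟨_, hbK'⟩ (fun h => hb1 (congrArg Subtype.val h))
    (fun h => hb1' (congrArg Subtype.val h)) (fun h => hbb (congrArg Subtype.val h).symm)
    (Subtype.ext (hA b hb)) (Subtype.ext (hA _ hb')) (Subtype.ext hcomm)
  have hxo' : Odd (orderOf (x : H)) := by rwa [Subgroup.orderOf_coe]
  have hbx' : b * (x : H) = (x : H)⁻¹ * b := congrArg Subtype.val hbx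
  have hxb' : (x : H) * (t * b * t⁻¹) = t * b * t⁻¹ * x := congrArg Subtype.val hxb
  have hnt : ∃ m, br (ρ (t * b * t⁻¹)) (br (ρ a) m) ≠ 1 := by
    by_contra hcon
    push Not at hcon
    have h1 := c.central_of_cen hA hK hZ hAK hne ha ha1 haK hbK' (fun m => (br_eq_one c.sq2).1 (hcon m))
    exact hb1' (hZ _ hbK' h1 (hA _ hb'))
  have h1 := c.lq ha hb hb' hxo' (haK x x.2).symm hbx' hxb' (Or.inl ⟨t, ht, rfl⟩) hnt
  have h2 := c.central_of_cen hA hK hZ hAK hne ha ha1 haK x.2 h1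
  exact hx1 (Subtype.ext (eq_one_of_inv hbK hxo' hbx' h2))

/-- a nontrivial `T`-invariant subgroup of `A` of order at most `8` is one line: `T` is transitive on it -/
theorem one_line [Finite H] (sc : Scal A T) (hT : 3 ≤ Nat.card T) {B : Subgroup H} (hBA : B ≤ A)
    (hTB : ∀ t ∈ T, ∀ b ∈ B, t * b * t⁻¹ ∈ B) (h8 : Nat.card B ≤ 8) {b : H} (hb : b ∈ B) (hb1 : b ≠ 1) :
    Nat.card B = Nat.card T + 1 ∧ ∀ b' ∈ B, b' ≠ 1 → ∃ t ∈ T, b' = t * b * t⁻¹ := by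
  have hL : sc.L (hBA hb) ≤ B := by
    intro y hy
    rcases hy with rfl | ⟨u, hu, rfl⟩
    · exact B.one_mem
    · exact hTB u hu b hb
  have hall : ∀ b' ∈ B, b' ∈ sc.L (hBA hb) := by
    intro b' hb'
    by_contra hcon
    have hb1' : b' ≠ 1 := fun h => hcon (h ▸ (sc.L (hBA hb)).one_mem)
    have hL' : sc.L (hBA hb') ≤ B := by
      intro y hy
      rcases hy with rfl | ⟨u, hu, rfl⟩
      · exact B.one_mem
      · exact hTB u hu b' hb'
    have hdis : ∀ y ∈ sc.L (hBA hb), y ∈ sc.L (hBA hb') → y = 1 := by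
      intro y hy hy'
      rcases hy' with rfl | ⟨u, hu, rfl⟩
      · rfl
      · exfalso
        apply hcon
        have := sc.norm_L (hBA hb) u⁻¹ (T.inv_mem hu) _ hy
        have e1 : u⁻¹ * (u * b' * u⁻¹) * u⁻¹⁻¹ = b' := by group
        rwa [e1] at this
    let f : sc.L (hBA hb) × sc.L (hBA hb') → B := fun p => ⟨p.1 * p.2, B.mul_mem (hL p.1.2) (hL' p.2.2)⟩
    have hf : Function.Injective f := by
      rintro ⟨u, v⟩ ⟨u', v'⟩ h
      have h' : (u : H) * v = u' * v' := congrArg Subtype.val h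
      have h1 : (u' : H)⁻¹ * u = v' * (v : H)⁻¹ := by
        rw [inv_mul_eq_iff_eq_mul, ← mul_assoc, ← h', mul_inv_cancel_right]
      have h2 := hdis ((u' : H)⁻¹ * u) (mul_mem (inv_mem u'.2) u.2) (by
        rw [h1]; exact mul_mem v'.2 (inv_mem v.2))
      have h3 : (u : H) = u' := (inv_mul_eq_one.1 h2).symm
      have h4 : (v : H) = v' := by
        rw [h3] at h'
        exact mul_left_cancel h'
      exact Prod.ext (Subtype.ext h3) (Subtype.ext h4)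
    have h1 := Nat.card_le_card_of_injective f hf
    rw [Nat.card_prod, ← sc.card_L (hBA hb) hb1, ← sc.card_L (hBA hb') hb1'] at h1
    nlinarith
  have hBL : B = sc.L (hBA hb) := le_antisymm hall hL
  refine ⟨?_, ?_⟩
  · conv_lhs => rw [hBL]
    exact (sc.card_L (hBA hb) hb1).symm
  · intro b' hb' hb1'
    rcases hall b' hb' with h | h
    · exact absurd h hb1'
    · exact h

/-- **THEOREM of TEXT LIE-2**: a component `K` with `[K, A] ≠ 1`, (PAIR), (ORD) in the form `NoAct`, and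
`|S ⊓ K| ≤ 2^j`, `j ≤ 3`. -/
theorem false_of_pair [Finite H] [Finite M] (c : Cub ρ A T e) (sc : Scal A T) (hT : 3 ≤ Nat.card T)
    {S K : Subgroup H} (h : CompB.Hyp S A T K) (hK : Cfsg.IsQuasisimple K)
    (hne : ∃ a ∈ A, ∃ x ∈ K, a * x ≠ x * a) {j : ℕ} (hj : j ≤ 3) (hS : Nat.card (S ⊓ K : Subgroup H) ≤ 2 ^ j)
    (hp : Pair K) (ho : NoAct.{u, v} K (4 * j)) : False := by
  have hA : ∀ a ∈ A, a * a = 1 := h.A2
  have hZ : ∀ z ∈ K, (∀ y ∈ K, z * y = y * z) → z * z = 1 → z = 1 :=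
    fun z hz hc h2 => eq_one_of_sq_odd (h.zodd z hz hc) h2
  have hAK : ∀ a ∈ A, ∀ x ∈ K, a * x * a⁻¹ ∈ K := h.AK
  set B := A ⊓ K with hB
  have hBS : B ≤ S ⊓ K := inf_le_inf_right _ h.AS
  have hBc : Nat.card B ≤ 2 ^ j := (Subgroup.card_le_of_le hBS).trans hS
  have hB8 : Nat.card B ≤ 8 := hBc.trans (by
    calc 2 ^ j ≤ 2 ^ 3 := Nat.pow_le_pow_right (by norm_num) hj
      _ = 8 := by norm_num)
  have hTB : ∀ t ∈ T, ∀ b ∈ B, t * b * t⁻¹ ∈ B := fun t ht b hb => ⟨h.TA t ht b hb.1, h.TK t ht b hb.2⟩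
  have hBne := h.inf_ne_bot hne
  obtain ⟨b, hb, hb1⟩ : ∃ b ∈ B, b ≠ 1 := by
    by_contra hcon
    push Not at hcon
    exact hBne ((Subgroup.eq_bot_iff_forall B).2 hcon)
  obtain ⟨hcB, hline⟩ := one_line sc hT inf_le_left hTB hB8 hb hb1
  by_cases hC : ∃ a ∈ A, a ≠ 1 ∧ ∀ k ∈ K, a * k = k * a
  · -- (alpha)
    obtain ⟨a, ha, ha1, haK⟩ := hC
    have hnt : ∃ t ∈ T, t ≠ 1 := by
      by_contra hcon
      push Not at hcon
      have : Nat.card T = 1 := by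
        rw [Subgroup.card_eq_one, eq_bot_iff]
        exact fun t ht => mem_bot.2 (hcon t ht)
      omega
    obtain ⟨t, ht, ht1⟩ := hnt
    exact c.alpha hA hK hZ hAK hp hb.1 hb.2 hb1 ht (hTB t ht b hb).1 (hTB t ht b hb).2
      (fun h' => ht1 (sc.reg b hb.1 hb1 t ht h')) ha ha1 haK
  · -- (beta)
    push Not at hC
    have hAB : Nat.card A = Nat.card B := by
      rw [h.card_eq]
      have : A ⊓ centralizer (K : Set H) = ⊥ := by
        rw [eq_bot_iff]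
        intro a ha
        rw [mem_bot]
        by_contra ha1
        obtain ⟨k, hk, hak⟩ := hC a ha.1 ha1
        exact hak (mem_centralizer_iff.1 ha.2 k hk).symm
      rw [this, card_bot, mul_one]
    have hBA : B = A := Subgroup.eq_of_le_of_card_ge inf_le_left hAB.le
    have hcM := c.card ⟨b, hb.1, fun b' hb' hb1' => hline b' (hBA.symm.le hb') hb1'⟩
    rw [← hcB] at hcM
    obtain ⟨-, k, hk, m, -, hkm⟩ := c.not_cen hA hK hZ hAK hne
    refine hkm (ho M c.sq2 (hcM.trans ?_) (ρ.comp K.subtype) ⟨k, hk⟩ m)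
    calc Nat.card B ^ 4 ≤ (2 ^ j) ^ 4 := Nat.pow_le_pow_left hBc _
      _ = 2 ^ (4 * j) := by rw [← pow_mul, mul_comm]

/-- **(T2), the end for components with (PAIR)**: `T` is regular on three conjugates of `K`. -/
theorem three_false_of_pair (c : Cub ρ A T e) (hA : ∀ a ∈ A, a * a = 1) {S K : Subgroup H}
    (hK : Cfsg.IsQuasisimple K) (hZ : ∀ z ∈ K, (∀ y ∈ K, z * y = y * z) → z * z = 1 → z = 1)
    (hAK : ∀ a ∈ A, ∀ x ∈ K, a * x * a⁻¹ ∈ K) (h3 : Three A T K (S ⊓ K)) (hp : Pair K)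
    {y y' : H} (hy : y ∈ S ⊓ K) (hy' : y' ∈ S ⊓ K) (hy1 : y ≠ 1) (hy1' : y' ≠ 1) (hyy : y ≠ y') : False := by
  obtain ⟨t, ht, ht1, ht3, htt1, htt, -⟩ := h3.gen
  have htt' : t * t ∈ T := T.mul_mem ht ht
  -- the conjugates by `t`, `t * t` commute with `K`
  have hcom : ∀ s ∈ T, s ≠ 1 → ∀ z ∈ K, ∀ k ∈ K, s * z * s⁻¹ * k = k * (s * z * s⁻¹) := by
    intro s hs hs1 z hz k hk
    have := h3.com s hs 1 T.one_mem hs1 z hz k hk
    simpa using this
  obtain ⟨hyS, hyK⟩ := hy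
  obtain ⟨hyS', hyK'⟩ := hy'
  obtain ⟨w, hw⟩ : ∃ w, w = t * t * y * (t * t)⁻¹ := ⟨_, rfl⟩
  obtain ⟨w', hw'⟩ : ∃ w, w = t * t * y' * (t * t)⁻¹ := ⟨_, rfl⟩
  have hwK : ∀ k ∈ K, w * k = k * w := hw ▸ hcom _ htt' htt1 y hyK
  have hwK' : ∀ k ∈ K, w' * k = k * w' := hw' ▸ hcom _ htt' htt1 y' hyK'
  obtain ⟨a, ha⟩ : ∃ a, a = t * y * t⁻¹ * w := ⟨_, rfl⟩
  have haA : a ∈ A := by
    rw [ha, hw]
    exact h3.mem y ⟨hyS, hyK⟩ t ht _ htt'
  have haK : ∀ k ∈ K, a * k = k * a := by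
    intro k hk
    rw [ha, mul_assoc, hwK k hk, ← mul_assoc, hcom t ht ht1 y hyK k hk, mul_assoc]
  have hycen : ¬ ∀ k ∈ K, y * k = k * y := fun h => hy1 (hZ y hyK h (h3.sq y ⟨hyS, hyK⟩))
  have ha1 : a ≠ 1 := by
    intro h1
    apply hycen
    intro k hk
    have e1 : t * y * t⁻¹ = w⁻¹ := eq_inv_of_mul_eq_one_left (ha ▸ h1)
    have e2 := h3.com _ htt' t ht htt y hyK k hk
    rw [← hw] at e2
    have e3 : Commute w (t * k * t⁻¹) := e2
    have e4 := e3.inv_left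
    rw [← e1] at e4
    have e5 : t * y * t⁻¹ * (t * k * t⁻¹) = t * k * t⁻¹ * (t * y * t⁻¹) := e4
    calc y * k = t⁻¹ * (t * y * t⁻¹ * (t * k * t⁻¹)) * t := by group
      _ = t⁻¹ * (t * k * t⁻¹ * (t * y * t⁻¹)) * t := by rw [e5]
      _ = k * y := by group
  obtain ⟨b, hb⟩ : ∃ b, b = w * y := ⟨_, rfl⟩
  have hbt : b = t * a * t⁻¹ := by
    have e1 : t⁻¹ * t⁻¹ * t⁻¹ = 1 := by
      calc t⁻¹ * t⁻¹ * t⁻¹ = (t * t * t)⁻¹ := by group
        _ = 1 := by rw [ht3, inv_one]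
    calc b = t * t * y * (t * t)⁻¹ * y := by rw [hb, hw]
      _ = t * t * y * (t * t)⁻¹ * ((t * t * t) * y * (t⁻¹ * t⁻¹ * t⁻¹)) := by rw [ht3, e1, one_mul, mul_one]
      _ = t * a * t⁻¹ := by rw [ha, hw]; group
  have hbA : b ∈ A := by
    have := h3.mem y ⟨hyS, hyK⟩ _ htt' 1 T.one_mem
    simpa [hb, hw] using this
  obtain ⟨b', hb'⟩ : ∃ b, b = w' * y' := ⟨_, rfl⟩
  have hbA' : b' ∈ A := by
    have := h3.mem y' ⟨hyS', hyK'⟩ _ htt' 1 T.one_mem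
    simpa [hb', hw'] using this
  have hne : ∃ a ∈ A, ∃ x ∈ K, a * x ≠ x * a := by
    push Not at hycen
    obtain ⟨k, hk, hyk⟩ := hycen
    refine ⟨b, hbA, k, hk, fun h1 => hyk ?_⟩
    rw [hb, mul_assoc, ← mul_assoc k, ← hwK k hk, mul_assoc] at h1
    exact mul_left_cancel h1
  obtain ⟨x, hx1, hxo, hyx, hxy⟩ := hp ⟨y, hyK⟩ ⟨y', hyK'⟩ (fun h => hy1 (congrArg Subtype.val h))
    (fun h => hy1' (congrArg Subtype.val h)) (fun h => hyy (congrArg Subtype.val h))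
    (Subtype.ext (h3.sq y ⟨hyS, hyK⟩)) (Subtype.ext (h3.sq y' ⟨hyS', hyK'⟩))
    (Subtype.ext (h3.ab y ⟨hyS, hyK⟩ y' ⟨hyS', hyK'⟩))
  have hxo' : Odd (orderOf (x : H)) := by rwa [Subgroup.orderOf_coe]
  have hyx' : y * (x : H) = (x : H)⁻¹ * y := congrArg Subtype.val hyx
  have hxy' : (x : H) * y' = y' * x := congrArg Subtype.val hxy
  have hbx : b * (x : H) = (x : H)⁻¹ * b := by
    rw [hb, mul_assoc, hyx', ← mul_assoc, hwK _ (K.inv_mem x.2), mul_assoc]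
  have hxb : (x : H) * b' = b' * x := by
    rw [hb', ← mul_assoc, ← hwK' _ x.2, mul_assoc, hxy', mul_assoc]
  have hnt : ∃ m, br (ρ b') (br (ρ a) m) ≠ 1 := by
    by_contra hcon
    push Not at hcon
    have hfix : ∀ m, ρ b' (br (ρ a) m) = br (ρ a) m := fun m => (br_eq_one c.sq2).1 (hcon m)
    have hinv : ∀ m, ρ b'⁻¹ (br (ρ a) m) = br (ρ a) m := by
      intro m
      have h1 : ρ b'⁻¹ (ρ b' (br (ρ a) m)) = br (ρ a) m := by
        rw [← MulAut.mul_apply, ← map_mul, inv_mul_cancel, map_one, MulAut.one_apply]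
      rwa [hfix] at h1
    apply hy1'
    refine hZ y' hyK' (comm_of_central hK fun k hk => ?_) (h3.sq y' ⟨hyS', hyK'⟩)
    have hin : y' * k * y'⁻¹ * k⁻¹ ∈ K := K.mul_mem (K.mul_mem (K.mul_mem hyK' hk) (K.inv_mem hyK')) (K.inv_mem hk)
    refine ⟨hin, c.central_of_cen hA hK hZ hAK hne haA ha1 haK hin fun m => ?_⟩
    have e1 : y' * k * y'⁻¹ * k⁻¹ = b' * (k * b'⁻¹ * k⁻¹) := by
      rw [hb', _root_.mul_inv_rev]
      have h1 : k * (y'⁻¹ * w'⁻¹) * k⁻¹ = k * y'⁻¹ * k⁻¹ * w'⁻¹ := by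
        have h2 : Commute w' k := hwK' k hk
        have h3 : w'⁻¹ * k⁻¹ = k⁻¹ * w'⁻¹ := (h2.inv_inv).eq
        calc k * (y'⁻¹ * w'⁻¹) * k⁻¹ = k * y'⁻¹ * (w'⁻¹ * k⁻¹) := by group
          _ = _ := by rw [h3]; group
      have h2 := hwK' _ (K.mul_mem (K.mul_mem (K.mul_mem hyK' hk) (K.inv_mem hyK')) (K.inv_mem hk))
      calc y' * k * y'⁻¹ * k⁻¹ = (y' * k * y'⁻¹ * k⁻¹ * w') * w'⁻¹ := by group
        _ = w' * (y' * k * y'⁻¹ * k⁻¹) * w'⁻¹ := by rw [h2]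
        _ = w' * y' * (k * y'⁻¹ * k⁻¹ * w'⁻¹) := by group
        _ = _ := by rw [h1]
    rw [e1, map_mul, map_mul, map_mul, MulAut.mul_apply, MulAut.mul_apply, MulAut.mul_apply,
      apply_br (rho_comm ρ (haK _ (K.inv_mem hk)).symm), hinv, apply_br (rho_comm ρ (haK _ hk).symm), hfix,
      ← MulAut.mul_apply, ← map_mul, mul_inv_cancel, map_one, MulAut.one_apply]
  have h1 := c.lq haA hbA hbA' hxo' (haK x x.2).symm hbx hxb (Or.inr ⟨t, ht, hbt⟩) hnt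
  have h2 := c.central_of_cen hA hK hZ hAK hne haA ha1 haK x.2 h1
  exact hx1 (Subtype.ext (eq_one_of_inv hyK hxo' hyx' h2))

end Cub

end Cfsg.Agent.Omega.Lie.LQ

end

section


/-!
# (INV5) for every quasisimple group with odd centre and abelian Sylow 2-subgroups

`InvFive K` (an involution inverts an element of prime order at least 5), from Walter's theorem in the form
`Walter.Types.WType`.
-/

set_option autoImplicit false

namespace Cfsg.Agent.Omega.Lie.InvFiveAll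

open Subgroup Cfsg.Agent.Omega.Lie.InvFive Cfsg.Agent.Walter.Types

universe u

theorem psl_five {F : Type*} [Field F] [Fintype F] (hF : Fintype.card F = 5) :
    InvFive (Matrix.ProjectiveSpecialLinearGroup (Fin 2) F) := by
  classical
  have : Fact (Nat.Prime 2) := ⟨Nat.prime_two⟩
  have hc : Nat.card (GaloisField 2 2) = 2 ^ 2 := GaloisField.card 2 2 (by norm_num)
  have : Finite (GaloisField 2 2) := Nat.finite_of_card_ne_zero (by rw [hc]; norm_num)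
  let _ : Fintype (GaloisField 2 2) := Fintype.ofFinite _
  have h4 : Fintype.card (GaloisField 2 2) = 4 := by
    rw [← Nat.card_eq_fintype_card, hc]
    norm_num
  obtain ⟨e⟩ := Cfsg.Agent.S0252.result h4
  obtain ⟨e'⟩ := Cfsg.Agent.S0253.result hF
  exact of_equiv (e.trans e'.symm) (psl (F := GaloisField 2 2) (by rw [hc]; norm_num))

/-- `PSL₂(F)`, `|F| ≡ 3, 5 mod 8`, `|F| ≥ 5`. -/
theorem psl_odd {F : Type*} [Field F] [Fintype F] (h : Fintype.card F % 8 = 3 ∨ Fintype.card F % 8 = 5)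
    (h5 : 5 ≤ Fintype.card F) : InvFive (Matrix.ProjectiveSpecialLinearGroup (Fin 2) F) := by
  by_cases h11 : 11 ≤ Fintype.card F
  · exact PairOrd.LTwo.invFive' (by rw [Nat.card_eq_fintype_card]; exact h) (by rw [Nat.card_eq_fintype_card]; exact h11)
  · exact psl_five (by omega)

/-- the groups of Walter's theorem -/
theorem of_wType {L : Type u} [Group L] [Finite L] (h2 : 2 ∣ Nat.card L) (h : WType L) : InvFive L := by
  rcases h with ⟨F, _, _, n, hn, hF, ⟨e⟩⟩ | ⟨F, _, _, hF, h5, ⟨e⟩⟩ | ⟨-, F, _, _, h35, hq, hc⟩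
  · have h4 : 4 ≤ Fintype.card F := by
      rw [hF]
      calc 4 = 2 ^ 2 := by norm_num
        _ ≤ 2 ^ n := Nat.pow_le_pow_right (by norm_num) hn
    have hch : CharP F 2 := by
      have : Fact (Nat.Prime 2) := ⟨Nat.prime_two⟩
      obtain ⟨p, hp⟩ := CharP.exists F
      have hpp : p.Prime := CharP.char_is_prime F p
      obtain ⟨m, -, hm⟩ := FiniteField.card F p
      have h3 : p ∣ 2 ^ n := by
        rw [← hF, hm]
        exact dvd_pow_self p m.2.ne'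
      have h5 := (Nat.prime_dvd_prime_iff_eq hpp Nat.prime_two).1 (hpp.dvd_of_dvd_pow h3)
      rw [← h5]; exact hp
    exact of_equiv e.symm (psl (by rw [Nat.card_eq_fintype_card]; exact h4))
  · exact of_equiv e.symm (psl_odd hF h5)
  · have : Fact (Nat.Prime 2) := ⟨Nat.prime_two⟩
    obtain ⟨t, ht⟩ := exists_prime_orderOf_dvd_card' 2 h2
    obtain ⟨e⟩ := hc t ht
    refine of_injective ((Subgroup.subtype _).comp (e.symm.toMonoidHom.comp
      (MonoidHom.inr (Multiplicative (ZMod 2)) _))) ?_ (psl_odd h35 hq)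
    exact (Subgroup.subtype_injective _).comp (e.symm.injective.comp fun u w h => congrArg Prod.snd h)

/-- Walter's theorem -/
def WalterThm : Prop :=
  ∀ (L : Type u) [Group L] [Finite L], IsSimpleGroup L → ¬ IsMulCommutative L →
    ∀ S : Sylow 2 L, (∀ a ∈ (S : Subgroup L), ∀ b ∈ (S : Subgroup L), a * b = b * a) → WType L

/-- **(INV5) for quasisimple groups `K` of even order with odd centre and abelian Sylow 2-subgroup.** -/
theorem of_quasisimple (W : WalterThm.{u}) {K : Type u} [Group K] [Finite K] (hK : Cfsg.IsQuasisimple K)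
    (hZ : Odd (Nat.card (center K))) (h2 : 2 ∣ Nat.card K) (S : Sylow 2 K)
    (hS : ∀ a ∈ (S : Subgroup K), ∀ b ∈ (S : Subgroup K), a * b = b * a) : InvFive K := by
  have : Fact (Nat.Prime 2) := ⟨Nat.prime_two⟩
  refine lift (center K) hZ (of_wType ?_ (W (K ⧸ center K) hK.2 ?_ (S.mapSurjective (QuotientGroup.mk'_surjective (center K))) ?_))
  · have h3 := Subgroup.card_eq_card_quotient_mul_card_subgroup (center K)
    rw [h3] at h2
    rcases (Nat.Prime.dvd_mul Nat.prime_two).1 h2 with h | h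
    · exact h
    · exact absurd h (Nat.two_dvd_ne_zero.2 (Nat.odd_iff.1 hZ))
  · intro hc
    have h1 : commutator K ≤ center K := by
      rw [commutator_def, Subgroup.commutator_le]
      intro x _ y _
      change x * y * x⁻¹ * y⁻¹ ∈ _
      rw [← QuotientGroup.eq_one_iff]
      have h3 := hc.is_comm.comm (x : K ⧸ center K) (y : K ⧸ center K)
      rw [QuotientGroup.mk_mul, QuotientGroup.mk_mul, QuotientGroup.mk_mul, QuotientGroup.mk_inv,
        QuotientGroup.mk_inv, h3]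
      group
    have h4 : center K = ⊤ := top_le_iff.1 (by rw [← hK.1.commutator_eq_top]; exact h1)
    have h5 : Subsingleton (K ⧸ center K) := by rw [h4]; exact QuotientGroup.subsingleton_quotient_top
    have := hK.2
    exact not_subsingleton _ h5
  · intro a ha b hb
    obtain ⟨x, hx, rfl⟩ := ha
    obtain ⟨y, hy, rfl⟩ := hb
    rw [← map_mul, ← map_mul, hS x hx y hy]

end Cfsg.Agent.Omega.Lie.InvFiveAll

end

section


/-!
# NODE LIE: the component theorem in `H = N(R i)/O₂(N(R i))`, over `BT V R`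

`KRows`: the K-facts.  `hyp_bt`: for a component `K ≤ H⁰` of `H`, `K / Z(K)` known, with `[K, A] ≠ 1`: `CompB.Hyp` holds
and `K / Z(K)` is of Lie type in characteristic 2, from two module-theoretic inputs: the exceptional case `Three` and the
groups `OutZS` are impossible.  `perf_bt`: hence `IIa4.Perf`.  `LayerMain.lean` has the instance over `BTC V R`.
-/

set_option autoImplicit false
set_option linter.unusedSectionVars false

namespace Cfsg.Agent.Omega.Lie.LayerMain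

open Subgroup Cfsg Cfsg.Agent.Omega.BTwo Cfsg.Agent.Omega.Lie Cfsg.Agent.Omega.Lie.Quot
open Cfsg.Agent.Omega.Lie.CompB Cfsg.Agent.Omega.Lie.CompT Cfsg.Agent.Omega.Lie.Layer
open Cfsg.Agent.Omega.Lie.OutT Cfsg.Agent.Omega.Lie.InvFiveAll Cfsg.Agent.Omega.KFacts
open Cfsg.Agent.Transfer.FusionBasic

universe u v w

/-- The odd order theorem (S0205). -/
def OddOrd : Prop := ∀ (X : Type u) [Group X] [Finite X], Odd (Nat.card X) → Group.IsSolvable X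

/-- **The K-facts used by the component theorem of NODE LIE.** -/
structure KRows : Prop where
  /-- the rows of `(ZS)` -/
  zs : RowsZS.{u}
  /-- Walter's theorem -/
  walter : WalterThm.{u}
  /-- the odd order theorem -/
  odd : OddOrd.{u}
  /-- the outer automorphism groups -/
  out : ∀ (L : Type u) [Group L] [Finite L], IsLieTypeChar 2 L ∨ OutZS L → OutNil L

theorem two_dvd (hO : OddOrd.{u}) {K : Type u} [Group K] [Finite K] (hK : IsQuasisimple K) : 2 ∣ Nat.card K := by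
  by_contra h
  have h1 : Odd (Nat.card K) := Nat.not_even_iff_odd.1 fun h' => h h'.two_dvd
  have h2 := hO K h1
  have h3 : Group.IsSolvable (K ⧸ center K) := inferInstance
  have := hK.2
  exact LayerKnown.not_comm hK ⟨⟨IsSimpleGroup.comm_iff_isSolvable.2 h3⟩⟩

variable {G : Type u} [Group G] [Finite G] {ι : Type w} {V : Subgroup G} {R : ι → Subgroup G} {F : Type v} [Field F]
  [Finite F] [CharP F 2] {i j : ι} {vv : F → F → G} {t : F → G} {w1 w2 : F → G}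

/-- (INV5) in the exceptional case -/
theorem invFive (W : WalterThm.{u}) (b : BT V R) (C : Crd V R i j vv w1 w2) (τ : TorD V R i j vv t) (hij : i ≠ j)
    (hF : 4 ≤ Nat.card F) (S₁ : Sylow 2 G) (hV : (S₁ : Subgroup G) ≤ normalizer (V : Set G))
    (hR : (S₁ : Subgroup G) ≤ normalizer (R i : Set G)) {K : Subgroup (HQ (R i))} (hK : IsComponent K)
    (hK0 : K ≤ H0 R i) (h2 : 2 ∣ Nat.card K) (h3 : Three (AA V R i j) (TT τ) K (SS R i S₁ ⊓ K)) :
    InvFive.InvFive K := by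
  have sit := ExoBT.sit b τ C S₁ hij hF hV hR
  have hsyl := sit.sylK hK.1 hK0
  obtain ⟨P, hP⟩ := hsyl.exists_sylow
  refine of_quasisimple W hK.2 (ExoComp.odd_center (pCore_HQ (R i)) hK) h2 P fun x hx y hy => ?_
  have hx' : (x : HQ (R i)) ∈ SS R i S₁ ⊓ K := by rw [← hP]; exact ⟨x, hx, rfl⟩
  have hy' : (y : HQ (R i)) ∈ SS R i S₁ ⊓ K := by rw [← hP]; exact ⟨y, hy, rfl⟩
  exact Subtype.ext (h3.ab x hx' y hy')

/-- **The components `K` with `[K, A] ≠ 1`, over `BT V R`**; `h3`, `hZS`: the two module-theoretic inputs. -/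
theorem hyp_bt (KR : KRows.{u}) (b : BT V R) (C : Crd V R i j vv w1 w2) (τ : TorD V R i j vv t) (hij : i ≠ j)
    (hF : 4 ≤ Nat.card F) (S₁ : Sylow 2 G) (hV : (S₁ : Subgroup G) ≤ normalizer (V : Set G))
    (hR : (S₁ : Subgroup G) ≤ normalizer (R i : Set G)) {K : Subgroup (HQ (R i))} (hK : IsComponent K)
    (hK0 : K ≤ H0 R i) (hk : IsKnownSimple' (K ⧸ center K)) (hne : ∃ a ∈ AA V R i j, ∃ k ∈ K, a * k ≠ k * a)
    (h3 : Three (AA V R i j) (TT τ) K (SS R i S₁ ⊓ K) → InvFive.InvFive K → False)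
    (hZS : Hyp (SS R i S₁) (AA V R i j) (TT τ) K → OutZS (K ⧸ center K) → False) :
    Hyp (SS R i S₁) (AA V R i j) (TT τ) K ∧ IsLieTypeChar 2 (K ⧸ center K) := by
  have h2 := two_dvd KR.odd hK.2
  rcases ExoBT.exo KR.zs b τ C S₁ hij hF hV hR hK hK0 h2 hk hne with ⟨-, h1, h4⟩ | h
  · have h5 := OutT.hyp h1 (ExoBT.sit b τ C S₁ hij hF hV hR).odd hK (KR.out _ h4)
    exact ⟨h5, h4.resolve_right (hZS h5)⟩
  · exact (h3 h (invFive KR.walter b C τ hij hF S₁ hV hR hK hK0 h2 h)).elim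

/-- `A` acts on every component in `H⁰` as `A ⊓ K`. -/
theorem innC_bt (KR : KRows.{u}) (b : BT V R) (C : Crd V R i j vv w1 w2) (τ : TorD V R i j vv t) (hij : i ≠ j)
    (hF : 4 ≤ Nat.card F) (S₁ : Sylow 2 G) (hV : (S₁ : Subgroup G) ≤ normalizer (V : Set G))
    (hR : (S₁ : Subgroup G) ≤ normalizer (R i : Set G))
    (hk : ∀ K : Subgroup (HQ (R i)), IsComponent K → IsKnownSimple' (K ⧸ center K))
    (h3 : ∀ K : Subgroup (HQ (R i)), IsComponent K → K ≤ H0 R i → (∃ a ∈ AA V R i j, ∃ k ∈ K, a * k ≠ k * a) →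
      Three (AA V R i j) (TT τ) K (SS R i S₁ ⊓ K) → InvFive.InvFive K → False)
    (hZS : ∀ K : Subgroup (HQ (R i)), IsComponent K → K ≤ H0 R i → (∃ a ∈ AA V R i j, ∃ k ∈ K, a * k ≠ k * a) →
      Hyp (SS R i S₁) (AA V R i j) (TT τ) K → OutZS (K ⧸ center K) → False) : InnC V R i j := by
  intro K hK hK0
  by_cases hne : ∃ a ∈ AA V R i j, ∃ k ∈ K, a * k ≠ k * a
  · exact InnA.of_hyp (hyp_bt KR b C τ hij hF S₁ hV hR hK hK0 (hk K hK) hne (h3 K hK hK0 hne)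
      (hZS K hK hK0 hne)).1
  · push Not at hne
    exact InnA.of_comm hne

end Cfsg.Agent.Omega.Lie.LayerMain

end

section


/-!
# NODE LIE: (N0), LEMMA N, (N1) of TEXT LIE-1/2 (#12098, #12707) on the module `M = W i / R i`

`m : ModFr V R i M B p r f`; `br h a = h • a - a`.
-/

set_option autoImplicit false
set_option linter.unusedSectionVars false

namespace Cfsg.Agent.Omega.Lie.LemN

open Subgroup Cfsg.Agent.Omega.BTwo Cfsg.Agent.Lib.SL2Mat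

universe u v w

variable {G : Type u} [Group G] {ι : Type w} {F : Type v} [Field F]
  {V : Subgroup G} {R : ι → Subgroup G} {i j : ι}
  {M B : Type u} [AddCommGroup M] [AddCommGroup B]
  [DistribMulAction (NR R i) M] [DistribMulAction (NR R i) B] {p : G → M} {r : G → B}
  {f : M →+ M →+ B}

/-- `[a, h] = h a - a` -/
def br (h : NR R i) : M →+ M where
  toFun a := h • a - a
  map_zero' := by rw [smul_zero, sub_zero]
  map_add' a c := by rw [smul_add]; abel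

theorem br_apply (h : NR R i) (a : M) : br h a = h • a - a := rfl

/-- `M` has exponent 2: `LEMMA N` needs `4 ≤ |F|` -/
theorem exists_ne [Finite F] (hq : 4 ≤ Nat.card F) : ∃ a : F, a ≠ 0 ∧ a ≠ 1 := by
  classical
  by_contra hcon
  push Not at hcon
  have h : Nat.card F ≤ Nat.card Bool := by
    refine Nat.card_le_card_of_injective (fun a : F => decide (a = 0)) fun a c h => ?_
    have h' : (a = 0) ↔ (c = 0) := by simpa using h
    by_cases ha : a = 0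
    · rw [ha, h'.1 ha]
    · rw [hcon a ha, hcon c (fun hc => ha (h'.2 hc))]
  rw [Nat.card_eq_fintype_card (α := Bool), Fintype.card_bool] at h
  omega

section BT

variable (m : ModFr V R i M B p r f) (b : BT V R)
include m b

/-- `U j ≤ N(R i)` -/
def el (b : BT V R) (i : ι) {j : ι} {u : G} (hu : u ∈ UU V R j) : NR R i := ⟨u, b.cen_le_N i (UU_le_cen j hu)⟩

theorem p_br {h : NR R i} {x : G} (hx : x ∈ WW V (R i)) : br h (p x) = p (h * x * (h : G)⁻¹ * x⁻¹) :=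
  m.smul_sub_p b hx

/-- `p [w, u] = [p w, u]` -/
theorem p_cm {h : NR R i} {x : G} (hx : x ∈ WW V (R i)) : p (x * h * x⁻¹ * (h : G)⁻¹) = br h (p x) := by
  have h1 := m.comm_mem_W b (h := h) hx
  have e : x * h * x⁻¹ * (h : G)⁻¹ = (h * x * (h : G)⁻¹ * x⁻¹)⁻¹ := by group
  rw [p_br m b hx, e, m.p_inv h1, neg_eq_iff_add_eq_zero]
  exact m.two_M b _

theorem sq_act {h : NR R i} (hh : (h : G) ∈ UU V R j) (a : M) : h • h • a = a := by
  rw [← mul_smul]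
  exact m.W_act b (h := h * h) (V_le_WW V (R i) (b.R_le j (b.W_sq j (UU_le_WW j hh)))) a

theorem sub_eq (a c : M) : a - c = a + c := by
  rw [sub_eq_add_neg, add_right_inj, neg_eq_iff_add_eq_zero]
  exact m.two_M b c

/-- `[M, h, h] = 0` -/
theorem br_br {h : NR R i} (hh : (h : G) ∈ UU V R j) (a : M) : br h (br h a) = 0 := by
  rw [br_apply, br_apply, smul_sub, sq_act m b hh, sub_eq m b, sub_eq m b, sub_eq m b,
    add_comm (h • a) a]
  exact m.two_M b _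

/-- `A` is abelian on `M` -/
theorem act_comm {h h' : NR R i} (hh : (h : G) ∈ UU V R j) (hh' : (h' : G) ∈ UU V R j) (a : M) :
    h • h' • a = h' • h • a := by
  have e : h * h' = (h * h' * h⁻¹ * h'⁻¹) * (h' * h) := by group
  rw [← mul_smul, e, mul_smul _ (h' * h), mul_smul h' h]
  exact m.W_act b (h := h * h' * h⁻¹ * h'⁻¹)
    (V_le_WW V (R i) (b.R_le j (b.WW_comm j (UU_le_WW j hh) (UU_le_WW j hh')))) _

theorem br_comm {h h' : NR R i} (hh : (h : G) ∈ UU V R j) (hh' : (h' : G) ∈ UU V R j) (a : M) :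
    br h (br h' a) = br h' (br h a) := by
  rw [br_apply, br_apply, br_apply, br_apply, smul_sub, smul_sub, act_comm m b hh hh']
  abel

/-- `f ([a, h], c) = f (a, [c, h])` -/
theorem br_adj {h : NR R i} (hh : (h : G) ∈ UU V R j) (a c : M) : f (br h a) c = f a (br h c) := by
  have hR : (h : G) ∈ centralizer (R i : Set G) :=
    centralizer_le (b.R_le i) (UU_le_cen j hh)
  have h1 : f (h • a) c = f a (h • c) := by
    conv_lhs => rw [← sq_act m b hh c]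
    rw [m.f_act b, m.act_B b hR]
  rw [br_apply, br_apply, map_sub, AddMonoidHom.sub_apply, h1, map_sub]

theorem br_mem_U {h : NR R i} (hh : (h : G) ∈ UU V R j) (a : M) : br h a ∈ m.sb (UU V R i) := m.A_M b hh a

theorem br_mem_D {h : NR R i} (hh : (h : G) ∈ UU V R j) {a : M} (ha : a ∈ m.sb (UU V R i)) :
    br h a ∈ m.sb (DD V R) := m.A_U b hh ha

theorem br_mem_V {h : NR R i} (hh : (h : G) ∈ UU V R j) {a : M} (ha : a ∈ m.sb (DD V R)) :
    br h a ∈ m.sb V := m.A_D b hh ha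

theorem br_V {h : NR R i} (hh : (h : G) ∈ UU V R j) {a : M} (ha : a ∈ m.sb V) : br h a = 0 := by
  rw [br_apply, m.cen_e b (UU_le_cen j hh) ha, sub_self]

/-- elements of `e` are separated by one `a ∉ e^⊥` -/
theorem e_inj {a x : M} (ha : a ∉ m.sb (UU V R i)) (hx : x ∈ m.sb V) (h : f x a = 0) : x = 0 := by
  obtain ⟨w, hw, rfl⟩ := m.p_surj a
  obtain ⟨v, hv, hv', rfl⟩ := hx
  rw [m.p_mem_iff hw (b.R_le_U i)] at ha
  rw [m.f_eq v hv' w hw, m.r_ker _ (b.WW_comm i hv' hw), mul_inv_eq_one, mul_inv_eq_iff_eq_mul] at h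
  by_contra hne
  have hvi : v ∉ R i := fun h1 => hne ((m.p_ker v hv').2 h1)
  have h1 := b.reg (b.W_le_Q i hw) hv hvi h.symm
  apply ha
  refine mem_inf.2 ⟨hw, ?_⟩
  rw [mem_centralizer_iff]
  exact fun a ha => (h1 a ha).symm

end BT

section BTC

variable (m : ModFr V R i M B p r f) (b : BTC V R) {vv : F → F → G} {w1 w2 : F → G}
  (c : Coord V R i j vv w1 w2)
include m b c

/-- an element outside `e^⊥` -/
theorem w1_notMem {a : F} (ha : a ≠ 0) : p (w1 a) ∉ m.sb (UU V R i) := by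
  rw [m.p_mem_iff (c.w1_mem a) (b.R_le_U i)]
  intro h
  have h1 := mem_centralizer_iff.1 (UU_le_cen i h) _ (c.v_mem 0 1)
  have h2 := c.w1_act a 0 1
  rw [← h1] at h2
  have h3 : vv 0 1 = vv (0 + a * 1) 1 := by rw [← h2]; group
  have h4 := (c.v_inj h3).1
  rw [mul_one, zero_add] at h4
  exact ha h4.symm

/-- elements of `e` -/
theorem mem_e {x : M} (hx : x ∈ m.sb V) : ∃ β, p (vv 0 β) = x := by
  obtain ⟨v, hv, hv', rfl⟩ := hx
  obtain ⟨a, β, rfl⟩ := (c.mem_V v).1 hv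
  refine ⟨β, ?_⟩
  have h1 := c.v_add a 0 0 β
  rw [add_zero, zero_add] at h1
  have ha : vv a 0 ∈ R i := (c.mem_R1 _).2 ⟨a, rfl⟩
  rw [h1, m.p_mul _ (b.R_le_W i i ha) _ (V_le_WW V (R i) (c.v_mem 0 β)), (m.p_ker _ (b.R_le_W i i ha)).2 ha,
    zero_add]

/-- `s ∈ D - e`: `f (e^⊥, s) = B` -/
theorem D_surj [CharP F 2] {s : M} (hs : s ∈ m.sb (DD V R)) (hs' : s ∉ m.sb V) (β : B) :
    ∃ y ∈ m.sb (UU V R i), f y s = β := by
  obtain ⟨d, hd, hd', rfl⟩ := hs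
  have hdV : d ∉ V := fun h => hs' (m.p_mem hd' h)
  have hne : ∃ u₀ ∈ UU V R i, d * u₀ * d⁻¹ * u₀⁻¹ ≠ 1 := by
    by_contra hcon
    push Not at hcon
    refine hdV (b.cen_DU hd (i := i) fun u₀ hu₀ => ?_)
    have := hcon u₀ hu₀
    rwa [mul_inv_eq_one, mul_inv_eq_iff_eq_mul] at this
  obtain ⟨u₀, hu₀, hne⟩ := hne
  obtain ⟨c₀, hc₀⟩ := (c.mem_R1 _).1 (b.DU hd hu₀)
  have hc₀' : c₀ ≠ 0 := by
    rintro rfl
    exact hne (by rw [← hc₀, c.v_zero])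
  obtain ⟨x, hx, rfl⟩ := m.r_surj β
  obtain ⟨x', rfl⟩ := (c.mem_R1 _).1 hx
  by_cases hx0 : x' = 0
  · refine ⟨0, zero_mem _, ?_⟩
    rw [hx0, c.v_zero, m.r_one, map_zero, AddMonoidHom.zero_apply]
  have ha : x' / c₀ ≠ 0 := div_ne_zero hx0 hc₀'
  have hX := c.hh_mem_X b.toBT (x' / c₀)
  have hu : hh w1 w2 (x' / c₀) * u₀ * (hh w1 w2 (x' / c₀))⁻¹ ∈ UU V R i := by
    rw [← b.cj_UU (b.X_le_NV hX) (c.hh_R1 b.toBT ha)]; exact conj_mem_cj hu₀
  refine ⟨_, m.p_mem (UU_le_WW i hu) hu, ?_⟩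
  rw [m.f_symm b.toBT, m.f_eq _ hd' _ (UU_le_WW i hu), ← b.lam_conj hX hd (UU_le_YY i hu₀), ← hc₀,
    c.hh_act ha, mul_zero, div_mul_cancel₀ _ hc₀']

/-- **(N1)**: if `[M, h, h'] ≠ 0` then `e ≤ [M, h, h']` -/
theorem n1 [CharP F 2] {h h' : NR R i} (hh : (h : G) ∈ UU V R j) (hh' : (h' : G) ∈ UU V R j)
    (hne : ∃ a : M, br h' (br h a) ≠ 0) {x : M} (hx : x ∈ m.sb V) : ∃ a : M, br h' (br h a) = x := by
  have hadj : ∀ a c : M, f (br h' (br h a)) c = f a (br h' (br h c)) := by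
    intro a c
    rw [br_adj m b.toBT hh', br_adj m b.toBT hh, br_comm m b.toBT hh hh']
  have hUV : ∀ y ∈ m.sb (UU V R i), br h' (br h y) ∈ m.sb V := fun y hy =>
    br_mem_V m b.toBT hh' (br_mem_D m b.toBT hh hy)
  by_cases hi : ∃ a₀ : M, br h' (br h a₀) ∉ m.sb V
  · obtain ⟨a₀, ha₀⟩ := hi
    have ha₀' : a₀ ∉ m.sb (UU V R i) := fun h1 => ha₀ (hUV a₀ h1)
    obtain ⟨y, hy, e⟩ := D_surj m b c (br_mem_D m b.toBT hh' (br_mem_U m b.toBT hh a₀)) ha₀ (f x a₀)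
    refine ⟨y, ?_⟩
    rw [← sub_eq_zero]
    refine e_inj m b.toBT ha₀' (sub_mem (hUV y hy) hx) ?_
    rw [map_sub, AddMonoidHom.sub_apply, hadj, e, sub_self]
  · push Not at hi
    have hU : ∀ y ∈ m.sb (UU V R i), br h' (br h y) = 0 := by
      intro y hy
      refine e_inj m b.toBT (w1_notMem m b c one_ne_zero) (hi y) ?_
      rw [hadj]
      exact (m.perp_iff b.toBT y).2 hy _ (hi _)
    obtain ⟨a₁, ha₁⟩ := hne
    have ha₁' : a₁ ∉ m.sb (UU V R i) := fun h1 => ha₁ (hU a₁ h1)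
    obtain ⟨w, hw, rfl⟩ := m.p_surj a₁
    obtain ⟨s, hs⟩ := c.W1_act w hw
    obtain ⟨β, hβ⟩ := mem_e m b c (hi (p w))
    obtain ⟨γ, rfl⟩ := mem_e m b c hx
    have hβ0 : β ≠ 0 := by
      rintro rfl
      apply ha₁
      rw [← hβ, c.v_zero, m.p_one]
    have hs0 : s ≠ 0 := by
      rintro rfl
      apply ha₁'
      rw [m.p_mem_iff hw (b.R_le_U i)]
      refine mem_inf.2 ⟨hw, ?_⟩
      rw [mem_centralizer_iff]
      intro v hv
      obtain ⟨a, q, rfl⟩ := (c.mem_V v).1 hv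
      have h1 := hs a q
      rw [zero_mul, add_zero, mul_inv_eq_iff_eq_mul] at h1
      exact h1.symm
    have hvW : ∀ q, vv 0 q ∈ WW V (R i) := fun q => V_le_WW V (R i) (c.v_mem 0 q)
    refine ⟨p (w1 (s * γ / β)), ?_⟩
    rw [← sub_eq_zero]
    refine e_inj m b.toBT ha₁' (sub_mem (hi _) (m.p_mem (hvW γ) (c.v_mem 0 γ))) ?_
    rw [map_sub, AddMonoidHom.sub_apply, hadj, ← hβ, m.f_eq _ (c.w1_mem _) _ (hvW β),
      m.f_symm b.toBT (p (vv 0 γ)), m.f_eq _ hw _ (hvW γ), cm_act b c (c.w1_act _), cm_act b c hs,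
      div_mul_cancel₀ _ hβ0, sub_self]

/-! ### `t`-conjugates, `t ∈ X` fixing `R i`, `R j` -/

/-- `h'` acts on `M` as `t h t⁻¹`, `t ∈ X` fixing `R i` and `R j` (`F_q h = F_q h'`) -/
structure Line (V : Subgroup G) (R : ι → Subgroup G) (i j : ι) (h h' t : NR R i) : Prop where
  hU : (h : G) ∈ UU V R j
  hU' : (h' : G) ∈ UU V R j
  tX : (t : G) ∈ XX V R
  tj : cj (t : G) (R j) = R j
  eq : ((t * h * t⁻¹ * h'⁻¹ : NR R i) : G) ∈ DD V R

omit m b c in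
theorem Line.symm (b : BT V R) {h h' t : NR R i} (l : Line V R i j h h' t) : Line V R i j h' h t⁻¹ where
  hU := l.hU'
  hU' := l.hU
  tX := inv_mem l.tX
  tj := (cj_eq_iff.1 l.tj).symm
  eq := by
    have h1 := conj_inv_mem_of_normalizer (b.NV_le_ND (b.X_le_NV l.tX)) (inv_mem l.eq)
    have h2 := conj_mem_of_normalizer (g := (h : G)⁻¹) (b.NV_le_ND (cen_le_NV V (UU_le_cen j (inv_mem l.hU)))) h1
    have e : ((t⁻¹ * h' * t⁻¹⁻¹ * h⁻¹ : NR R i) : G) =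
        (t : G)⁻¹ * ((t * h * t⁻¹ * h'⁻¹ : NR R i) : G)⁻¹ * t := by
      push_cast; group
    rw [e]
    exact h1

omit c in
theorem Line.act {h h' t : NR R i} (l : Line V R i j h h' t) (a : M) : h' • a = t • h • t⁻¹ • a := by
  have e : t * h * t⁻¹ = (t * h * t⁻¹ * h'⁻¹) * h' := by group
  rw [← mul_smul, ← mul_smul, e, mul_smul _ h']
  exact (m.W_act b.toBT (h := t * h * t⁻¹ * h'⁻¹) (D_le_W V R i l.eq) _).symm

omit c in
theorem Line.brk {h h' t : NR R i} (l : Line V R i j h h' t) (a : M) : br h' a = t • br h (t⁻¹ • a) := by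
  rw [br_apply, br_apply, l.act m b, smul_sub, smul_inv_smul]

omit c in
/-- on `D / R i` -/
theorem Line.brk_D {h h' t : NR R i} (l : Line V R i j h h' t) {a : M} (ha : a ∈ m.sb (DD V R)) :
    br h' a = t • br h a := by
  have h1 := m.X_D b.toBT (h := t⁻¹) (inv_mem l.tX) ha
  have h2 := br_V m b.toBT l.hU h1
  rw [map_sub, sub_eq_zero] at h2
  rw [l.brk m b, h2]

omit c in
/-- (C3): `[M, h, h', h''] = 0` if `F_q h' = F_q h''` -/
theorem c3 {h h' h'' t : NR R i} (hh : (h : G) ∈ UU V R j) (l : Line V R i j h' h'' t) (a : M) :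
    br h'' (br h' (br h a)) = 0 := by
  have h1 := br_mem_D m b.toBT l.hU (br_mem_U m b.toBT hh a)
  rw [l.brk_D m b h1, br_br m b.toBT l.hU, smul_zero]

omit c in
/-- **(N0)**: `[M, h, h'] ≤ e` if `F_q h = F_q h'` -/
theorem n0_line {h h' t : NR R i} (l : Line V R i j h h' t) (a : M) :
    LemN.br h' (LemN.br h a) ∈ m.sb V := by
  obtain ⟨w, hw, rfl⟩ := m.p_surj a
  have hti : cj (t : G) (R i) = R i := cj_eq_self_iff.2 t.2
  have h0 := N0_T b hw l.hU l.tX hti l.tj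
  -- the element `t h t⁻¹` of `U j`
  have hu' : (t : G) * h * (t : G)⁻¹ ∈ UU V R j := by
    have := conj_mem_cj (g := (t : G)) l.hU
    rwa [b.cj_UU (b.X_le_NV l.tX) l.tj] at this
  have hcW := UU_le_WW i (b.WU' hw l.hU)
  have h1 := p_cm m b.toBT (h := t * h * t⁻¹) hcW
  have h2 : p ((w * h * w⁻¹ * (h : G)⁻¹) * (t * h * t⁻¹ : NR R i) * (w * h * w⁻¹ * (h : G)⁻¹)⁻¹ *
      ((t * h * t⁻¹ : NR R i) : G)⁻¹) ∈ m.sb V := by
    refine m.p_mem (V_le_WW V (R i) h0) h0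
  rw [h1, p_cm m b.toBT hw] at h2
  have h3 : LemN.br h' (LemN.br h (p w)) = LemN.br (t * h * t⁻¹) (LemN.br h (p w)) := by
    rw [br_apply h', br_apply (t * h * t⁻¹), l.act m b, mul_smul, mul_smul]
  rw [h3]
  exact h2

/-- (C2) -/
theorem c2 [Finite F] [CharP F 2] {h h' h'' t : NR R i} (hh : (h : G) ∈ UU V R j)
    (l : Line V R i j h' h'' t) (hne : ∃ a : M, LemN.br h' (LemN.br h a) ≠ 0) (a : M) :
    ∃ a' : M, LemN.br h'' (LemN.br h a) = LemN.br h' (LemN.br h a') := by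
  suffices H : ∃ a' : M, LemN.br h'' (LemN.br h a) - LemN.br h' (LemN.br h a') ∈ m.sb V by
    obtain ⟨a', ha'⟩ := H
    obtain ⟨a'', ha''⟩ := n1 m b c hh l.hU hne ha'
    refine ⟨a' + a'', ?_⟩
    rw [map_add, map_add, ha'']
    abel
  obtain ⟨w, hw, rfl⟩ := m.p_surj a
  obtain ⟨N, _, _, P1, P2, y⟩ := c.exists_yPair b.toBT
  obtain ⟨s, hs⟩ := c.exists_up hw
  obtain ⟨A, hA, hA'⟩ := y.exists_act c b.toBT (inv_mem l.tX)
  have hhY : (h : G) ∈ YY V R := UU_le_YY j hh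
  have h1Y : P1 (h : G) = 0 := (y.mem_U2 _ hhY).1 hh
  -- `P` of `[x, h]`
  have key : ∀ x ∈ WW V (R i), ∀ q : F, ActV vv x (up q) →
      P1 (x * h * x⁻¹ * (h : G)⁻¹) = q • P2 (h : G) ∧ P2 (x * h * x⁻¹ * (h : G)⁻¹) = 0 := by
    intro x hx q hq
    have h1 := y.actY_of_W1 c b.toBT hx hq _ hhY
    have m1 := y.X_Y b.toBT c (W_le_X V R i hx) hhY
    have m2 := b.WU' hx hh
    refine ⟨?_, (y.mem_U1 _ (UU_le_YY i m2)).1 m2⟩
    rw [y.mul1 _ m1 _ (inv_mem hhY), h1.1, y.inv1 hhY, up_00, up_01, h1Y, smul_zero, zero_add, neg_zero,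
      add_zero]
  set z := w * h * w⁻¹ * (h : G)⁻¹ with hz
  have hzU : z ∈ UU V R i := b.WU' hw hh
  obtain ⟨k1, k2⟩ := key w hw s hs
  have hti : cj (t : G)⁻¹ (R i) = R i := cj_eq_self_iff.2 (inv_mem t.2)
  have hz1 : (t : G)⁻¹ * z * (t : G)⁻¹⁻¹ ∈ UU V R i := by
    rw [← b.cj_UU (b.X_le_NV (inv_mem l.tX)) hti]; exact conj_mem_cj hzU
  have hz'U : w1 (ent A 0 0 * s) * h * (w1 (ent A 0 0 * s))⁻¹ * (h : G)⁻¹ ∈ UU V R i :=
    b.WU' (c.w1_mem _) hh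
  obtain ⟨k3, k4⟩ := key _ (c.w1_mem (ent A 0 0 * s)) _ (c.actV_w1 _)
  have k5 := (hA' z (UU_le_YY i hzU)).1
  have k6 := (y.mem_U1 _ (UU_le_YY i hz1)).1 hz1
  rw [← hz] at k1 k2
  rw [k1, k2, smul_zero, add_zero, smul_smul, ← k3] at k5
  rw [← k4] at k6
  have hD := (y.eq_iff (UU_le_YY i hz1) (UU_le_YY i hz'U)).2 ⟨k5, k6⟩
  set w' := w1 (ent A 0 0 * s) with hw'
  set z' := w' * h * w'⁻¹ * (h : G)⁻¹ with hz'
  refine ⟨p w', ?_⟩
  have e1 : LemN.br h (p w) = p z := (p_cm m b.toBT hw).symm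
  have e2 : LemN.br h (p w') = p z' := (p_cm m b.toBT (c.w1_mem _)).symm
  have e3 : (t⁻¹ : NR R i) • p z = p z' + p (z'⁻¹ * ((t : G)⁻¹ * z * (t : G)⁻¹⁻¹)) := by
    rw [m.p_act _ z (UU_le_WW i hzU), ← m.p_mul _ (UU_le_WW i hz'U) _ (D_le_W V R i hD)]
    congr 1
    push_cast
    group
  have hDm : p (z'⁻¹ * ((t : G)⁻¹ * z * (t : G)⁻¹⁻¹)) ∈ m.sb (DD V R) := m.p_mem (D_le_W V R i hD) hD
  have h5 : LemN.br h' (LemN.br h (p w')) ∈ m.sb (DD V R) :=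
    br_mem_D m b.toBT l.hU (br_mem_U m b.toBT hh _)
  have h6 := m.X_D b.toBT l.tX h5
  have h7 := br_mem_V m b.toBT l.hU hDm
  have h8 : t • LemN.br h' (p (z'⁻¹ * ((t : G)⁻¹ * z * (t : G)⁻¹⁻¹))) ∈ m.sb V :=
    m.sb_smul (b.X_le_NV l.tX) h7
  rw [l.brk m b, e1, e3, map_add, smul_add, ← e2]
  have e4 : t • LemN.br h' (LemN.br h (p w')) + t • LemN.br h' (p (z'⁻¹ * ((t : G)⁻¹ * z * (t : G)⁻¹⁻¹))) -
      LemN.br h' (LemN.br h (p w')) = (t • LemN.br h' (LemN.br h (p w')) - LemN.br h' (LemN.br h (p w'))) +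
        t • LemN.br h' (p (z'⁻¹ * ((t : G)⁻¹ * z * (t : G)⁻¹⁻¹))) := by abel
  rw [e4]
  exact add_mem h6 h8

/-! ### LEMMA N on `M`, and the inputs of LQ -/

/-- **LEMMA N** on `M`: `e ≤ [M, h] + rad` -/
theorem lemN_M [Finite G] [Finite F] [CharP F 2] (hq : 4 ≤ Nat.card F) {h : NR R i} (hh : (h : G) ∈ UU V R j)
    (hD : (h : G) ∉ DD V R) {x : M} (hx : x ∈ m.sb V) :
    ∃ a : M, ∃ z ∈ m.sb (ZZ V R i), x = LemN.br h a + z := by
  obtain ⟨t, τ⟩ := coord_exists_torD b.toBT c (b.cen_W_isPGroup i)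
  obtain ⟨v, hv, hv', rfl⟩ := hx
  obtain ⟨w, hw, ζ, hζ, e⟩ := lemN b (exists_ne hq) c τ hh hD hv
  refine ⟨p w, p ζ, m.p_mem hζ.1 hζ, ?_⟩
  rw [← p_cm m b.toBT hw, ← m.p_mul _ (UU_le_WW i (b.WU' hw hh)) _ hζ.1, ← e]

/-- **LEMMA N**: what centralises `[M, h]` and `rad` centralises `e` -/
theorem lemN_fix [Finite G] [Finite F] [CharP F 2] (hq : 4 ≤ Nat.card F) {h k : NR R i}
    (hh : (h : G) ∈ UU V R j) (hD : (h : G) ∉ DD V R) (hk : ∀ z ∈ m.sb (ZZ V R i), k • z = z)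
    (hk' : ∀ a : M, k • LemN.br h a = LemN.br h a) {x : M} (hx : x ∈ m.sb V) : k • x = x := by
  obtain ⟨a, z, hz, rfl⟩ := lemN_M m b c hq hh hD hx
  rw [smul_add, hk z hz, hk' a]

/-- input (1) of LQ: `[M, a, b, b'] = 0` if `F_q b = F_q b'` or `F_q b = F_q a` -/
theorem lq1 {a₀ b₀ b₀' t : NR R i} (ha : (a₀ : G) ∈ UU V R j) (hb' : (b₀' : G) ∈ UU V R j)
    (hc : Line V R i j b₀ b₀' t ∨ Line V R i j a₀ b₀ t) (x : M) :
    b₀' • LemN.br b₀ (LemN.br a₀ x) = LemN.br b₀ (LemN.br a₀ x) := by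
  rw [← sub_eq_zero]
  rcases hc with l | l
  · exact c3 m b ha l x
  · exact br_V m b.toBT hb' (n0_line m b l x)

/-- input (3) of LQ: `[M, a, b] ≤ [M, a, b']` -/
theorem lq3 [Finite F] [CharP F 2] {a₀ b₀ b₀' t : NR R i} (ha : (a₀ : G) ∈ UU V R j)
    (hb' : (b₀' : G) ∈ UU V R j) (hc : Line V R i j b₀ b₀' t ∨ Line V R i j a₀ b₀ t)
    (hne : ∃ x : M, LemN.br b₀' (LemN.br a₀ x) ≠ 0) (x : M) :
    ∃ x' : M, LemN.br b₀ (LemN.br a₀ x) = LemN.br b₀' (LemN.br a₀ x') := by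
  rcases hc with l | l
  · exact c2 m b c ha (l.symm b.toBT) hne x
  · obtain ⟨x', hx'⟩ := n1 m b c ha hb' hne (n0_line m b l x)
    exact ⟨x', hx'.symm⟩

end BTC

end Cfsg.Agent.Omega.Lie.LemN

end

section


/-!
# NODE LIE: (N0), (N1) of TEXT LIE-1/2 (#12098, #12707), element level
-/

set_option autoImplicit false

namespace Cfsg.Agent.Omega.Lie.LemN

open Subgroup Cfsg.Agent.Omega.BTwo

universe u v w

variable {G : Type u} [Group G] {ι : Type w} {F : Type v} [Field F]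
  {V : Subgroup G} {R : ι → Subgroup G} {i j : ι} {vv : F → F → G} {w1 w2 : F → G}

section

variable {M B : Type u} [AddCommGroup M] [AddCommGroup B]
  [DistribMulAction (NR R i) M] [DistribMulAction (NR R i) B] {p : G → M} {r : G → B}
  {f : M →+ M →+ B}

/-- `p [[w, u], u'] = [p w, u, u']` -/
theorem p_cm2 (m : ModFr V R i M B p r f) (b : BT V R) {h h' : NR R i} {w : G} (hw : w ∈ WW V (R i))
    (hh : (h : G) ∈ UU V R j) :
    p ((w * h * w⁻¹ * (h : G)⁻¹) * h' * (w * h * w⁻¹ * (h : G)⁻¹)⁻¹ * (h' : G)⁻¹) = br h' (br h (p w)) := by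
  rw [p_cm m b (UU_le_WW i (b.WU' hw hh)), p_cm m b hw]

end

/-- `[[w, u], u'] ∈ W i` -/
theorem cm2_mem (b : BT V R) {w u u' : G} (hw : w ∈ WW V (R i)) (hu : u ∈ UU V R j) (hu' : u' ∈ UU V R j) :
    (w * u * w⁻¹ * u⁻¹) * u' * (w * u * w⁻¹ * u⁻¹)⁻¹ * u'⁻¹ ∈ WW V (R i) :=
  UU_le_WW i (b.WU' (UU_le_WW i (b.WU' hw hu)) hu')

/-- **(N1)**, element level: `[M, u, u'] ≠ 0 ⟹ e ≤ [M, u, u']` -/
theorem n1_el [CharP F 2] (b : BTC V R) (c : Coord V R i j vv w1 w2) {u u' : G} (hu : u ∈ UU V R j)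
    (hu' : u' ∈ UU V R j)
    (hne : ∃ w ∈ WW V (R i), (w * u * w⁻¹ * u⁻¹) * u' * (w * u * w⁻¹ * u⁻¹)⁻¹ * u'⁻¹ ∉ R i)
    {x : G} (hx : x ∈ V) : ∃ w ∈ WW V (R i),
      (w * u * w⁻¹ * u⁻¹) * u' * (w * u * w⁻¹ * u⁻¹)⁻¹ * u'⁻¹ * x⁻¹ ∈ R i := by
  obtain ⟨M, B, _, _, _, _, p, r, f, m⟩ := b.toBT.exists_mod i
  have hxW := V_le_WW V (R i) hx
  obtain ⟨w₀, hw₀, h0⟩ := hne
  obtain ⟨a, ha⟩ := n1 m b c (h := el b.toBT i hu) (h' := el b.toBT i hu') hu hu'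
    ⟨p w₀, fun h1 => h0 ((m.p_ker _ (cm2_mem b.toBT hw₀ hu hu')).1
      ((p_cm2 m b.toBT (h := el b.toBT i hu) (h' := el b.toBT i hu') hw₀ hu).trans h1))⟩
    (m.p_mem hxW hx)
  obtain ⟨w, hw, rfl⟩ := m.p_surj a
  refine ⟨w, hw, ?_⟩
  rw [← m.p_eq_iff (cm2_mem b.toBT hw hu hu') hxW]
  exact (p_cm2 m b.toBT (h := el b.toBT i hu) (h' := el b.toBT i hu') hw hu).trans ha

/-- `t u' t⁻¹`, as a `Line` -/
theorem line_of (b : BT V R) {u t : G} (hu : u ∈ UU V R j) (ht : t ∈ XX V R) (hti : cj t (R i) = R i)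
    (htj : cj t (R j) = R j) (hut : t * u * t⁻¹ ∈ UU V R j) :
    Line V R i j (el b i hu) (el b i hut) ⟨t, cj_eq_self_iff.1 hti⟩ where
  hU := hu
  hU' := hut
  tX := ht
  tj := htj
  eq := by
    have e : (((⟨t, cj_eq_self_iff.1 hti⟩ : NR R i) * el b i hu * (⟨t, cj_eq_self_iff.1 hti⟩ : NR R i)⁻¹ *
        (el b i hut)⁻¹ : NR R i) : G) = 1 := by
      change t * u * t⁻¹ * (t * u * t⁻¹)⁻¹ = 1
      rw [mul_inv_cancel]
    rw [e]
    exact one_mem _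

theorem conj_mem_U (b : BT V R) {u t : G} (hu : u ∈ UU V R j) (ht : t ∈ XX V R)
    (htj : cj t (R j) = R j) : t * u * t⁻¹ ∈ UU V R j := by
  have := conj_mem_cj (g := t) hu
  rwa [b.cj_UU (b.X_le_NV ht) htj] at this

/-- element level: `[M, a, b] ≠ 0 ⟹ [M, a, b^t] ≤ [M, a, b]` -/
theorem same_el [Finite F] [CharP F 2] (b : BTC V R) (c : Coord V R i j vv w1 w2) {u u' t : G}
    (hu : u ∈ UU V R j) (hu' : u' ∈ UU V R j) (ht : t ∈ XX V R) (hti : cj t (R i) = R i)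
    (htj : cj t (R j) = R j)
    (hne : ∃ w ∈ WW V (R i), (w * u * w⁻¹ * u⁻¹) * u' * (w * u * w⁻¹ * u⁻¹)⁻¹ * u'⁻¹ ∉ R i)
    {w : G} (hw : w ∈ WW V (R i)) : ∃ w' ∈ WW V (R i),
      (w * u * w⁻¹ * u⁻¹) * (t * u' * t⁻¹) * (w * u * w⁻¹ * u⁻¹)⁻¹ * (t * u' * t⁻¹)⁻¹ *
      ((w' * u * w'⁻¹ * u⁻¹) * u' * (w' * u * w'⁻¹ * u⁻¹)⁻¹ * u'⁻¹)⁻¹ ∈ R i := by
  obtain ⟨M, B, _, _, _, _, p, r, f, m⟩ := b.toBT.exists_mod i
  have hut := conj_mem_U b.toBT hu' ht htj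
  obtain ⟨w₀, hw₀, h0⟩ := hne
  obtain ⟨a, ha⟩ := c2 m b c (h := el b.toBT i hu) hu (line_of b.toBT hu' ht hti htj hut)
    ⟨p w₀, fun h1 => h0 ((m.p_ker _ (cm2_mem b.toBT hw₀ hu hu')).1
      ((p_cm2 m b.toBT (h := el b.toBT i hu) (h' := el b.toBT i hu') hw₀ hu).trans h1))⟩ (p w)
  obtain ⟨w', hw', rfl⟩ := m.p_surj a
  refine ⟨w', hw', ?_⟩
  rw [← m.p_eq_iff (cm2_mem b.toBT hw hu hut) (cm2_mem b.toBT hw' hu hu')]
  exact ((p_cm2 m b.toBT (h := el b.toBT i hu) (h' := el b.toBT i hut) hw hu).trans ha).trans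
    (p_cm2 m b.toBT (h := el b.toBT i hu) (h' := el b.toBT i hu') hw' hu).symm

/-- element level: `[M, a, b, b^t] = 0` -/
theorem line1_el (b : BTC V R) {u u' t : G}
    (hu : u ∈ UU V R j) (hu' : u' ∈ UU V R j) (ht : t ∈ XX V R) (hti : cj t (R i) = R i)
    (htj : cj t (R j) = R j) {w : G} (hw : w ∈ WW V (R i)) :
    ((w * u * w⁻¹ * u⁻¹) * u' * (w * u * w⁻¹ * u⁻¹)⁻¹ * u'⁻¹) * (t * u' * t⁻¹) *
      ((w * u * w⁻¹ * u⁻¹) * u' * (w * u * w⁻¹ * u⁻¹)⁻¹ * u'⁻¹)⁻¹ * (t * u' * t⁻¹)⁻¹ ∈ R i := by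
  obtain ⟨M, B, _, _, _, _, p, r, f, m⟩ := b.toBT.exists_mod i
  have hut := conj_mem_U b.toBT hu' ht htj
  have h3 := c3 m b (h := el b.toBT i hu) hu (line_of b.toBT hu' ht hti htj hut) (p w)
  have hW := cm2_mem b.toBT hw hu hu'
  have h4 := p_cm m b.toBT (h := el b.toBT i hut) hW
  have h5 := p_cm2 m b.toBT (h := el b.toBT i hu) (h' := el b.toBT i hu') hw hu
  have h6 : p ((w * u * w⁻¹ * u⁻¹) * u' * (w * u * w⁻¹ * u⁻¹)⁻¹ * u'⁻¹) =
      br (el b.toBT i hu') (br (el b.toBT i hu) (p w)) := h5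
  rw [h6, h3] at h4
  refine (m.p_ker _ ?_).1 h4
  exact UU_le_WW i (b.WU' hW hut)

/-- element level: `[M, a, a^t] ≤ e` (restatement of `N0_T`) -/
theorem line0_el (b : BTC V R) {u t : G} (hu : u ∈ UU V R j) (ht : t ∈ XX V R) (hti : cj t (R i) = R i)
    (htj : cj t (R j) = R j) {w : G} (hw : w ∈ WW V (R i)) :
    (w * u * w⁻¹ * u⁻¹) * (t * u * t⁻¹) * (w * u * w⁻¹ * u⁻¹)⁻¹ * (t * u * t⁻¹)⁻¹ ∈ V :=
  N0_T b hw hu ht hti htj

/-- `[Z(W i), U j] ≤ R i` -/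
theorem Z_U (b : BTC V R) (hij : i ≠ j) {z u : G} (hz : z ∈ ZZ V R i) (hu : u ∈ UU V R j) :
    z * u * z⁻¹ * u⁻¹ ∈ R i := b.cen_W_U hij hz.2 hu

/-- LEMMA N with coordinates only, `4 ≤ |F|` -/
theorem lemN' [Finite G] [Finite F] [CharP F 2] (b : BTC V R) (c : Coord V R i j vv w1 w2)
    (hq : 4 ≤ Nat.card F) {u : G} (hu : u ∈ UU V R j) (hD : u ∉ DD V R) {x : G} (hx : x ∈ V) :
    ∃ w ∈ WW V (R i), ∃ ζ ∈ ZZ V R i, x = (w * u * w⁻¹ * u⁻¹) * ζ := by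
  obtain ⟨t, τ⟩ := coord_exists_torD b.toBT c (b.cen_W_isPGroup i)
  exact lemN b (exists_ne hq) c τ hu hD hx

end Cfsg.Agent.Omega.Lie.LemN

end

section


/-!
# NODE LIE, TEXT LIE-2 (#12707): the cubic module `M = W i / R i` of `H = N(R i)/O₂(N(R i))`

* `MM b i = W i / R i`, `cls`, `rho b i : HQ (R i) →* MulAut (MM b i)`, `eV b i = V / R i`;
* `cub` : the structure `LQ.Cub (rho b i) (AA V R i j) (TT τ) (eV b i)`.
-/

set_option autoImplicit false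

namespace Cfsg.Agent.Omega.Lie.CubQ

open Subgroup Cfsg.Agent.Omega.BTwo Cfsg.Agent.Omega.Lie Cfsg.Agent.Omega.Lie.Quot Cfsg.Agent.Omega.Lie.LQ
open Cfsg.Agent.Omega.Lie.LemN (ZZ ZZ_le_W ZZ_le_U cj_ZZ hallWitt N0_T n1_el same_el lemN)

universe u v w

variable {G : Type u} [Group G] {ι : Type w} {V : Subgroup G} {R : ι → Subgroup G}

theorem normal_R (b : BT V R) (i : ι) : ((R i).subgroupOf (WW V (R i))).Normal :=
  ⟨fun n hn g => conj_mem_of_normalizer (g := (g : G)) (x := (n : G)) (b.W_le_N i g.2) hn⟩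

/-- `M = W i / R i` -/
def MM (_ : BT V R) (i : ι) : Type u := ↥(WW V (R i)) ⧸ (R i).subgroupOf (WW V (R i))

noncomputable instance instGroupMM (b : BT V R) (i : ι) : Group (MM b i) :=
  letI := normal_R b i
  inferInstanceAs (Group (↥(WW V (R i)) ⧸ (R i).subgroupOf (WW V (R i))))

/-- the projection `W i → M` -/
noncomputable def mk (b : BT V R) (i : ι) : WW V (R i) →* MM b i :=
  letI := normal_R b i
  QuotientGroup.mk' _

/-- the class of `x ∈ W i` -/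
noncomputable def cls (b : BT V R) (i : ι) (x : G) (hx : x ∈ WW V (R i)) : MM b i := mk b i ⟨x, hx⟩

theorem exists_cls (b : BT V R) (i : ι) (m : MM b i) : ∃ (x : G) (hx : x ∈ WW V (R i)), cls b i x hx = m := by
  have := normal_R b i
  obtain ⟨x, rfl⟩ := QuotientGroup.mk'_surjective ((R i).subgroupOf (WW V (R i))) m
  exact ⟨x, x.2, rfl⟩

theorem cls_eq_one {b : BT V R} {i : ι} {x : G} {hx : x ∈ WW V (R i)} : cls b i x hx = 1 ↔ x ∈ R i := by
  have := normal_R b i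
  exact QuotientGroup.eq_one_iff (N := (R i).subgroupOf (WW V (R i))) (⟨x, hx⟩ : WW V (R i))

theorem cls_mul {b : BT V R} {i : ι} {x y : G} (hx : x ∈ WW V (R i)) (hy : y ∈ WW V (R i)) :
    cls b i x hx * cls b i y hy = cls b i (x * y) (mul_mem hx hy) :=
  ((mk b i).map_mul ⟨x, hx⟩ ⟨y, hy⟩).symm

theorem cls_inv {b : BT V R} {i : ι} {x : G} (hx : x ∈ WW V (R i)) :
    (cls b i x hx)⁻¹ = cls b i x⁻¹ (inv_mem hx) :=
  ((mk b i).map_inv ⟨x, hx⟩).symm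

theorem cls_eq {b : BT V R} {i : ι} {x y : G} {hx : x ∈ WW V (R i)} {hy : y ∈ WW V (R i)} :
    cls b i x hx = cls b i y hy ↔ x⁻¹ * y ∈ R i := by
  rw [← inv_mul_eq_one, cls_inv, cls_mul, cls_eq_one]

noncomputable instance instCommGroupMM (b : BT V R) (i : ι) : CommGroup (MM b i) :=
  { instGroupMM b i with
    mul_comm := by
      intro m n
      obtain ⟨x, hx, rfl⟩ := exists_cls b i m
      obtain ⟨y, hy, rfl⟩ := exists_cls b i n
      change cls b i x hx * cls b i y hy = cls b i y hy * cls b i x hx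
      rw [cls_mul, cls_mul, cls_eq]
      have h := b.WW_comm i (inv_mem hy) (inv_mem hx)
      have e : (x * y)⁻¹ * (y * x) = y⁻¹ * x⁻¹ * y⁻¹⁻¹ * x⁻¹⁻¹ := by group
      rwa [e] }

theorem sq2 (b : BT V R) (i : ι) (m : MM b i) : m * m = 1 := by
  obtain ⟨x, hx, rfl⟩ := exists_cls b i m
  exact (cls_mul hx hx).trans (cls_eq_one.2 (b.W_sq i hx))

instance instFiniteMM [Finite G] (b : BT V R) (i : ι) : Finite (MM b i) :=
  inferInstanceAs (Finite (↥(WW V (R i)) ⧸ (R i).subgroupOf (WW V (R i))))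

/-! ### the action -/

theorem conj_W {i : ι} {g x : G} (hg : g ∈ normalizer (R i : Set G)) (hx : x ∈ WW V (R i)) :
    g * x * g⁻¹ ∈ WW V (R i) := conj_mem_of_normalizer (normalizer_le_WW V (R i) hg) hx

/-- conjugation with `g ∈ N(R i)` on `M` -/
noncomputable def actHom (b : BT V R) (i : ι) (g : ↥(normalizer (R i : Set G))) : MM b i →* MM b i :=
  letI := normal_R b i
  QuotientGroup.lift ((R i).subgroupOf (WW V (R i)))
    { toFun := fun x => cls b i (g * x * (g : G)⁻¹) (conj_W g.2 x.2)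
      map_one' := by
        rw [cls_eq_one]
        have : (g : G) * ((1 : WW V (R i)) : G) * (g : G)⁻¹ = 1 := by simp
        rw [this]
        exact one_mem _
      map_mul' := fun x y => by
        rw [cls_mul, cls_eq]
        have : ((g : G) * ((x * y : WW V (R i)) : G) * (g : G)⁻¹)⁻¹ *
            (g * x * (g : G)⁻¹ * (g * y * (g : G)⁻¹)) = 1 := by
          rw [Subgroup.coe_mul]; group
        rw [this]
        exact one_mem _ }
    (fun x hx => cls_eq_one.2 (conj_mem_of_normalizer g.2 hx))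

theorem actHom_cls (b : BT V R) (i : ι) (g : ↥(normalizer (R i : Set G))) {x : G} (hx : x ∈ WW V (R i)) :
    actHom b i g (cls b i x hx) = cls b i (g * x * (g : G)⁻¹) (conj_W g.2 hx) := rfl

theorem cls_congr {b : BT V R} {i : ι} {x y : G} {hx : x ∈ WW V (R i)} (h : x = y) :
    cls b i x hx = cls b i y (h ▸ hx) := by subst h; rfl

theorem actHom_comp (b : BT V R) (i : ι) (g h : ↥(normalizer (R i : Set G))) (m : MM b i) :
    actHom b i g (actHom b i h m) = actHom b i (g * h) m := by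
  obtain ⟨x, hx, rfl⟩ := exists_cls b i m
  rw [actHom_cls, actHom_cls, actHom_cls]
  refine cls_congr ?_
  rw [Subgroup.coe_mul]; group

theorem actHom_one (b : BT V R) (i : ι) (m : MM b i) : actHom b i 1 m = m := by
  obtain ⟨x, hx, rfl⟩ := exists_cls b i m
  rw [actHom_cls]
  refine cls_congr ?_
  simp

/-- the action of `N(R i)` on `M` -/
noncomputable def act (b : BT V R) (i : ι) : ↥(normalizer (R i : Set G)) →* MulAut (MM b i) where
  toFun g :=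
    { toFun := actHom b i g
      invFun := actHom b i g⁻¹
      left_inv := fun m => by rw [actHom_comp, inv_mul_cancel, actHom_one]
      right_inv := fun m => by rw [actHom_comp, mul_inv_cancel, actHom_one]
      map_mul' := (actHom b i g).map_mul }
  map_one' := MulEquiv.ext fun m => actHom_one b i m
  map_mul' g h := MulEquiv.ext fun m => (actHom_comp b i g h m).symm

theorem act_cls (b : BT V R) (i : ι) (g : ↥(normalizer (R i : Set G))) {x : G} (hx : x ∈ WW V (R i)) :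
    act b i g (cls b i x hx) = cls b i (g * x * (g : G)⁻¹) (conj_W g.2 hx) := rfl

theorem pCore_le_ker (b : BT V R) (i : ι) : pCore 2 ↥(normalizer (R i : Set G)) ≤ (act b i).ker := by
  intro g hg
  rw [MonoidHom.mem_ker]
  refine MulEquiv.ext fun m => ?_
  obtain ⟨x, hx, rfl⟩ := exists_cls b i m
  rw [act_cls, MulAut.one_apply, cls_eq]
  have hgQ : (g : G)⁻¹ ∈ QQ (R i) := inv_mem ⟨g, hg, rfl⟩
  have h1 := b.WQ i (inv_mem hgQ) (inv_mem hx)
  rw [inv_inv] at h1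
  have e : (g * x * (g : G)⁻¹)⁻¹ * x = g * x⁻¹ * (g : G)⁻¹ * x⁻¹⁻¹ := by group
  rwa [e]

/-- the action of `H = N(R i)/O₂(N(R i))` on `M = W i / R i` -/
noncomputable def rho (b : BT V R) (i : ι) : HQ (R i) →* MulAut (MM b i) :=
  QuotientGroup.lift _ (act b i) (pCore_le_ker b i)

theorem rho_cls (b : BT V R) {i : ι} {g : G} (hg : g ∈ normalizer (R i : Set G)) {x : G}
    (hx : x ∈ WW V (R i)) : rho b i (pr (R i) ⟨g, hg⟩) (cls b i x hx) = cls b i (g * x * g⁻¹) (conj_W hg hx) := rfl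

theorem cm_W {i : ι} {g x : G} (hg : g ∈ normalizer (R i : Set G)) (hx : x ∈ WW V (R i)) :
    x * g * x⁻¹ * g⁻¹ ∈ WW V (R i) := by
  have e : x * g * x⁻¹ * g⁻¹ = x * (g * x⁻¹ * g⁻¹) := by group
  rw [e]
  exact mul_mem hx (conj_W hg (inv_mem hx))

/-- `[m, g]` is the class of the commutator -/
theorem br_cls (b : BT V R) {i : ι} {g : G} (hg : g ∈ normalizer (R i : Set G)) {x : G} (hx : x ∈ WW V (R i)) :
    br (rho b i (pr (R i) ⟨g, hg⟩)) (cls b i x hx) = cls b i (x * g * x⁻¹ * g⁻¹) (cm_W hg hx) := by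
  rw [br_apply, rho_cls]
  have e : cls b i (x * g * x⁻¹ * g⁻¹) (cm_W hg hx) = cls b i x hx * (cls b i (g * x * g⁻¹) (conj_W hg hx))⁻¹ := by
    rw [cls_inv, cls_mul]
    exact cls_congr (by group)
  rw [e, inv_eq_of_mul_eq_one_left (sq2 b i (cls b i (g * x * g⁻¹) (conj_W hg hx)))]
  exact mul_comm _ _

/-- `e = V / R i` -/
noncomputable def eV (b : BT V R) (i : ι) : Subgroup (MM b i) := (V.subgroupOf (WW V (R i))).map (mk b i)

theorem mem_eV {b : BT V R} {i : ι} {m : MM b i} :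
    m ∈ eV b i ↔ ∃ (x : G) (hx : x ∈ V), cls b i x (V_le_WW V (R i) hx) = m := by
  unfold eV
  rw [mem_map]
  constructor
  · rintro ⟨x, hx, rfl⟩; exact ⟨x, mem_subgroupOf.1 hx, rfl⟩
  · rintro ⟨x, hx, rfl⟩; exact ⟨⟨x, V_le_WW V (R i) hx⟩, mem_subgroupOf.2 hx, rfl⟩

/-! ### the fields -/

section fields

variable {i j : ι} {F : Type v} [Field F] {vv : F → F → G} {t : F → G} {w1 w2 : F → G}

theorem Ae (b : BT V R) {a : HQ (R i)} (ha : a ∈ AA V R i j) {m : MM b i} (hm : m ∈ eV b i) :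
    rho b i a m = m := by
  obtain ⟨u, hu, rfl⟩ := (mem_AA b).1 ha
  obtain ⟨x, hx, rfl⟩ := mem_eV.1 hm
  rw [rho_cls]
  refine cls_congr ?_
  rw [← mem_centralizer_iff.1 (UU_le_cen j hu) x hx, mul_inv_cancel_right]

/-- `t a t⁻¹` -/
theorem pr_conj {R : Subgroup G} {g h : G} (hg : g ∈ normalizer (R : Set G)) (hh : h ∈ normalizer (R : Set G)) :
    pr R ⟨g, hg⟩ * pr R ⟨h, hh⟩ * (pr R ⟨g, hg⟩)⁻¹ =
      pr R ⟨g * h * g⁻¹, mul_mem (mul_mem hg hh) (inv_mem hg)⟩ := rfl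

theorem line0 (b : BTC V R) (τ : TorD V R i j vv t) {a : HQ (R i)} (ha : a ∈ AA V R i j) {x : HQ (R i)}
    (hx : x ∈ TT τ) (m : MM b.toBT i) :
    br (rho b.toBT i (x * a * x⁻¹)) (br (rho b.toBT i a) m) ∈ eV b.toBT i := by
  obtain ⟨u, hu, rfl⟩ := (mem_AA b.toBT).1 ha
  obtain ⟨c, hc, rfl⟩ := (mem_TT τ).1 hx
  obtain ⟨w, hw, rfl⟩ := exists_cls b.toBT i m
  rw [pr_conj, br_cls, br_cls]
  refine mem_eV.2 ⟨_, N0_T b hw hu (τ.memX c hc) (cj_eq_self_iff.2 (τ.normR hc))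
    (cj_eq_self_iff.2 (τ.normR' hc)), rfl⟩

/-- `T` is alternating: `[[y, u], u] = 1` for `y ∈ U i`, `u ∈ U j` -/
theorem alt (b : BT V R) {i j : ι} {y u : G} (hy : y ∈ UU V R i) (hu : u ∈ UU V R j) :
    u * (y * u * y⁻¹ * u⁻¹) * u⁻¹ = y * u * y⁻¹ * u⁻¹ := by
  have h1 := b.Y_comm (UU_le_YY i hy) (UU_le_YY j hu)
  have h2 := b.D_sq h1
  have h3 : y * (u * u) * y⁻¹ = u * u := by
    rw [← mem_centralizer_iff.1 (UU_le_cen i hy) _ (b.R_le j (b.W_sq j (UU_le_WW j hu))), mul_inv_cancel_right]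
  have h4 : (y * u * y⁻¹ * u⁻¹) * (u * (y * u * y⁻¹ * u⁻¹) * u⁻¹) = 1 := by
    calc (y * u * y⁻¹ * u⁻¹) * (u * (y * u * y⁻¹ * u⁻¹) * u⁻¹) = (y * (u * u) * y⁻¹) * (u * u)⁻¹ := by group
      _ = 1 := by rw [h3, mul_inv_cancel]
  exact mul_left_cancel (h4.trans h2.symm)

/-- `[[y, u], t u t⁻¹] = 1` for `y ∈ U i`, `u ∈ U j`, `t ∈ X` fixing `R i`, `R j` -/
theorem alt_T (b : BT V R) {i j : ι} {y u t : G} (hy : y ∈ UU V R i) (hu : u ∈ UU V R j) (ht : t ∈ XX V R)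
    (hti : cj t (R i) = R i) (htj : cj t (R j) = R j) :
    (y * u * y⁻¹ * u⁻¹) * (t * u * t⁻¹) = (t * u * t⁻¹) * (y * u * y⁻¹ * u⁻¹) := by
  have htN := b.X_le_NV ht
  have hu' : t * u * t⁻¹ ∈ UU V R j := by
    have := conj_mem_cj (g := t) hu
    rwa [b.cj_UU htN htj] at this
  have hti' : cj t⁻¹ (R i) = R i := by rw [← cj_eq_iff.1 hti]
  have hy' : t⁻¹ * y * t ∈ UU V R i := by
    have := conj_mem_cj (g := t⁻¹) hy
    rwa [b.cj_UU (inv_mem htN) hti', inv_inv] at this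
  -- symmetry
  have hc : (t * u * t⁻¹) * u * (t * u * t⁻¹)⁻¹ * u⁻¹ ∈ V :=
    b.R_le j (b.WW_comm j (UU_le_WW j hu') (UU_le_WW j hu))
  have h1 := hallWitt b (UU_le_YY j hu') (UU_le_YY j hu) (UU_le_YY i hy) hc
  -- `[t u t⁻¹, y] = t [u, y'] t⁻¹`
  have h2 := alt b hy' hu
  have hd := b.Y_comm (UU_le_YY i hy') (UU_le_YY j hu)
  set d := (t⁻¹ * y * t) * u * (t⁻¹ * y * t)⁻¹ * u⁻¹ with hd'
  have e1 : (t * u * t⁻¹) * y * (t * u * t⁻¹)⁻¹ * y⁻¹ = t * d⁻¹ * t⁻¹ := by rw [hd']; group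
  have h3 : t * d⁻¹ * t⁻¹ * d⁻¹⁻¹ ∈ V := b.XD ht (inv_mem hd)
  have h4 : u * (t * d⁻¹ * t⁻¹) * u⁻¹ = t * d⁻¹ * t⁻¹ := by
    have h5 := mem_centralizer_iff.1 (UU_le_cen j hu) _ h3
    have h6 : u * d⁻¹ * u⁻¹ = d⁻¹ := by
      calc u * d⁻¹ * u⁻¹ = (u * d * u⁻¹)⁻¹ := by group
        _ = d⁻¹ := by rw [h2]
    calc u * (t * d⁻¹ * t⁻¹) * u⁻¹ = (u * (t * d⁻¹ * t⁻¹ * d⁻¹⁻¹)) * d⁻¹ * u⁻¹ := by group
      _ = (t * d⁻¹ * t⁻¹ * d⁻¹⁻¹) * (u * d⁻¹ * u⁻¹) := by rw [← h5]; group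
      _ = t * d⁻¹ * t⁻¹ := by rw [h6]; group
  rw [e1] at h1
  have h7 : u * (t * d⁻¹ * t⁻¹) * u⁻¹ * (t * d⁻¹ * t⁻¹)⁻¹ = 1 := by rw [h4]; group
  rw [h7, mul_inv_eq_one] at h1
  -- `[u, y]⁻¹ = [y, u]`
  have e2 : y * u * y⁻¹ * u⁻¹ = (u * y * u⁻¹ * y⁻¹)⁻¹ := by group
  have hcomm : Commute (t * u * t⁻¹) (u * y * u⁻¹ * y⁻¹) := by
    rw [mul_inv_eq_iff_eq_mul] at h1
    exact h1
  rw [e2]
  exact hcomm.inv_right.eq.symm

theorem line1 (b : BT V R) (τ : TorD V R i j vv t) {a a' : HQ (R i)} (ha : a ∈ AA V R i j)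
    (ha' : a' ∈ AA V R i j) {x : HQ (R i)} (hx : x ∈ TT τ) (m : MM b i) :
    rho b i (x * a' * x⁻¹) (br (rho b i a') (br (rho b i a) m)) = br (rho b i a') (br (rho b i a) m) := by
  obtain ⟨u, hu, rfl⟩ := (mem_AA b).1 ha
  obtain ⟨u', hu', rfl⟩ := (mem_AA b).1 ha'
  obtain ⟨c, hc, rfl⟩ := (mem_TT τ).1 hx
  obtain ⟨w, hw, rfl⟩ := exists_cls b i m
  rw [pr_conj, br_cls, br_cls, rho_cls]
  refine cls_congr ?_
  have h := alt_T b (b.WU' hw hu) hu' (τ.memX c hc) (cj_eq_self_iff.2 (τ.normR hc))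
    (cj_eq_self_iff.2 (τ.normR' hc))
  rw [← h, mul_inv_cancel_right]

/-- `g ∈ N(R i)` normalises `Z(W i)` -/
theorem conj_ZZ (b : BT V R) {g ζ : G} (hg : g ∈ normalizer (R i : Set G)) (hζ : ζ ∈ ZZ V R i) :
    g * ζ * g⁻¹ ∈ ZZ V R i := by
  have h1 : g ∈ normalizer (ZZ V R i : Set G) := by
    rw [← cj_eq_self_iff]; exact cj_ZZ b (cj_eq_self_iff.2 hg)
  exact conj_mem_of_normalizer h1 hζ

/-- the subgroup of `H` centralising `rad = Z(W i) / R i` -/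
noncomputable def cenRad (b : BT V R) (i : ι) : Subgroup (HQ (R i)) where
  carrier := {h | ∀ (ζ : G) (hζ : ζ ∈ ZZ V R i), rho b i h (cls b i ζ (ZZ_le_W i hζ)) = cls b i ζ (ZZ_le_W i hζ)}
  one_mem' := fun ζ hζ => by rw [map_one, MulAut.one_apply]
  mul_mem' := fun {h k} hh hk ζ hζ => by rw [map_mul, MulAut.mul_apply, hk ζ hζ, hh ζ hζ]
  inv_mem' := fun {h} hh ζ hζ => by
    have h1 := congrArg (fun z => (rho b i h)⁻¹ z) (hh ζ hζ)
    have h2 : (rho b i h)⁻¹ (rho b i h (cls b i ζ (ZZ_le_W i hζ))) = cls b i ζ (ZZ_le_W i hζ) := by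
      rw [← MulAut.mul_apply, inv_mul_cancel, MulAut.one_apply]
    rw [map_inv]
    exact (h2.symm.trans h1).symm

theorem cenRad_normal (b : BT V R) (i : ι) : (cenRad b i).Normal := by
  constructor
  intro n hn g ζ hζ
  obtain ⟨x, hx, rfl⟩ := exists_pr g
  have hζ' : x⁻¹ * ζ * x ∈ ZZ V R i := by
    have := conj_ZZ b (inv_mem hx) hζ
    rwa [inv_inv] at this
  have e1 : rho b i (pr (R i) ⟨x, hx⟩)⁻¹ (cls b i ζ (ZZ_le_W i hζ)) = cls b i (x⁻¹ * ζ * x) (ZZ_le_W i hζ') := by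
    have h1 := rho_cls b (inv_mem hx) (ZZ_le_W i hζ)
    have h2 : (pr (R i) ⟨x, hx⟩)⁻¹ = pr (R i) ⟨x⁻¹, inv_mem hx⟩ := rfl
    rw [h2, h1]
    exact cls_congr (by rw [inv_inv])
  rw [map_mul, map_mul, MulAut.mul_apply, MulAut.mul_apply, e1, hn _ hζ', rho_cls b hx (ZZ_le_W i hζ')]
  exact cls_congr (by group)

theorem A_le_cenRad (b : BTC V R) (hij : i ≠ j) : AA V R i j ≤ cenRad b.toBT i := by
  intro a ha ζ hζ
  obtain ⟨u, hu, rfl⟩ := (mem_AA b.toBT).1 ha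
  rw [rho_cls, cls_eq]
  have h1 := b.cen_W_U hij (inv_mem (mem_inf.1 hζ).2) hu
  have e : (u * ζ * u⁻¹)⁻¹ * ζ = u * (ζ⁻¹ * u⁻¹ * ζ⁻¹⁻¹ * u⁻¹⁻¹) * u⁻¹ := by group
  have h2 := b.cen_W_U hij (inv_mem (mem_inf.1 hζ).2) (inv_mem hu)
  rw [e]
  exact conj_mem_of_normalizer (U_le_N b.toBT i j hu) h2

theorem lemN_rho [Finite G] [CharP F 2] (b : BTC V R) (hF : ∃ a : F, a ≠ 0 ∧ a ≠ 1) (c : Coord V R i j vv w1 w2)
    (τ : TorD V R i j vv t) {a : HQ (R i)} (ha : a ∈ AA V R i j) (ha1 : a ≠ 1) {h : HQ (R i)}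
    (hh : h ∈ normalClosure (AA V R i j : Set (HQ (R i))))
    (hc : ∀ m, rho b.toBT i h (br (rho b.toBT i a) m) = br (rho b.toBT i a) m) {m : MM b.toBT i}
    (hm : m ∈ eV b.toBT i) : rho b.toBT i h m = m := by
  have hN := cenRad_normal b.toBT i
  have hr : h ∈ cenRad b.toBT i := normalClosure_le_normal (A_le_cenRad b c.ne) hh
  obtain ⟨u, hu, rfl⟩ := (mem_AA b.toBT).1 ha
  obtain ⟨x, hx, rfl⟩ := mem_eV.1 hm
  have huD : u ∉ DD V R := by
    intro h1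
    apply ha1
    rw [pr_eq_one]
    exact (U_inf_Q b.toBT c.ne hu).2 h1
  obtain ⟨w, hw, ζ, hζ, e⟩ := lemN b hF c τ hu huD hx
  have hcW := cm_W (U_le_N b.toBT i j hu) hw
  have e1 : cls b.toBT i x (V_le_WW V (R i) hx) =
      br (rho b.toBT i (pr (R i) ⟨u, U_le_N b.toBT i j hu⟩)) (cls b.toBT i w hw) * cls b.toBT i ζ (ZZ_le_W i hζ) := by
    rw [br_cls, cls_mul]
    exact cls_congr e
  rw [e1, map_mul, hc, hr ζ hζ]

/-- `A` is normal in the centraliser of `e` -/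
theorem nrm (b : BT V R) (hij : i ≠ j) {h : HQ (R i)} (hh : ∀ m ∈ eV b i, rho b i h m = m) {a : HQ (R i)}
    (ha : a ∈ AA V R i j) : h * a * h⁻¹ ∈ AA V R i j := by
  obtain ⟨g, hg, rfl⟩ := exists_pr h
  obtain ⟨u, hu, rfl⟩ := (mem_AA b).1 ha
  have key : ∀ x ∈ V, g * x * g⁻¹ ∈ V := by
    intro x hx
    have h1 := hh _ (mem_eV.2 ⟨x, hx, rfl⟩)
    rw [rho_cls, cls_eq] at h1
    have h2 := mul_mem hx (inv_mem (b.R_le i h1))
    have e : x * ((g * x * g⁻¹)⁻¹ * x)⁻¹ = g * x * g⁻¹ := by group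
    rwa [e] at h2
  have key' : ∀ x ∈ V, g⁻¹ * x * g ∈ V := by
    intro x hx
    have h1 := hh _ (mem_eV.2 ⟨x, hx, rfl⟩)
    rw [rho_cls, cls_eq] at h1
    have h3 := conj_inv_mem_of_normalizer hg h1
    have h2 := mul_mem hx (b.R_le i h3)
    have e : g⁻¹ * ((g * x * g⁻¹)⁻¹ * x) * g = x⁻¹ * (g⁻¹ * x * g) := by group
    rw [e, mul_inv_cancel_left] at h2
    exact h2
  have hgV : g ∈ normalizer (V : Set G) := by
    rw [mem_normalizer_iff]
    intro x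
    refine ⟨key x, fun hx => ?_⟩
    have h1 := key' _ hx
    have e : g⁻¹ * (g * x * g⁻¹) * g = x := by group
    rwa [e] at h1
  have hy : g * u * g⁻¹ ∈ YY V R := conj_mem_of_normalizer (b.NV_le_NY hgV) (UU_le_YY j hu)
  rw [b.Y_eq hij] at hy
  have h1 : im (R i) (UU V R i ⊔ UU V R j) = AA V R i j := by
    rw [im_sup (U_le_N b i i) (U_le_N b i j), im_eq_bot ((UU_le_WW i).trans (b.W_le_Q i)), bot_sup_eq]
    rfl
  rw [pr_conj, ← h1]
  exact pr_mem_im _ hy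

/-! ### the order of `M` -/

/-- bound for an index -/
theorem relIndex_le {H K : Subgroup G} {X : Type*} [Finite X] (f : K → X)
    (hf : ∀ x y : K, f x = f y → (x : G)⁻¹ * y ∈ H) : H.relIndex K ≤ Nat.card X := by
  rw [relIndex, index]
  refine Nat.card_le_card_of_injective (fun q : K ⧸ H.subgroupOf K => f q.out) ?_
  intro q q' h
  have h1 := hf _ _ h
  rw [← QuotientGroup.out_eq' q, ← QuotientGroup.out_eq' q', QuotientGroup.eq]
  exact h1

theorem card_M (b : BT V R) (i : ι) : Nat.card (MM b i) = (R i).relIndex (WW V (R i)) := rfl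

/-- if `A` is one line then `|M| ≤ q ^ 4` -/
theorem card_le [Finite G] [Finite F] (b : BTC V R) (c : Coord V R i j vv w1 w2)
    (τ : TorD V R i j vv t) (h : ∃ a ∈ AA V R i j, ∀ a' ∈ AA V R i j, a' ≠ 1 → ∃ x ∈ TT τ, a' = x * a * x⁻¹) :
    Nat.card (MM b.toBT i) ≤ (Nat.card (TT τ) + 1) ^ 4 := by
  have hij := c.ne
  obtain ⟨a, ha, hline⟩ := h
  obtain ⟨u0, hu0, rfl⟩ := (mem_AA b.toBT).1 ha
  set q := Nat.card (TT τ) + 1 with hq
  have hqF : q = Nat.card F := card_T b.toBT τ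
  -- `|A| ≤ q`
  have hA : Nat.card (AA V R i j) ≤ q := by
    have h1 := Nat.card_le_card_of_surjective (fun x : Option (TT τ) => (match x with
      | none => 1
      | some x => ⟨(x : HQ (R i)) * pr (R i) ⟨u0, U_le_N b.toBT i j hu0⟩ * (x : HQ (R i))⁻¹,
          TA_mem b.toBT τ x.2 ha⟩ : AA V R i j)) (by
        rintro ⟨y, hy⟩
        by_cases hy1 : y = 1
        · exact ⟨none, Subtype.ext hy1.symm⟩
        · obtain ⟨x, hx, e⟩ := hline y hy hy1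
          exact ⟨some ⟨x, hx⟩, Subtype.ext e.symm⟩)
    rwa [Finite.card_option] at h1
  have hRV : (R i).relIndex V ≤ q := by
    rw [hqF]
    have h1 : ∀ x : V, ∃ β : F, ∃ p, vv p β = (x : G) := fun x => by
      obtain ⟨p, β, e⟩ := (c.mem_V x).1 x.2
      exact ⟨β, p, e⟩
    choose f hf using h1
    refine relIndex_le f ?_
    intro x y hxy
    obtain ⟨p, hp⟩ := hf x
    obtain ⟨p', hp'⟩ := hf y
    rw [← hp, ← hp', hxy]
    rw [c.mem_R1]
    refine ⟨p' - p, ?_⟩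
    have e := c.v_add p (f y) (p' - p) 0
    rw [add_zero, add_sub_cancel] at e
    rw [e]; group
  have hVD : V.relIndex (DD V R) ≤ q := by
    have hRj : Nat.card (R j) ≤ q := by
      rw [hqF]
      refine Nat.card_le_card_of_surjective (fun x : F => (⟨vv 0 x, (c.mem_R2 _).2 ⟨x, rfl⟩⟩ : R j)) ?_
      rintro ⟨y, hy⟩
      obtain ⟨x, hx⟩ := (c.mem_R2 y).1 hy
      exact ⟨x, Subtype.ext hx⟩
    refine (relIndex_le (X := R j) (fun d : DD V R => ⟨(d : G) * u0 * (d : G)⁻¹ * u0⁻¹, b.DU d.2 hu0⟩) ?_).trans hRj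
    rintro ⟨d, hd⟩ ⟨d', hd'⟩ hdd
    have e0 : d * u0 * d⁻¹ * u0⁻¹ = d' * u0 * d'⁻¹ * u0⁻¹ := congrArg Subtype.val hdd
    change d⁻¹ * d' ∈ V
    have hdm : d⁻¹ * d' ∈ DD V R := mul_mem (inv_mem hd) hd'
    have h1 : (d⁻¹ * d') * u0 = u0 * (d⁻¹ * d') := by
      have e1 : d * u0 * d⁻¹ = d' * u0 * d'⁻¹ := mul_right_cancel e0
      calc (d⁻¹ * d') * u0 = d⁻¹ * (d' * u0 * d'⁻¹) * d' := by group
        _ = d⁻¹ * (d * u0 * d⁻¹) * d' := by rw [e1]
        _ = u0 * (d⁻¹ * d') := by group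
    refine b.cen_DU (i := j) hdm fun h hh => ?_
    -- `h` is in `D` or in `(t u0 t⁻¹) D`
    have hpA : pr (R i) ⟨h, U_le_N b.toBT i j hh⟩ ∈ AA V R i j := (mem_AA b.toBT).2 ⟨h, hh, rfl⟩
    by_cases hp1 : pr (R i) ⟨h, U_le_N b.toBT i j hh⟩ = 1
    · have := (U_inf_Q b.toBT hij hh).1 ((pr_eq_one _).1 hp1)
      exact b.D_comm hdm this
    · obtain ⟨x, hx, e⟩ := hline _ hpA hp1
      obtain ⟨s, hs, rfl⟩ := (mem_TT τ).1 hx
      rw [pr_conj] at e
      have e2 := (pr_eq_pr _ _).1 e.symm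
      have hsu : t s * u0 * (t s)⁻¹ ∈ UU V R j := t_norm_U b.toBT τ hs hu0
      have hq' := (U_inf_Q b.toBT hij (mul_mem (inv_mem hsu) hh)).1 e2
      -- `d⁻¹ d'` commutes with `t u0 t⁻¹`
      have h2 : Commute (d⁻¹ * d') (t s * u0 * (t s)⁻¹) := by
        have hv := b.XD (inv_mem (τ.memX s hs)) hdm
        rw [inv_inv] at hv
        have hvu := mem_centralizer_iff.1 (UU_le_cen j hu0) _ hv
        have c1 : Commute ((t s)⁻¹ * (d⁻¹ * d') * t s) u0 := by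
          have e3 : (t s)⁻¹ * (d⁻¹ * d') * t s = ((t s)⁻¹ * (d⁻¹ * d') * t s * (d⁻¹ * d')⁻¹) * (d⁻¹ * d') := by
            group
          rw [e3]
          exact Commute.mul_left hvu h1
        have e4 : (t s)⁻¹ * (d⁻¹ * d') * t s * u0 = u0 * ((t s)⁻¹ * (d⁻¹ * d') * t s) := c1
        calc (d⁻¹ * d') * (t s * u0 * (t s)⁻¹) = t s * ((t s)⁻¹ * (d⁻¹ * d') * t s * u0) * (t s)⁻¹ := by group
          _ = t s * (u0 * ((t s)⁻¹ * (d⁻¹ * d') * t s)) * (t s)⁻¹ := by rw [e4]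
          _ = (t s * u0 * (t s)⁻¹) * (d⁻¹ * d') := by group
      have h3 : Commute (d⁻¹ * d') ((t s * u0 * (t s)⁻¹)⁻¹ * h) := b.D_comm hdm hq'
      have e5 : h = (t s * u0 * (t s)⁻¹) * ((t s * u0 * (t s)⁻¹)⁻¹ * h) := by group
      rw [e5]
      exact h2.mul_right h3
  have hDU : (DD V R).relIndex (UU V R i) ≤ q := by
    rw [b.card_U i j]
    refine (relIndex_le (X := AA V R i j) (fun u : UU V R j =>
      ⟨pr (R i) ⟨u, U_le_N b.toBT i j u.2⟩, (mem_AA b.toBT).2 ⟨u, u.2, rfl⟩⟩) ?_).trans hA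
    rintro ⟨u, hu⟩ ⟨u', hu'⟩ huu
    exact (U_inf_Q b.toBT hij (mul_mem (inv_mem hu) hu')).1 ((pr_eq_pr _ _).1 (congrArg Subtype.val huu))
  have hUW : (UU V R i).relIndex (WW V (R i)) ≤ q := by
    rw [hqF]
    have h1 : ∀ x : WW V (R i), ∃ s : F, ∀ β γ, (x : G) * vv β γ * (x : G)⁻¹ = vv (β + s * γ) γ :=
      fun x => c.W1_act x x.2
    choose f hf using h1
    refine relIndex_le f ?_
    intro x y hxy
    refine mem_inf.2 ⟨mul_mem (inv_mem x.2) y.2, ?_⟩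
    rw [mem_centralizer_iff]
    intro v hv
    obtain ⟨β, γ, rfl⟩ := (c.mem_V v).1 hv
    have h2 := hf x β γ
    have h3 := hf y β γ
    rw [← hxy, ← h2] at h3
    calc vv β γ * ((x : G)⁻¹ * y) = (x : G)⁻¹ * (x * vv β γ * (x : G)⁻¹) * y := by group
      _ = (x : G)⁻¹ * (y * vv β γ * (y : G)⁻¹) * y := by rw [h3]
      _ = (x : G)⁻¹ * y * vv β γ := by group
  rw [card_M, ← relIndex_mul_relIndex _ _ _ (b.R_le_U i) (UU_le_WW i),
    ← relIndex_mul_relIndex _ _ _ ((b.R_le i).trans (V_le_D V R)) (b.D_le_U i),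
    ← relIndex_mul_relIndex _ _ _ (b.R_le i) (V_le_D V R)]
  calc (R i).relIndex V * V.relIndex (DD V R) * (DD V R).relIndex (UU V R i) * (UU V R i).relIndex (WW V (R i))
      ≤ q * q * q * q := by gcongr
    _ = q ^ 4 := by ring

/-- `|e| = q` -/
theorem card_eV [Finite F] (b : BT V R) (c : Coord V R i j vv w1 w2) (τ : TorD V R i j vv t) :
    Nat.card (eV b i) ≤ Nat.card (TT τ) + 1 := by
  rw [card_T b τ]
  refine Nat.card_le_card_of_surjective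
    (fun β : F => (⟨cls b i (vv 0 β) (V_le_WW V (R i) (c.v_mem 0 β)), mem_eV.2 ⟨_, c.v_mem 0 β, rfl⟩⟩ : eV b i)) ?_
  rintro ⟨m, hm⟩
  obtain ⟨x, hx, rfl⟩ := mem_eV.1 hm
  obtain ⟨p, β, rfl⟩ := (c.mem_V x).1 hx
  refine ⟨β, Subtype.ext ?_⟩
  rw [cls_eq]
  have e := c.v_add 0 β p 0
  rw [zero_add, add_zero] at e
  rw [e, inv_mul_cancel_left, c.mem_R1]
  exact ⟨p, rfl⟩

/-- the class of the double commutator -/
theorem br_br_cls (b : BT V R) {u u' : G} (hu : u ∈ UU V R j) (hu' : u' ∈ UU V R j) {x : G}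
    (hx : x ∈ WW V (R i)) :
    br (rho b i (pr (R i) ⟨u', U_le_N b i j hu'⟩)) (br (rho b i (pr (R i) ⟨u, U_le_N b i j hu⟩)) (cls b i x hx)) =
      cls b i ((x * u * x⁻¹ * u⁻¹) * u' * (x * u * x⁻¹ * u⁻¹)⁻¹ * u'⁻¹)
        (cm_W (U_le_N b i j hu') (cm_W (U_le_N b i j hu) hx)) := by
  rw [br_cls, br_cls]

theorem full (b : BTC V R) [CharP F 2] (c : Coord V R i j vv w1 w2) {a a' : HQ (R i)} (ha : a ∈ AA V R i j)
    (ha' : a' ∈ AA V R i j) (h : ∃ m, br (rho b.toBT i a') (br (rho b.toBT i a) m) ≠ 1)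
    {y : MM b.toBT i} (hy : y ∈ eV b.toBT i) : ∃ m, y = br (rho b.toBT i a') (br (rho b.toBT i a) m) := by
  obtain ⟨u, hu, rfl⟩ := (mem_AA b.toBT).1 ha
  obtain ⟨u', hu', rfl⟩ := (mem_AA b.toBT).1 ha'
  obtain ⟨m, hm⟩ := h
  obtain ⟨w, hw, rfl⟩ := exists_cls b.toBT i m
  rw [br_br_cls b.toBT hu hu' hw, ne_eq, cls_eq_one] at hm
  obtain ⟨x, hx, rfl⟩ := mem_eV.1 hy
  obtain ⟨w', hw', h'⟩ := n1_el b c hu hu' ⟨w, hw, hm⟩ hx
  refine ⟨cls b.toBT i w' hw', ?_⟩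
  rw [br_br_cls b.toBT hu hu' hw', cls_eq]
  have h2 := conj_inv_mem_of_normalizer (b.W_le_N i (V_le_WW V (R i) hx)) h'
  set d := (w' * u * w'⁻¹ * u⁻¹) * u' * (w' * u * w'⁻¹ * u⁻¹)⁻¹ * u'⁻¹
  have e : x⁻¹ * d = x⁻¹ * (d * x⁻¹) * x := by group
  rwa [e]

theorem same (b : BTC V R) [Finite F] [CharP F 2] (c : Coord V R i j vv w1 w2) (τ : TorD V R i j vv t)
    {a a' : HQ (R i)} (ha : a ∈ AA V R i j) (ha' : a' ∈ AA V R i j) {x : HQ (R i)} (hx : x ∈ TT τ)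
    (h : ∃ m, br (rho b.toBT i (x * a' * x⁻¹)) (br (rho b.toBT i a) m) ≠ 1) (m : MM b.toBT i) :
    ∃ m', br (rho b.toBT i a') (br (rho b.toBT i a) m) = br (rho b.toBT i (x * a' * x⁻¹)) (br (rho b.toBT i a) m') := by
  obtain ⟨u, hu, rfl⟩ := (mem_AA b.toBT).1 ha
  obtain ⟨u', hu', rfl⟩ := (mem_AA b.toBT).1 ha'
  obtain ⟨s, hs, rfl⟩ := (mem_TT τ).1 hx
  have hut : t s * u' * (t s)⁻¹ ∈ UU V R j := t_norm_U b.toBT τ hs hu'
  obtain ⟨m0, hm0⟩ := h
  obtain ⟨w0, hw0, rfl⟩ := exists_cls b.toBT i m0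
  obtain ⟨w, hw, rfl⟩ := exists_cls b.toBT i m
  have e0 : pr (R i) ⟨t s, τ.normR hs⟩ * pr (R i) ⟨u', U_le_N b.toBT i j hu'⟩ * (pr (R i) ⟨t s, τ.normR hs⟩)⁻¹ =
      pr (R i) ⟨t s * u' * (t s)⁻¹, U_le_N b.toBT i j hut⟩ := rfl
  rw [e0] at hm0 ⊢
  rw [br_br_cls b.toBT hu hut hw0, ne_eq, cls_eq_one] at hm0
  have hti : cj (t s)⁻¹ (R i) = R i := cj_eq_self_iff.2 (inv_mem (τ.normR hs))
  have htj : cj (t s)⁻¹ (R j) = R j := cj_eq_self_iff.2 (inv_mem (τ.normR' hs))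
  obtain ⟨w', hw', h'⟩ := same_el b c hu hut (inv_mem (τ.memX s hs)) hti htj ⟨w0, hw0, hm0⟩ hw
  refine ⟨cls b.toBT i w' hw', ?_⟩
  rw [br_br_cls b.toBT hu hu' hw, br_br_cls b.toBT hu hut hw', cls_eq]
  have e1 : (t s)⁻¹ * (t s * u' * (t s)⁻¹) * (t s)⁻¹⁻¹ = u' := by group
  rw [e1] at h'
  have hdN : (w' * u * w'⁻¹ * u⁻¹) * (t s * u' * (t s)⁻¹) * (w' * u * w'⁻¹ * u⁻¹)⁻¹ * (t s * u' * (t s)⁻¹)⁻¹ ∈
      normalizer (R i : Set G) := b.W_le_N i (cm_W (U_le_N b.toBT i j hut) (cm_W (U_le_N b.toBT i j hu) hw'))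
  set d' := (w' * u * w'⁻¹ * u⁻¹) * (t s * u' * (t s)⁻¹) * (w' * u * w'⁻¹ * u⁻¹)⁻¹ * (t s * u' * (t s)⁻¹)⁻¹
  set d := (w * u * w⁻¹ * u⁻¹) * u' * (w * u * w⁻¹ * u⁻¹)⁻¹ * u'⁻¹
  have e2 : d⁻¹ * d' = d'⁻¹ * (d * d'⁻¹)⁻¹ * d' := by group
  rw [e2]
  exact conj_inv_mem_of_normalizer hdN (inv_mem h')

theorem exists_ne' [Finite F] (hq : 4 ≤ Nat.card F) : ∃ a : F, a ≠ 0 ∧ a ≠ 1 := by
  by_contra hcon
  push Not at hcon
  have h1 := Nat.card_le_card_of_surjective (fun x : Bool => if x then (1 : F) else 0) (by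
    intro y
    by_cases hy : y = 0
    · exact ⟨false, by simp [hy]⟩
    · exact ⟨true, by simp [hcon y hy]⟩)
  rw [Nat.card_eq_fintype_card (α := Bool), Fintype.card_bool] at h1
  omega

/-- **The cubic module of `H = N(R i)/O₂(N(R i))`.** -/
theorem cub [Finite G] [Finite F] [CharP F 2] (b : BTC V R) (hq : 4 ≤ Nat.card F) (c : Coord V R i j vv w1 w2)
    (τ : TorD V R i j vv t) : Cub (rho b.toBT i) (AA V R i j) (TT τ) (eV b.toBT i) where
  sq2 := sq2 b.toBT i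
  Ae _ ha _ hm := Ae b.toBT ha hm
  line0 _ ha _ hx m := line0 b τ ha hx m
  line1 _ ha _ ha' _ hx m := line1 b.toBT τ ha ha' hx m
  full _ ha _ ha' h _ hy := full b c ha ha' h hy
  same _ ha _ ha' _ hx _ h m := same b c τ ha ha' hx h m
  lemN _ ha ha1 _ hh hc _ hm := lemN_rho b (exists_ne' hq) c τ ha ha1 hh hc hm
  nrm _ hh _ ha := nrm b.toBT c.ne hh ha
  card h := card_le b c τ h

end fields

end Cfsg.Agent.Omega.Lie.CubQ

end
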